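import Cfsg.Agent.Lib.Pres.U3B

/-!
The centre of a special unitary group is cyclic.
-/

set_option autoImplicit false

namespace Cfsg.Lib.Pres

open Cfsg.Lib.Forms Cfsg.Lib.Forms.Form Subgroup Module

variable {F : Type*} [Field F] {σ : F →+* F} {q : ℕ} (h : IsConj σ q)

theorem isCyclic_center_su {V : Type*} [AddCommGroup V] [Module F V] [FiniteDimensional F V] {D : Form h.kind V}
    (hD : D.Nondeg) (hn : 2 ≤ finrank F V) : IsCyclic (center D.det.ker) := by
  have := h.finite
  obtain ⟨e, f, hef⟩ := Herm.exists_isHyp hD hn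
  choose c hc using fun g : center D.det.ker => (hef.mem_center_iff hD (Herm.rich D 3) det_eich _).1 g.2
  have h1 : ∀ g k, c (g * k) = c g * c k := fun g k => smul_left_injective F hef.e_ne_zero (by
    simp only [← hc, mul_smul, ← map_smul]; rfl)
  have h2 : c 1 = 1 := smul_left_injective F hef.e_ne_zero (by simp only [← hc, one_smul]; rfl)
  have h3 : Function.Injective (⟨⟨c, h2⟩, h1⟩ : _ →* F) := (injective_iff_map_eq_one _).2 fun g e =>
    Subtype.ext (Subtype.ext (isom_ext fun x => by rw [hc, show c g = 1 from e, one_smul]; rfl))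
  have := Finite.of_injective _ h3
  exact isCyclic_of_injective_ringHom _ h3

include h

theorem Prs.su {n g r : ℕ} (hn : 2 ≤ n) (H : Prs (SU n F q) g r) : Prs (PSU n F q) g (r + 1) :=
  have := isCyclic_center_su h (stdHerm_nondeg h (Fin n)) (by simpa)
  (H.map (suEquiv h n)).quot_center.map (psuEquiv h n).symm

theorem prs_SU_three (hq : q ≠ 2) : Prs (SU 3 F q) 3 22 :=
  let ⟨e⟩ := U3.nonempty_su h; (U3.prs_SU3 h hq).map e.symm

end Cfsg.Lib.Pres
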