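import Cfsg.Agent.Lib.Pres.Basic
import Cfsg.Agent.Lib.Linear.SymPres

/-!
Three-cycles in alternating groups: Carmichael's presentation, generation, transitivity.
-/

set_option autoImplicit false

namespace Cfsg.Lib.Pres

open Cfsg.Lib.Linear Equiv Subgroup

variable {α β : Type*} [Fintype α] [DecidableEq α] [Fintype β] [DecidableEq β] {Q : Type*} [Group Q]
  {a b c i : α} {σ : Perm α} {ε : ℤ}

/-- The three-cycle `(a b c)`. -/
def c3 (a b c : α) : alternatingGroup α :=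
  ⟨if a ≠ b ∧ c ≠ b then cyc3 a b c else 1, by
    split_ifs with h; exacts [sign_swap_mul_swap h.1 h.2.symm, one_mem _]⟩

theorem c3_val (h : a ≠ b) (h' : c ≠ b) : (c3 a b c).1 = cyc3 a b c := if_pos ⟨h, h'⟩

theorem c3_eq (hab : a ≠ b) (i : {i // i ≠ a ∧ i ≠ b}) : altCyc hab i = c3 a b i :=
  Subtype.ext (c3_val hab i.2.2).symm

theorem c3_fix {x : α} (h1 : x ≠ a) (h2 : x ≠ b) (h3 : x ≠ c) : (c3 a b c).1 x = x := by
  simp only [c3]; split_ifs <;> simp [cyc3, swap_apply_of_ne_of_ne, h1, h2, h3]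

/-- Conjugation by a permutation. -/
def cj (σ : Perm α) : alternatingGroup α →* alternatingGroup α := (MulAut.conjNormal σ).toMonoidHom

theorem cj_val (σ : Perm α) (g : alternatingGroup α) : (cj σ g).1 = σ * g.1 * σ⁻¹ := rfl

theorem cj_coe (σ g : alternatingGroup α) : cj σ.1 g = σ * g * σ⁻¹ := rfl

theorem cj_mul (σ τ : Perm α) (g : alternatingGroup α) : cj (σ * τ) g = cj σ (cj τ g) :=
  Subtype.ext (by simp [cj_val, mul_assoc])

theorem cj_c3 (σ : Perm α) (a b c : α) : cj σ (c3 a b c) = c3 (σ a) (σ b) (σ c) := by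
  apply Subtype.ext
  simp only [cj_val, c3, ne_eq, EmbeddingLike.apply_eq_iff_eq]
  split_ifs
  · simp [cyc3, swap_apply_apply, mul_assoc]
  · simp

theorem c3_swap (h1 : a ≠ b) (h2 : c ≠ a) (h3 : c ≠ b) : c3 b a c = (c3 a b c)⁻¹ := by
  rw [eq_inv_iff_mul_eq_one]
  ext x
  simp only [coe_mul, c3_val h1 h3, c3_val h1.symm h2, cyc3, Perm.mul_apply, swap_apply_def,
    OneMemClass.coe_one, Perm.one_apply]
  grind

/-- `σ` fixes `a` and `b` or interchanges them, with sign `ε`. -/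
def Tw (σ : Perm α) (a b : α) (ε : ℤ) : Prop :=
  σ a = a ∧ σ b = b ∧ ε = 1 ∨ σ a = b ∧ σ b = a ∧ ε = -1

omit [Fintype α] [DecidableEq α] in
theorem Tw.ne (h : Tw σ a b ε) (h1 : i ≠ a) (h2 : i ≠ b) : σ i ≠ a ∧ σ i ≠ b := by
  have := @σ.injective
  unfold Tw at h; grind [Function.Injective]

theorem Tw.cj (h : Tw σ a b ε) (hab : a ≠ b) (h1 : i ≠ a) (h2 : i ≠ b) :
    cj σ (c3 a b i) = c3 a b (σ i) ^ ε := by
  have := h.ne h1 h2
  rcases h with ⟨h3, h4, rfl⟩ | ⟨h3, h4, rfl⟩ <;> simp [cj_c3, h3, h4, c3_swap hab this.1 this.2]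

omit [Fintype α] [DecidableEq α] in
theorem Tw.pm (h : Tw σ a b ε) : ε = 1 ∨ ε = -1 := h.imp (·.2.2) (·.2.2)

theorem zpow_pm (h : ε = 1 ∨ ε = -1) (x : Q) : (x ^ ε) ^ ε = x := by rcases h with rfl | rfl <;> simp

theorem alt_top (hab : a ≠ b) {H : Subgroup (alternatingGroup α)}
    (h : ∀ i, i ≠ a → i ≠ b → c3 a b i ∈ H) : H = ⊤ := by
  rw [eq_top_iff, ← closure_altCyc hab, closure_le]
  rintro _ ⟨i, rfl⟩
  exact c3_eq hab i ▸ h i i.2.1 i.2.2

theorem alt_ext (hab : a ≠ b) {φ ψ : alternatingGroup α →* Q}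
    (h : ∀ i, i ≠ a → i ≠ b → φ (c3 a b i) = ψ (c3 a b i)) (g : alternatingGroup α) : φ g = ψ g :=
  show g ∈ φ.eqLocus ψ from alt_top hab (H := φ.eqLocus ψ) h ▸ mem_top g

/-- The relation `(x y)² = 1`. -/
def PR (x y : Q) : Prop := (x * y) ^ 2 = 1

theorem PR.symm {x y : Q} (h : PR x y) : PR y x := mul_pow_comm_eq_one h

theorem PR.map {Q' : Type*} [Group Q'] (φ : Q →* Q') {x y : Q} (h : PR x y) : PR (φ x) (φ y) := by
  rw [PR, ← map_mul, ← map_pow, h, map_one]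

theorem PR.conj {x y : Q} (h : PR x y) (g : Q) : PR (g * x * g⁻¹) (g * y * g⁻¹) :=
  h.map (MulAut.conj g).toMonoidHom

theorem PR.zpow {x y : Q} (h : PR x y) (hε : ε = 1 ∨ ε = -1) : PR (x ^ ε) (y ^ ε) := by
  rcases hε with rfl | rfl
  exacts [by simpa using h, by simpa [PR] using inv_mul_inv_pow_eq_one h]

theorem exists_hom_c3 (hab : a ≠ b) (x : α → Q) (h1 : ∀ i, i ≠ a → i ≠ b → x i ^ 3 = 1)
    (h2 : ∀ i j, i ≠ a → i ≠ b → j ≠ a → j ≠ b → i ≠ j → PR (x i) (x j)) :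
    ∃ φ : alternatingGroup α →* Q, ∀ i, i ≠ a → i ≠ b → φ (c3 a b i) = x i := by
  obtain ⟨φ, hφ⟩ := exists_hom_carmichael hab (fun i => x i) ⟨fun i _ => h1 i i.2.1 i.2.2,
    fun i _ j _ h => h2 i j i.2.1 i.2.2 j.2.1 j.2.2 (Subtype.coe_injective.ne h)⟩
  exact ⟨φ, fun i h h' => c3_eq hab ⟨i, h, h'⟩ ▸ hφ _⟩

theorem c3_cube (hab : a ≠ b) (h1 : i ≠ a) (h2 : i ≠ b) : c3 a b i ^ 3 = 1 :=
  c3_eq hab ⟨i, h1, h2⟩ ▸ (carm_altCyc hab).cube _ trivial

theorem c3_pr (hab : a ≠ b) {j : α} (h1 : i ≠ a) (h2 : i ≠ b) (h3 : j ≠ a) (h4 : j ≠ b) (h : i ≠ j) :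
    PR (c3 a b i) (c3 a b j) :=
  c3_eq hab ⟨i, h1, h2⟩ ▸ c3_eq hab ⟨j, h3, h4⟩ ▸
    (carm_altCyc hab).sq _ trivial _ trivial fun e => h (congrArg Subtype.val e)

theorem normalClosure_c3 (hab : a ≠ b) (h1 : i ≠ a) (h2 : i ≠ b) : normalClosure {c3 a b i} = ⊤ := by
  refine alt_top hab fun j h3 h4 => (QuotientGroup.eq_one_iff _).1 ?_
  have h5 := (QuotientGroup.eq_one_iff (N := normalClosure {c3 a b i}) _).2 (subset_normalClosure rfl)
  rcases eq_or_ne i j with rfl | h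
  · exact h5
  have h6 := (c3_pr hab h1 h2 h3 h4 h).map (QuotientGroup.mk' (normalClosure {c3 a b i}))
  have h7 := congrArg (QuotientGroup.mk' (normalClosure {c3 a b i})) (c3_cube hab h3 h4)
  rw [PR, QuotientGroup.mk'_apply, h5, one_mul] at h6
  rwa [map_pow, pow_succ, h6, one_mul] at h7

theorem mem_or (σ : Perm α) (hab : a ≠ b) :
    σ ∈ alternatingGroup α ∨ σ * swap a b ∈ alternatingGroup α := by
  rcases Int.units_eq_one_or (Perm.sign σ) with h | h <;> simp [Perm.mem_alternatingGroup, h, hab]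

theorem exists_even (hab : a ≠ b) (ha : σ a = a) (hb : σ b = b) : ∃ (d : alternatingGroup α) (ε : ℤ),
    Tw d.1 a b ε ∧ ∀ x, x ≠ a → x ≠ b → d.1 x = σ x := by
  rcases mem_or σ hab with h | h
  · exact ⟨⟨σ, h⟩, 1, .inl ⟨ha, hb, rfl⟩, fun _ _ _ => rfl⟩
  · exact ⟨⟨_, h⟩, -1, .inr (by simp [ha, hb]), fun x h h' => by simp [swap_apply_of_ne_of_ne h h']⟩

theorem alt_gen2 (hab : a ≠ b) (h1 : i ≠ a) (h2 : i ≠ b) :
    ∃ d : alternatingGroup α, closure {c3 a b i, d} = ⊤ := by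
  obtain ⟨f, hf, hs⟩ := (Finset.univ.filter fun x => x ≠ a ∧ x ≠ b).exists_cycleOn
  obtain ⟨d, ε, h3, h4⟩ := exists_even (σ := f) hab (Perm.notMem_support.1 fun h => by simpa using hs h)
    (Perm.notMem_support.1 fun h => by simpa using hs h)
  refine ⟨d, alt_top hab fun j h5 h6 => ?_⟩
  obtain ⟨k, -, rfl⟩ := hf.exists_pow_eq (a := i) (b := j) (by simp [h1, h2]) (by simp [h5, h6])
  clear h5 h6
  suffices ((f ^ k) i ≠ a ∧ (f ^ k) i ≠ b) ∧ c3 a b ((f ^ k) i) ∈ closure {c3 a b i, d} from this.2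
  induction k with
  | zero => exact ⟨⟨h1, h2⟩, subset_closure (.inl rfl)⟩
  | succ k ih =>
    rw [pow_succ', Perm.mul_apply, ← h4 _ ih.1.1 ih.1.2, ← zpow_pm h3.pm (c3 a b (d.1 _)),
      ← h3.cj hab ih.1.1 ih.1.2, cj_coe]
    have hd : d ∈ closure {c3 a b i, d} := subset_closure (.inr rfl)
    exact ⟨h3.ne ih.1.1 ih.1.2, zpow_mem (mul_mem (mul_mem hd ih.2) (inv_mem hd)) _⟩

variable (α) in
theorem alt_two : ∃ s t : alternatingGroup α, closure {s, t} = ⊤ := by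
  by_cases h : ∃ a b : α, a ≠ b
  · obtain ⟨a, b, h⟩ := h
    by_cases h' : ∃ i, i ≠ a ∧ i ≠ b
    · obtain ⟨i, h1, h2⟩ := h'
      exact ⟨_, alt_gen2 h h1 h2⟩
    · exact ⟨1, 1, alt_top h fun i h1 h2 => absurd ⟨i, h1, h2⟩ h'⟩
  · have : Subsingleton α := ⟨by simpa using h⟩
    exact ⟨1, 1, Subsingleton.elim _ _⟩

theorem stab_two (a b : α) : ∃ s t : alternatingGroup α, (s.1 a = a ∧ s.1 b = b) ∧ (t.1 a = a ∧ t.1 b = b) ∧
    ∀ g : alternatingGroup α, g.1 a = a → g.1 b = b → g ∈ closure {s, t} := by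
  obtain ⟨s, t, h⟩ := alt_two {x // x ≠ a ∧ x ≠ b}
  let f : alternatingGroup {x // x ≠ a ∧ x ≠ b} →* alternatingGroup α :=
    (Perm.ofSubtype.comp (Subgroup.subtype _)).codRestrict _ fun g =>
      (Perm.sign_ofSubtype g.1).trans g.2
  have h1 : ∀ g, (f g).1 a = a ∧ (f g).1 b = b := fun g =>
    ⟨Perm.ofSubtype_apply_of_not_mem _ (by simp), Perm.ofSubtype_apply_of_not_mem _ (by simp)⟩
  refine ⟨f s, f t, h1 s, h1 t, fun g ha hb => ?_⟩
  have h2 : ∀ x, (g.1 x ≠ a ∧ g.1 x ≠ b) ↔ x ≠ a ∧ x ≠ b := fun x => by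
    have := @g.1.injective
    grind [Function.Injective]
  have h3 : ∀ x, g.1 x ≠ x → x ≠ a ∧ x ≠ b := by grind
  rw [← Set.image_pair, ← MonoidHom.map_closure, h]
  exact ⟨⟨g.1.subtypePerm h2, (Perm.sign_subtypePerm _ _ h3).trans g.2⟩, trivial,
    Subtype.ext (Perm.ofSubtype_subtypePerm h2 h3)⟩

theorem exists_alt {κ : Type*} [Finite κ] {f g : κ → α} (hf : Function.Injective f) (hg : Function.Injective g)
    (hab : a ≠ b) : ∃ σ : alternatingGroup α, (∀ i, σ.1 (f i) = g i) ∨ ∀ i, σ.1 (swap a b (f i)) = g i := by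
  obtain ⟨τ, hτ⟩ := Perm.exists_extending_pair f g hf hg
  rcases mem_or τ hab with h | h
  exacts [⟨⟨τ, h⟩, .inl hτ⟩, ⟨⟨_, h⟩, .inr (by simpa using hτ)⟩]

theorem exists_alt' {k : ℕ} {f g : Fin k → α} (hf : Function.Injective f) (hg : Function.Injective g)
    (hk : k + 2 ≤ Fintype.card α) : ∃ σ : alternatingGroup α, ∀ i, σ.1 (f i) = g i := by
  obtain ⟨a, ha, b, hb, hab⟩ := Finset.one_lt_card.1 (show 1 < (Finset.univ.image f)ᶜ.card by
    rw [Finset.card_compl, Finset.card_image_of_injective _ hf]; simp; omega)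
  simp only [Finset.mem_compl, Finset.mem_image, Finset.mem_univ, true_and, not_exists] at ha hb
  obtain ⟨σ, h⟩ := exists_alt hf hg hab
  exact ⟨σ, by simpa only [swap_apply_of_ne_of_ne (ha _) (hb _), or_self] using h⟩

/-- Permutations of the second summand. -/
def up : Perm β →* Perm (α ⊕ β) := (Perm.sumCongrHom α β).comp (MonoidHom.inr _ _)

omit [Fintype α] [DecidableEq α] [Fintype β] [DecidableEq β] in
@[simp] theorem up_inl (τ : Perm β) (x : α) : up τ (.inl x) = .inl x := rfl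

omit [Fintype α] [DecidableEq α] [Fintype β] [DecidableEq β] in
@[simp] theorem up_inr (τ : Perm β) (x : β) : up (α := α) τ (.inr x) = .inr (τ x) := rfl

@[simp] theorem sign_up (τ : Perm β) : Perm.sign (up (α := α) τ) = Perm.sign τ :=
  (Perm.sign_sumCongr 1 τ).trans (by simp)

/-- Even permutations of the second summand. -/
def upA : alternatingGroup β →* alternatingGroup (α ⊕ β) :=
  (up.comp (Subgroup.subtype _)).codRestrict _ fun g => (sign_up g.1).trans g.2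

theorem upA_val (g : alternatingGroup β) : (upA (α := α) g).1 = up g.1 := rfl

theorem upA_c3 (a b c : β) : upA (α := α) (c3 a b c) = c3 (.inr a) (.inr b) (.inr c) := by
  apply Subtype.ext
  simp only [upA_val, c3, ne_eq, Sum.inr.injEq]
  split_ifs
  · simp only [cyc3, map_mul]
    exact congrArg₂ _ (Perm.sumCongr_one_swap _ _) (Perm.sumCongr_one_swap _ _)
  · simp

theorem upA_cj (τ : Perm β) (g : alternatingGroup β) : upA (α := α) (cj τ g) = cj (up τ) (upA g) :=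
  Subtype.ext (by simp [upA_val, cj_val])

end Cfsg.Lib.Pres
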