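import Cfsg.Agent.Lib.Pres.Alt0
import Cfsg.Agent.Lib.Pres.U

/-!
A presentation of `A_{p+2}` with two generators and four relators.
-/

set_option autoImplicit false

namespace Cfsg.Lib.Pres

open Cfsg.Lib.Linear Equiv Subgroup

variable {Q : Type*} [Group Q]

theorem presLE_univ {G : Type*} [Group G] {ι : Type} (a : ι → G) (ha : closure (Set.range a) = ⊤)
    (S : List (FreeGroup ι)) (hS : ∀ s ∈ S, FreeGroup.lift a s = 1)
    (H : ∀ (Q : Type) [Group Q] (x : ι → Q), (∀ s ∈ S, FreeGroup.lift x s = 1) →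
      ∃ φ : G →* Q, ∀ i, φ (a i) = x i) : PresLE a S.length :=
  let ⟨φ, hφ⟩ := H (PresentedGroup {r | r ∈ S}) PresentedGroup.of fun _ hs => lift_of_eq_one hs
  presLE_of_list S (isPres_of_hom ha hS φ hφ)

theorem sq_cube {x y : Q} (h1 : y ^ 3 = x ^ 3) (h2 : x ^ 3 = (x * y) ^ 2) : (x ^ 3) ^ 2 = 1 := by
  have h3 : y⁻¹ * x = x * y * x⁻¹ := by
    rw [eq_mul_inv_iff_mul_eq, mul_assoc, inv_mul_eq_iff_eq_mul, ← mul_right_inj x]
    simpa [pow_succ, mul_assoc] using h2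
  have h4 : (y⁻¹ * x)⁻¹ = y * x * y⁻¹ := by
    rw [mul_inv_rev, inv_inv, eq_mul_inv_iff_mul_eq, mul_assoc, inv_mul_eq_iff_eq_mul, ← mul_left_inj y]
    simpa [pow_succ, mul_assoc] using h1.trans h2
  have h5 : (y⁻¹ * x) ^ 3 = x ^ 3 := by rw [h3, conj_pow, h1]; group
  have h6 : ((y⁻¹ * x) ^ 3)⁻¹ = x ^ 3 := by rw [← inv_pow, h4, conj_pow, ← h1]; group
  rw [sq]; nth_rewrite 1 [← h6]; rw [h5, inv_mul_cancel]

variable {p : ℕ} [hp : Fact p.Prime]

theorem pow_val_natCast {a : Q} (h : a ^ p = 1) (k : ℕ) : a ^ (k : ZMod p).val = a ^ k := by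
  rw [ZMod.val_natCast, ← pow_eq_pow_mod k h]

theorem base_rel {a z b : Q} {r : ℕ} {ε : ℤ} (hr : Gen (r : ZMod p)) (he : Even r) (hε : ε = 1 ∨ ε = -1)
    (h1 : a ^ p = z ^ 3) (h2 : z ^ 3 = (z * (a * z * a⁻¹)) ^ 2) (h3 : b * a * b⁻¹ = a ^ r)
    (h4 : b * z * b⁻¹ = z ^ ε) : z ^ 3 = 1 ∧ ∀ i j : ZMod p, i ≠ j →
      PR (a ^ i.val * z * (a ^ i.val)⁻¹) (a ^ j.val * z * (a ^ j.val)⁻¹) := by
  have h5 := sq_cube (by rw [conj_pow, ← h1]; group) h2
  have h6 : z ^ 3 = 1 := by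
    obtain ⟨k, rfl⟩ := he
    have : b * z ^ 3 * b⁻¹ = 1 := by
      rw [← h1, ← conj_pow, h3, ← pow_mul, mul_comm, pow_mul, h1, ← two_mul, pow_mul, h5, one_pow]
    simpa using this
  rw [h6] at h1 h2
  have h7 : ∀ i j : ZMod p, a ^ (i + j).val = a ^ i.val * a ^ j.val := fun i j => by
    rw [← pow_add, ← pow_val_natCast h1 (_ + _)]; simp
  have h8 : ∀ k : ℕ, PR z (a ^ ((r : ZMod p) ^ k).val * z * (a ^ ((r : ZMod p) ^ k).val)⁻¹) := fun k => by
    induction k with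
    | zero => simpa [ZMod.val_one, PR] using h2.symm
    | succ k ih =>
      have h9 : a ^ ((r : ZMod p) ^ (k + 1)).val = b * a ^ ((r : ZMod p) ^ k).val * b⁻¹ := by
        rw [← conj_pow, h3, ← pow_mul, ← pow_val_natCast h1 (_ * _), pow_succ']; simp
      convert (ih.conj b).zpow hε using 1
      · rw [h4, zpow_pm hε]
      · nth_rewrite 1 [← zpow_pm hε z]
        rw [h9, ← h4, ← conj_zpow]; group
  refine ⟨h6, fun i j h => ?_⟩
  obtain ⟨k, hk⟩ := hr.2 _ (sub_ne_zero.2 h.symm)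
  convert (h8 k).conj (a ^ i.val) using 1
  rw [hk, ← add_sub_cancel i j, h7, add_sub_cancel]; group

theorem pres_base (h2 : p ≠ 2) {D : Type} [Fintype D] [DecidableEq D] (hD : Fintype.card D = p + 2)
    {α β γ : D} (hab : α ≠ β) (h1 : γ ≠ α) (h1' : γ ≠ β) :
    ∃ a : alternatingGroup D, PresLE ![a, c3 α β γ] 4 := by
  have hodd := hp.out.odd_of_ne_two h2
  obtain ⟨f, hf⟩ : ∃ f : ZMod p ≃ {x // x ≠ α ∧ x ≠ β}, (f 0).1 = γ := by
    have e : ZMod p ≃ {x // x ≠ α ∧ x ≠ β} := Fintype.equivOfCardEq (by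
      have := card_ne_ne hab; rw [ZMod.card]; omega)
    exact ⟨e.trans (swap (e 0) ⟨γ, h1, h1'⟩), by simp⟩
  obtain ⟨c, hc⟩ := exists_gen (ZMod p)
  obtain ⟨r, rfl, he⟩ : ∃ r : ℕ, (r : ZMod p) = c ∧ Even r :=
    ⟨c.val * (p + 1), by simp, hodd.add_one.mul_left _⟩
  have hF : ∀ σ : Perm (ZMod p), σ.extendDomain f α = α ∧ σ.extendDomain f β = β := fun σ =>
    ⟨Perm.extendDomain_apply_not_subtype _ _ (by simp), Perm.extendDomain_apply_not_subtype _ _ (by simp)⟩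
  have hA : ∀ k : ℕ, (Equiv.addLeft (1 : ZMod p)).extendDomain f ^ k =
      (Equiv.addLeft (k : ZMod p)).extendDomain f := fun k => by
    rw [← Perm.extendDomain_pow]; congr 1; ext; simp [Perm.coe_pow]
  have hA' : (Equiv.addLeft (1 : ZMod p)).extendDomain f ^ p = 1 := by rw [hA]; simp
  let a : alternatingGroup D := ⟨(Equiv.addLeft (1 : ZMod p)).extendDomain f, by
    have := congrArg Perm.sign hA'
    rwa [map_pow, Int.units_pow_eq_pow_mod_two, Nat.odd_iff.1 hodd, pow_one, map_one] at this⟩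
  have ha : a ^ p = 1 := Subtype.ext hA'
  have hx : ∀ (k : ℕ) i, a ^ k * c3 α β (f i).1 * (a ^ k)⁻¹ = c3 α β (f (k + i)).1 := fun k i => by
    rw [← cj_coe, cj_c3, coe_pow, hA, (hF _).1, (hF _).2, Perm.extendDomain_apply_image]; rfl
  have hx' : ∀ i : ZMod p, c3 α β (f i).1 = a ^ i.val * c3 α β γ * (a ^ i.val)⁻¹ := fun i => by
    rw [← hf, hx]; simp
  have hg : closure (Set.range fun i => c3 α β (f i).1) = ⊤ :=
    alt_top hab fun x h h' => subset_closure ⟨f.symm ⟨x, h, h'⟩, by simp⟩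
  obtain ⟨b, ε, hb, hb'⟩ := exists_even (σ := (Equiv.mulLeft₀ _ hc.1).extendDomain f) hab (hF _).1 (hF _).2
  replace hb' : ∀ i, b.1 (f i).1 = (f (r * i)).1 := fun i => by
    rw [hb' _ (f i).2.1 (f i).2.2, Perm.extendDomain_apply_image]; rfl
  have hba : b * a * b⁻¹ = a ^ r := by
    rw [mul_inv_eq_iff_eq_mul]
    ext x
    rw [coe_mul, coe_mul, coe_pow, hA, Perm.mul_apply, Perm.mul_apply]
    by_cases h : x ≠ α ∧ x ≠ β
    · obtain ⟨i, rfl⟩ : ∃ i, x = (f i).1 := ⟨f.symm ⟨x, h⟩, by simp⟩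
      simp [a, hb', mul_add]
    · have := hF (Equiv.addLeft (r : ZMod p))
      have := hF (Equiv.addLeft (1 : ZMod p))
      unfold Tw at hb; grind
  let X : ZMod p → FreeGroup (Fin 2) := fun i => .of 0 ^ i.val * .of 1 * (.of 0 ^ i.val)⁻¹
  let B := word hg X b
  refine ⟨a, presLE_univ _ ?_ [.of 0 ^ p * (.of 1 ^ 3)⁻¹,
    .of 1 ^ 3 * ((.of 1 * (.of 0 * .of 1 * (.of 0)⁻¹)) ^ 2)⁻¹, B * .of 0 * B⁻¹ * (.of 0 ^ r)⁻¹,
    B * .of 1 * B⁻¹ * (.of 1 ^ ε)⁻¹] ?_ fun Q _ x h => ?_⟩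
  · rw [eq_top_iff, ← hg, closure_le]
    rintro _ ⟨i, rfl⟩
    have := pow_mem (subset_closure (k := Set.range ![a, c3 α β γ]) ⟨0, rfl⟩) i.val
    simp only [hx']
    exact mul_mem (mul_mem this (subset_closure ⟨1, rfl⟩)) (inv_mem this)
  · have : FreeGroup.lift ![a, c3 α β γ] B = b := map_word hg _ (MonoidHom.id _) (by simp [X, hx']) b
    have h3 := c3_pr hab h1 h1' (f 1).2.1 (f 1).2.2 (hf ▸ Subtype.coe_injective.ne (by simp))
    rw [hx', ZMod.val_one, pow_one, PR] at h3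
    simpa [this, ha, hba, c3_cube hab h1 h1', mul_inv_eq_one, ← cj_coe, hb.cj hab h1 h1',
      show b.1 γ = γ by simpa [hf] using hb' 0] using h3
  simp only [List.forall_mem_cons, map_mul, map_inv, map_pow, map_zpow, FreeGroup.lift_apply_of,
    mul_inv_eq_one] at h
  obtain ⟨h3, h4⟩ := base_rel hc he hb.pm h.1 h.2.1 h.2.2.1 h.2.2.2.1
  obtain ⟨φ, hφ⟩ := exists_hom_c3 hab (fun d => if h : d ≠ α ∧ d ≠ β then
    FreeGroup.lift x (X (f.symm ⟨d, h⟩)) else 1) (fun i h h' => by simp [h, h', X, h3])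
    fun i j h h' e e' n => by
      simpa [h, h', e, e', X] using h4 _ _ (f.symm.injective.ne fun e => n (congrArg Subtype.val e))
  replace hφ : ∀ i, φ (c3 α β (f i).1) = FreeGroup.lift x (X i) := fun i => by
    rw [hφ _ (f i).2.1 (f i).2.2, dif_pos (f i).2]; simp
  have h5 : x 0 ^ p = 1 := h.1.trans h3
  have h6 : ∀ g, Commute ((φ a)⁻¹ * x 0) (φ g) := fun g => by
    have := DFunLike.congr_fun (hom_ext_of_closure hg (φ := (MulAut.conj (x 0)).toMonoidHom.comp φ)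
      (ψ := φ.comp (cj a.1)) fun i => by
        have := hx 1 i
        rw [pow_one] at this
        simp only [MonoidHom.comp_apply, cj_coe, this, hφ, X, map_mul, map_inv, map_pow,
          FreeGroup.lift_apply_of]
        rw [← ZMod.natCast_zmod_val i, ← Nat.cast_add, pow_val_natCast h5, pow_add]
        simp only [MulEquiv.coe_toMonoidHom, MulAut.conj_apply, ZMod.natCast_zmod_val]; group) g
    simp only [MonoidHom.comp_apply, cj_coe, map_mul, map_inv] at this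
    rw [Commute, SemiconjBy, mul_assoc, inv_mul_eq_iff_eq_mul, ← mul_assoc, ← mul_assoc, ← this]
    simp
  have h7 := h.2.2.1
  rw [map_word hg _ φ hφ] at h7
  have h8 : φ (c3 α β γ) = x 1 := by simpa [hf, X] using hφ 0
  suffices φ a = x 0 from ⟨φ, fun i => by fin_cases i <;> assumption⟩
  obtain ⟨y, hy⟩ : ∃ y, x 0 = φ a * y := ⟨(φ a)⁻¹ * x 0, by simp⟩
  simp only [hy, inv_mul_cancel_left] at h5 h6 h7
  rw [(h6 a).symm.mul_pow, ← map_pow] at h5 h7
  rw [ha, map_one, one_mul] at h5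
  rw [← hba, ← mul_assoc, ← map_inv, mul_assoc _ y, (h6 _).eq, ← mul_assoc, ← map_mul, ← map_mul,
    mul_right_inj] at h7
  obtain ⟨k, hk⟩ := hc.2 (2 : ℕ) (by
    rw [Ne, ZMod.natCast_eq_zero_iff, Nat.prime_dvd_prime_iff_eq hp.out Nat.prime_two]; exact h2)
  have h9 : ∀ k, y ^ r ^ k = y := fun k => by
    induction k with
    | zero => simp
    | succ k ih => rw [pow_succ, pow_mul, ih, ← h7]
  have := h9 k
  rw [← pow_val_natCast h5, Nat.cast_pow, hk, pow_val_natCast h5, sq, mul_eq_left] at this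
  rw [hy, this, mul_one]

end Cfsg.Lib.Pres
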