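import Cfsg.Agent.Lib.Pres.AltB

/-!
Gluing two alternating groups along a common alternating subgroup.
-/

set_option autoImplicit false

namespace Cfsg.Lib.Pres

open Cfsg.Lib.Linear Equiv Subgroup Monoid Sum

variable {Q : Type*} [Group Q]

theorem exists_ext2 {G : Type*} [Group G] {N : Subgroup G} [N.Normal] (hN : N.index = 2) (ψ : N →* Q)
    {v : G} (hv : v ∉ N) (hv2 : v * v = 1) {V : Q} (hV : V * V = 1)
    (h : ∀ σ : N, V * ψ σ * V⁻¹ = ψ (MulAut.conjNormal v σ)) :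
    ∃ Ψ : G →* Q, (∀ σ : N, Ψ σ = ψ σ) ∧ Ψ v = V := by
  classical
  have h1 : ∀ g, g ∉ N → g * v ∈ N := fun g hg => by simp [mul_mem_iff_of_index_two hN, hg, hv]
  let f : G → Q := fun g => if hg : g ∈ N then ψ ⟨g, hg⟩ else ψ ⟨g * v, h1 g hg⟩ * V
  have h2 : ∀ σ : N, f σ = ψ σ := fun σ => dif_pos σ.2
  have h3 : ∀ σ : N, f (σ * v) = ψ σ * V := fun σ => by
    have : σ * v ∉ N := by simp [mul_mem_iff_of_index_two hN, hv]
    simp only [f, dif_neg this, mul_assoc, hv2, mul_one]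
  have h4 : ∀ g : G, ∃ σ : N, g = σ ∨ g = σ * v := fun g => by
    by_cases hg : g ∈ N
    exacts [⟨⟨g, hg⟩, .inl rfl⟩, ⟨⟨_, h1 g hg⟩, .inr (by simp [mul_assoc, hv2])⟩]
  refine ⟨MonoidHom.mk' f fun a b => ?_, h2, by simpa using h3 1⟩
  obtain ⟨a, rfl | rfl⟩ := h4 a <;> obtain ⟨b, rfl | rfl⟩ := h4 b
  · rw [← coe_mul, h2, h2, h2, map_mul]
  · rw [← mul_assoc, ← coe_mul, h2, h3, h3, map_mul, mul_assoc]
  · rw [show a * v * b = ↑(a * MulAut.conjNormal v b) * v by simp [mul_assoc], h3, h3, h2, map_mul, ← h]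
    group
  · rw [show a * v * (b * v) = ↑(a * MulAut.conjNormal v b) by
      simp [mul_assoc, inv_eq_of_mul_eq_one_left hv2], h2, h3, h3, map_mul, ← h,
      inv_eq_of_mul_eq_one_left hV]
    group

/-- Interchanging the first two summands. -/
def sw (C X : Type*) : Perm (C ⊕ C ⊕ X) :=
  Function.Involutive.toPerm (Sum.elim (inr ∘ inl) (Sum.elim inl (inr ∘ inr))) (by
    rintro (_ | _ | _) <;> rfl)

/-- Interchanging the first two summands and acting on the third. -/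
def vv (C : Type*) {X : Type*} (τ : Perm X) : Perm (C ⊕ C ⊕ X) := sw C X * up (up τ)

section
variable {C X : Type*} (τ : Perm X)
@[simp] theorem vv_inl (c : C) : vv C τ (inl c) = inr (inl c) := rfl
@[simp] theorem vv_inr_inl (c : C) : vv C τ (inr (inl c)) = inl c := rfl
@[simp] theorem vv_inr_inr (x : X) : vv C τ (inr (inr x)) = inr (inr (τ x)) := rfl
end

variable {C R : Type} [Fintype C] [DecidableEq C] [Fintype R] [DecidableEq R]

omit [Fintype C] [DecidableEq C] [Fintype R] [DecidableEq R] in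
theorem Tw.up {τ : Perm R} {a b : R} {ε : ℤ} (h : Tw τ a b ε) : Tw (up (α := C) τ) (inr a) (inr b) ε := by
  simpa [Tw] using h

omit [Fintype C] [DecidableEq C] [Fintype R] [DecidableEq R] in
theorem Tw.sw {τ : Perm R} {a b : R} {ε : ℤ} (h : Tw τ a b ε) :
    Tw (vv C τ) (inr (inr a)) (inr (inr b)) ε := by
  simpa [Tw] using h

theorem cj_sw (τ : Perm R) (σ : alternatingGroup R) :
    cj (vv C τ) (upA (upA σ)) = upA (upA (cj τ σ)) := by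
  rw [vv, cj_mul, ← upA_cj, ← upA_cj, Subtype.ext_iff, cj_val, mul_inv_eq_iff_eq_mul]
  ext1 x; rcases x with _ | _ | _ <;> rfl

omit [Fintype C] [DecidableEq C] [Fintype R] [DecidableEq R] in
theorem sw_sq {τ : Perm R} (h : τ * τ = 1) : vv C τ * vv C τ = 1 := by
  ext1 x; rcases x with _ | _ | x
  exacts [rfl, rfl, congrArg (inr ∘ inr) (DFunLike.congr_fun h x)]

variable {τ : Perm (C ⊕ R)} {τ' : Perm R} {b₁ b₂ : R} {ε ε' : ℤ} {ℓ : alternatingGroup (C ⊕ C ⊕ R)}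

theorem glue (φ : alternatingGroup (C ⊕ C ⊕ R) →* Q) {V : Q} (hb : b₁ ≠ b₂)
    (hτ : Tw τ (inr b₁) (inr b₂) ε) (hτ' : Tw τ' b₁ b₂ ε') (hℓ : ℓ.1 = vv C τ')
    (hV : V * V = 1) (H1 : ∀ σ, V * φ (upA σ) * V⁻¹ = φ (upA (cj τ σ)))
    (H2 : ∀ σ, V * φ ℓ * V⁻¹ * φ (ℓ * upA σ * ℓ⁻¹) * (V * φ ℓ * V⁻¹)⁻¹ =
      φ (ℓ * upA (cj (up τ') σ) * ℓ⁻¹)) :
    ∃ ψ : alternatingGroup (C ⊕ C ⊕ C ⊕ R) →* Q, (∀ σ, ψ (upA σ) = φ σ) ∧
      ∀ σ, V * ψ σ * V⁻¹ = ψ (cj (vv C τ) σ) := by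
  have hE : (inr b₁ : C ⊕ R) ≠ inr b₂ := by simpa
  have hD : (inr (inr b₁) : C ⊕ C ⊕ R) ≠ inr (inr b₂) := by simpa
  have hΩ : (inr (inr (inr b₁)) : C ⊕ C ⊕ C ⊕ R) ≠ inr (inr (inr b₂)) := by simpa
  have hV' := inv_eq_of_mul_eq_one_left hV
  have hV2 : ∀ x, V * (V * x * V⁻¹) * V⁻¹ = x := fun x => by
    rw [← mul_assoc, ← mul_assoc, hV, mul_assoc, hV', hV, one_mul, mul_one]
  let t := fun d => φ (c3 (inr (inr b₁)) (inr (inr b₂)) d)
  let y : C ⊕ C ⊕ C ⊕ R → Q := Sum.elim (fun c => V * t (inl c) ^ ε * V⁻¹) t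
  have hy : ∀ i, i ≠ inr (inr (inr b₁)) → i ≠ inr (inr (inr b₂)) →
      V * y i * V⁻¹ = y ((vv C τ) i) ^ ε := by
    rintro (c | c | e) h h'
    · exact hV2 _
    · change _ = (V * _ * V⁻¹) ^ ε
      rw [conj_zpow, zpow_pm hτ.pm]; rfl
    · simpa [hτ.cj hE (i := e) (by simpa using h) (by simpa using h'), upA_c3, y, t] using H1 (c3 (inr b₁) (inr b₂) e)
  have hl : ∀ i, i ≠ inr (inr b₁) → i ≠ inr (inr b₂) → φ ℓ * t i * (φ ℓ)⁻¹ = t (ℓ.1 i) ^ ε' :=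
    fun i h h' => by rw [← map_zpow, ← Tw.cj (hℓ ▸ hτ'.sw) hD h h', cj_coe, map_mul, map_mul, map_inv]
  have hL : ∀ c, φ ℓ * y (inl c) * (φ ℓ)⁻¹ = y (inl c) ^ ε' := fun c => by
    have h := H2 (c3 (inr b₁) (inr b₂) (inl c))
    have h' := hl (inr (inl c)) (by simp) (by simp)
    simp only [hτ'.up.cj hE (i := inl c) (by simp) (by simp), up_inl, map_mul, map_inv, map_zpow, upA_c3,
      ← conj_zpow (a := φ ℓ)] at h
    erw [h', hℓ, zpow_pm hτ'.pm] at h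
    replace h := congrArg (fun x => V * (x ^ ε') ^ ε * V⁻¹) h
    simp only [conj_zpow, zpow_pm hτ'.pm] at h
    change φ ℓ * (V * _ * V⁻¹) * _ = (V * _ * V⁻¹) ^ ε'
    rw [conj_zpow, ← zpow_mul, mul_comm ε, zpow_mul]
    refine Eq.trans ?_ h
    rw [← hV2 (φ ℓ)]
    simp [mul_assoc, hV', ← mul_assoc V V, hV]
  have h0 : ∀ i j, i ≠ inr (inr b₁) → i ≠ inr (inr b₂) → j ≠ inr (inr b₁) → j ≠ inr (inr b₂) → i ≠ j →
      PR (t i) (t j) := fun i j h1 h2 h3 h4 h5 => (c3_pr hD h1 h2 h3 h4 h5).map φ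
  have h1 : ∀ c j d, j ≠ inr (inr (inr b₁)) → j ≠ inr (inr (inr b₂)) → j ≠ inl c →
      (vv C τ) j = inr d → PR (y (inl c)) (y j) := fun c j d h h' h'' e => by
    have h2 := hτ.sw.ne h h'
    have h3 := ((h0 (inl c) d (by simp) (by simp) (by simpa [e] using h2.1) (by simpa [e] using h2.2)
      fun e' => h'' ((vv C τ).injective (by rw [e, ← e']; rfl))).zpow hτ.pm).conj V
    rwa [show t d ^ ε = _ from (e ▸ hy j h h').symm, hV2] at h3
  have h2 : ∀ c j, j ≠ inr (inr (inr b₁)) → j ≠ inr (inr (inr b₂)) → j ≠ inl c →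
      PR (y (inl c)) (y j) := by
    rintro c (c' | c' | e) h h' h''
    · exact h1 c _ _ h h' h'' rfl
    · have := ((h1 c (inr (inr (inl c'))) _ (by simp) (by simp) (by simp) rfl).conj (φ ℓ)).zpow hτ'.pm
      erw [hL, hl _ (by simp) (by simp), zpow_pm hτ'.pm, zpow_pm hτ'.pm, hℓ] at this
      exact this
    · exact h1 c _ _ h h' h'' rfl
  obtain ⟨ψ, hψ⟩ := exists_hom_c3 hΩ y (by
    rintro (c | d) h h'
    · change (V * _ * V⁻¹) ^ 3 = 1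
      rw [conj_pow, ← map_zpow, ← map_pow, ← zpow_natCast, ← zpow_mul, mul_comm ε, zpow_mul, zpow_natCast,
        c3_cube hD (by simp) (by simp)]; simp
    · exact (map_pow φ _ 3).symm.trans (by rw [c3_cube hD (by simpa using h) (by simpa using h'), map_one])) (by
    rintro (c | d) j h1 h2' h3 h4 h5
    · exact h2 c j h3 h4 h5.symm
    rcases j with c | e
    · exact (h2 c _ h1 h2' h5).symm
    · exact h0 d e (by simpa using h1) (by simpa using h2') (by simpa using h3) (by simpa using h4)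
        (by simpa using h5))
  refine ⟨ψ, alt_ext hD (φ := ψ.comp upA) fun i h h' => ?_,
    alt_ext hΩ (φ := (MulAut.conj V).toMonoidHom.comp ψ) (ψ := ψ.comp (cj _)) fun i h h' => ?_⟩
  · rw [MonoidHom.comp_apply, upA_c3, hψ _ (by simpa) (by simpa)]; rfl
  · have := hτ.sw.ne h h'
    rw [MonoidHom.comp_apply, MonoidHom.comp_apply, hτ.sw.cj hΩ h h', map_zpow, hψ _ h h',
      hψ _ this.1 this.2, ← hy i h h']; rfl

theorem closure_coprod' {M ι κ : Type*} [Group M] {a : ι → M} (h : closure (Set.range a) = ⊤) :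
    closure (Set.range (Sum.elim (fun i => Coprod.inl (a i)) (lt M (κ := κ)))) = ⊤ := by
  rw [eq_top_iff, ← closure_coprod, closure_le]
  rintro _ (⟨m, rfl⟩ | ⟨k, rfl⟩)
  · have := mem_map_of_mem (Coprod.inl : M →* Coprod M (FreeGroup κ)) (h ▸ mem_top m)
    rw [MonoidHom.map_closure, ← Set.range_comp] at this
    exact closure_mono (by rintro _ ⟨i, rfl⟩; exact ⟨.inl i, rfl⟩) this
  · exact subset_closure ⟨.inr k, rfl⟩

theorem prs_glue {G : Type} [Group G] (j : alternatingGroup (C ⊕ C ⊕ C ⊕ R) →* G) (v : G)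
    {a : alternatingGroup (C ⊕ C ⊕ R)} {z d : alternatingGroup (C ⊕ R)} (hP : PresLE ![a, upA z] 4)
    (hz : z ^ 3 = 1) (hzd : closure {z, d} = ⊤) (hτz : cj τ z = z) (hb : b₁ ≠ b₂)
    (hτ : Tw τ (inr b₁) (inr b₂) ε) (hτ' : Tw τ' b₁ b₂ ε') (hℓ : ℓ.1 = vv C τ')
    (hv : ∀ σ, v * j σ * v⁻¹ = j (cj (vv C τ) σ)) (hv2 : v * v = 1)
    (hg : closure (Set.range j ∪ {v}) = ⊤) (s : Coprod (alternatingGroup (C ⊕ C ⊕ R)) (FreeGroup Unit))
    (hs : ev (j.comp upA) (fun _ => v) s = 1)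
    (H : ∀ (Q : Type) [Group Q] (φ : alternatingGroup (C ⊕ C ⊕ R) →* Q) (V : Q), V * V = 1 →
      (∀ σ, V * φ (upA σ) * V⁻¹ = φ (upA (cj τ σ))) → ev φ (fun _ => V) s = 1 →
      (∀ σ, V * φ ℓ * V⁻¹ * φ (ℓ * upA σ * ℓ⁻¹) * (V * φ ℓ * V⁻¹)⁻¹ = φ (ℓ * upA (cj (up τ') σ) * ℓ⁻¹)) ∧
      ∀ ψ : _ →* Q, (∀ σ, ψ (upA σ) = φ σ) → (∀ σ, V * ψ σ * V⁻¹ = ψ (cj (vv C τ) σ)) →
        ∃ Ψ : G →* Q, (∀ σ, Ψ (j σ) = ψ σ) ∧ Ψ v = V) : Prs G 2 6 := by
  obtain ⟨L, hL, hI⟩ := hP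
  have h0 : ∀ σ, v * j (upA (upA σ)) * v⁻¹ = j (upA (upA (cj τ σ))) := fun σ => by rw [hv, cj_sw]
  have h1 : Commute v (j (upA (upA z)))⁻¹ := Commute.inv_right (mul_inv_eq_iff_eq_mul.1 (by rw [h0, hτz]))
  have h2 : j (upA (upA z)) ^ 3 = 1 := by simp [← map_pow, hz]
  let g := ![j (upA a), v * (j (upA (upA z)))⁻¹]
  have h3 : g 1 ^ 2 = j (upA (upA z)) := by
    change (v * _) ^ 2 = _
    rw [h1.mul_pow, sq v, hv2, one_mul, inv_pow, inv_eq_iff_mul_eq_one, ← pow_succ, h2]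
  have h4 : g 1 ^ 3 = v := by
    change (v * _) ^ 3 = _
    rw [h1.mul_pow, inv_pow, h2, pow_succ, sq, hv2]; simp
  let w := word (closure_coprod' (κ := Unit) hI.closure_eq)
    (Sum.elim ![FreeGroup.of (0 : Fin 2), .of 1 ^ 2] fun _ => .of 1 ^ 3)
  have hw : ∀ (Q : Type) [Group Q] (x : Fin 2 → Q) (φ : _ →* Q), φ a = x 0 → φ (upA z) = x 1 ^ 2 →
      ∀ s, FreeGroup.lift x (w s) = ev φ (fun _ => x 1 ^ 3) s := fun Q _ x φ h h' =>
    map_word _ _ _ (by rintro (i | _); fin_cases i <;> simp [h, h']; simp)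
  have h5 := hw G g (j.comp upA) rfl h3.symm
  have hl : ∀ (Q : Type) [Group Q] (x : Fin 2 → Q) (r : FreeGroup (Fin 2)), FreeGroup.lift x
      (FreeGroup.lift ![.of 0, .of 1 ^ 2] r) = FreeGroup.lift ![x 0, x 1 ^ 2] r := fun Q _ x r => by
    rw [hom_lift_apply]; congr 2; ext i; fin_cases i <;> simp
  refine ⟨g, (presLE_univ g ?_ (w (lt _ () * Coprod.inl (upA d) * (lt _ ())⁻¹ *
    (Coprod.inl (upA (cj τ d)))⁻¹) :: w s :: L.toList.map (FreeGroup.lift ![.of 0, .of 1 ^ 2])) ?_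
    fun Q _ x h => ?_).mono (by simp; omega)⟩
  · have h6 : ∀ s, ev (j.comp upA) (fun _ => v) s ∈ closure (Set.range g) := fun s => by
      rw [← h4, ← h5, ← FreeGroup.range_lift_eq_closure]; exact ⟨_, rfl⟩
    have hΩ : (inr (inr (inr b₁)) : C ⊕ C ⊕ C ⊕ R) ≠ inr (inr (inr b₂)) := by simpa
    have h7 := alt_top hΩ (H := comap j (closure (Set.range g))) (by
      rintro (c | d) - -
      · have := zpow_mem (h6 (lt _ () * Coprod.inl (c3 (inr (inr b₁)) (inr (inr b₂)) (inl c)) *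
          (lt _ ())⁻¹)) ε
        simpa [upA_c3, hv, hτ.sw.cj hΩ, zpow_pm hτ.pm] using this
      · simpa [upA_c3] using h6 (Coprod.inl (c3 (inr (inr b₁)) (inr (inr b₂)) d)))
    rw [eq_top_iff, ← hg, closure_le]
    rintro _ (⟨σ, rfl⟩ | rfl)
    exacts [h7.ge (mem_top σ), by simpa using h6 (lt _ ())]
  · simp only [List.forall_mem_cons, List.forall_mem_map, h5, h4, hs, hl, Finset.mem_toList]
    refine ⟨by simp [h0], trivial, fun r hr => ?_⟩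
    rw [← map_one (j.comp upA), ← hI.rel hr, hom_lift_apply]
    congr 2; ext i; fin_cases i
    exacts [rfl, h3]
  simp only [List.forall_mem_cons, List.forall_mem_map, hl, Finset.mem_toList] at h
  obtain ⟨φ, hφ⟩ := hI.exists_hom h.2.2
  have h6 : φ (upA z) = x 1 ^ 2 := hφ 1
  rw [hw Q x φ (hφ 0) h6, hw Q x φ (hφ 0) h6] at h
  have hV : x 1 ^ 3 * x 1 ^ 3 = 1 := by
    rw [← sq, ← pow_mul, mul_comm, pow_mul, ← h6, ← map_pow, ← map_pow, hz, map_one, map_one]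
  have H1 := DFunLike.congr_fun (MonoidHom.eq_of_eqOn_dense hzd
    (f := (MulAut.conj (x 1 ^ 3)).toMonoidHom.comp (φ.comp upA)) (g := φ.comp (upA.comp (cj τ))) (by
      rintro _ (rfl | rfl)
      · simp [-map_pow, hτz, h6]; group
      · simpa [-map_pow, mul_inv_eq_one] using h.1))
  obtain ⟨H2, H3⟩ := H Q φ _ hV H1 h.2.1
  obtain ⟨ψ, h7, h8⟩ := glue φ hb hτ hτ' hℓ hV H1 H2
  obtain ⟨Ψ, h9, h10⟩ := H3 ψ h7 h8
  refine ⟨Ψ, fun i => ?_⟩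
  fin_cases i
  · exact (h9 _).trans ((h7 _).trans (hφ 0))
  · simp [g, h9, h10, h7, h6]; group

theorem prs_alt_glue {a : alternatingGroup (C ⊕ C ⊕ R)} {z d : alternatingGroup (C ⊕ R)}
    (hP : PresLE ![a, upA z] 4) (hz : z ^ 3 = 1) (hzd : closure {z, d} = ⊤) (hτz : cj (up τ') z = z)
    (hb : b₁ ≠ b₂) (hτ' : Tw τ' b₁ b₂ ε') (h2 : τ' * τ' = 1) (hℓ : ℓ.1 = vv C τ') :
    Prs (alternatingGroup (C ⊕ C ⊕ C ⊕ R)) 2 6 := by
  have h0 : vv C (up τ') * up ℓ.1 * vv C (up τ') = up ℓ.1 * vv C (up τ') * up ℓ.1 := by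
    rw [hℓ]; ext1 x; rcases x with _ | _ | _ | _ <;> rfl
  let v : alternatingGroup (C ⊕ C ⊕ C ⊕ R) := ⟨vv C (up τ'), by
    have := congrArg Perm.sign h0
    simpa [show Perm.sign ℓ.1 = 1 from ℓ.2] using this.symm⟩
  have h1 : v * upA ℓ * v = upA ℓ * v * upA ℓ := Subtype.ext h0
  have h3 : v * v = 1 := Subtype.ext (sw_sq (by rw [← map_mul, h2, map_one]))
  have h4 : ℓ * ℓ = 1 := Subtype.ext (by rw [coe_mul, hℓ]; exact sw_sq h2)
  refine prs_glue (MonoidHom.id _) v hP hz hzd hτz hb hτ'.up hτ' hℓ (fun _ => rfl) h3 (by simp)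
    (lt _ () * Coprod.inl ℓ * lt _ () * (Coprod.inl ℓ * lt _ () * Coprod.inl ℓ)⁻¹)
    (by simp [-mul_inv_rev, h1]) fun Q _ φ V hV H1 h => ⟨fun σ => ?_, fun ψ h5 h6 => ⟨ψ, fun _ => rfl, ?_⟩⟩
  all_goals
    simp only [map_mul, map_inv, ev_lt, ev_inl, mul_inv_eq_one] at h ⊢
    have h7 : V * φ ℓ * V⁻¹ * φ ℓ = φ ℓ * V := by
      rw [inv_eq_of_mul_eq_one_left hV, h, mul_assoc, ← map_mul, h4, map_one, mul_one]
  · rw [← H1]
    calc _ = V * φ ℓ * V⁻¹ * φ ℓ * φ (upA σ) * (V * φ ℓ * V⁻¹ * φ ℓ)⁻¹ := by group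
      _ = _ := by rw [h7]; group
  · rw [← mul_right_inj (φ ℓ), ← h7, ← h5, h6, ← map_mul, ← map_mul]
    change ψ _ = ψ (v * _ * v⁻¹ * _)
    rw [inv_eq_of_mul_eq_one_left h3, h1, mul_assoc, ← map_mul, h4, map_one, mul_one]

theorem prs_sym_glue {a : alternatingGroup (C ⊕ C ⊕ R)} {d : alternatingGroup (C ⊕ R)} {b : R}
    {ρ : Perm C} {θ : Perm R} (hP : PresLE ![a, upA (upA (c3 b₁ b₂ b))] 4) (hb : b₁ ≠ b₂) (h1 : b ≠ b₁)
    (h1' : b ≠ b₂) (hzd : closure {upA (α := C) (c3 b₁ b₂ b), d} = ⊤)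
    (hθ : θ b₁ = b₁ ∧ θ b₂ = b₂ ∧ θ b = b) (hτ' : Tw τ' b₁ b₂ ε') (h' : τ' b = b) (hρ : ρ * ρ = 1)
    (h2 : θ * θ = 1) (h3 : θ = 1 ∨ τ' = 1) (hℓ : ℓ.1 = vv C τ')
    (hv : vv C (Perm.sumCongr ρ θ) ∉ alternatingGroup _) : Prs (Perm (C ⊕ C ⊕ C ⊕ R)) 2 6 := by
  have : Nontrivial (C ⊕ C ⊕ C ⊕ R) := ⟨inr (inr (inr b₁)), inr (inr (inr b₂)), by simpa⟩
  have h4 : vv C (Perm.sumCongr ρ θ) * vv C (Perm.sumCongr ρ θ) = 1 := sw_sq (by simp [hρ, h2])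
  have h5 : cj (Perm.sumCongr ρ θ) (upA (c3 b₁ b₂ b)) = upA (c3 b₁ b₂ b) := by simp [upA_c3, cj_c3, hθ]
  have h6 : cj τ' (c3 b₁ b₂ b) = c3 b₁ b₂ b ^ ε' := by rw [hτ'.cj hb h1 h1', h']
  have h7 : ℓ * upA (upA (c3 b₁ b₂ b)) * ℓ⁻¹ = upA (upA (c3 b₁ b₂ b)) ^ ε' := by
    rw [← cj_coe, hℓ, cj_sw, h6, map_zpow, map_zpow]
  refine prs_glue (Subgroup.subtype _) (vv C (Perm.sumCongr ρ θ)) hP (by rw [← map_pow, c3_cube hb h1 h1', map_one]) hzd h5 hb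
    (ε := 1) (.inl (by simp [hθ])) hτ' hℓ (fun _ => rfl) h4 ?_ (lt _ () * Coprod.inl ℓ * (lt _ ())⁻¹ *
      Coprod.inl (ℓ * upA d * ℓ⁻¹) * (lt _ () * Coprod.inl ℓ * (lt _ ())⁻¹)⁻¹ *
      (Coprod.inl (ℓ * upA (cj (up τ') d) * ℓ⁻¹))⁻¹) ?_ fun Q _ φ V hV H1 h => ⟨?_, fun ψ _ h8 =>
        exists_ext2 alternatingGroup.index_eq_two ψ hv h4 hV h8⟩
  · rw [Subgroup.closure_union, coe_subtype, Subtype.range_coe, closure_eq, eq_top_iff]
    intro g _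
    by_cases hg : g ∈ alternatingGroup _
    · exact mem_sup_left hg
    · rw [← mul_one g, ← h4, ← mul_assoc]
      exact mul_mem_sup (by simp [mul_mem_iff_of_index_two alternatingGroup.index_eq_two, hg, hv])
        (subset_closure rfl)
  · have h8 : vv C (Perm.sumCongr ρ θ) * up ℓ.1 * (vv C (Perm.sumCongr ρ θ))⁻¹ * up ℓ.1 = up ℓ.1 *
        (vv C (up τ') * Perm.sumCongr ρ (Perm.sumCongr ρ 1)) := by
      rw [inv_eq_of_mul_eq_one_left h4, hℓ]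
      ext1 x; rcases x with _ | _ | _ | x
      exacts [rfl, rfl, rfl, by
        have : θ (θ x) = x := DFunLike.congr_fun h2 x
        rcases h3 with rfl | rfl <;> simp [this]]
    have h9 : cj (Perm.sumCongr ρ (Perm.sumCongr ρ 1)) (upA (upA d)) = upA (upA d) := by
      rw [Subtype.ext_iff, cj_val, mul_inv_eq_iff_eq_mul]
      ext1 x; rcases x with _ | _ | _ <;> rfl
    have h10 := congrArg Subtype.val (cj_sw (C := C) (up τ') d)
    rw [← h9, ← cj_mul, cj_val, eq_inv_mul_iff_mul_eq.2 h8.symm] at h10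
    simp only [map_mul, map_inv, ev_lt, ev_inl, mul_inv_eq_one, MonoidHom.comp_apply, coe_subtype, ← h10]
    simp only [upA_val]; group
  · rw [map_mul, map_inv, mul_inv_eq_one, map_mul, map_mul, map_inv, ev_inl, ev_inl, map_mul, map_mul,
      map_inv, ev_lt, ev_inl] at h
    refine DFunLike.congr_fun (MonoidHom.eq_of_eqOn_dense hzd
      (f := (MulAut.conj (V * φ ℓ * V⁻¹)).toMonoidHom.comp (φ.comp ((cj ℓ.1).comp upA)))
      (g := φ.comp ((cj ℓ.1).comp (upA.comp (cj (up τ'))))) ?_)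
    rintro _ (rfl | rfl)
    · have h8 := congrArg (φ · ^ ε') h7
      have h9 := H1 (upA (c3 b₁ b₂ b))
      simp only [map_zpow, zpow_pm hτ'.pm, map_mul, map_inv, conj_zpow, h5] at h8 h9
      simp only [MonoidHom.comp_apply, cj_coe, h7, ← upA_cj, h6, map_zpow, zpow_pm hτ'.pm]
      change (V * φ ℓ * V⁻¹ * _ * _) ^ ε' = _
      rw [conj_zpow]
      nth_rewrite 1 [← h9]
      rw [conj_zpow]
      calc _ = V * (φ ℓ * φ (upA (upA (c3 b₁ b₂ b))) ^ ε' * (φ ℓ)⁻¹) * V⁻¹ := by group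
        _ = _ := by rw [h8, h9]
    · exact h

end Cfsg.Lib.Pres
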