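import Mathlib.NumberTheory.Bertrand

/-!
There is a prime between `2 n / 3` and `n`.
-/

set_option autoImplicit false

namespace Cfsg.Lib.Pres

open Nat Finset

theorem choose3_succ (n : ℕ) : (3 * (n + 1)).choose (n + 1) * ((n + 1) * (2 * n + 2) * (2 * n + 1)) =
    (3 * n + 3) * (3 * n + 2) * (3 * n + 1) * (3 * n).choose n := by
  have h : ∀ n, (3 * n).choose n * n ! * (2 * n)! = (3 * n)! := fun n => by
    have := choose_mul_factorial_mul_factorial (n := 3 * n) (k := n) (by omega)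
    rwa [show 3 * n - n = 2 * n by omega] at this
  have h1 := h (n + 1)
  rw [show 2 * (n + 1) = 2 * n + 1 + 1 by ring] at h1
  nth_rewrite 2 [show 3 * (n + 1) = 3 * n + 1 + 1 + 1 by ring] at h1
  simp only [factorial_succ, ← h n] at h1
  exact Nat.eq_of_mul_eq_mul_right (show 0 < n ! * (2 * n)! by positivity) (by linarith)

theorem choose3_bounds (n : ℕ) : 4 ^ n * (3 * n).choose n ≤ 27 ^ n ∧
    27 ^ n ≤ (2 * n + 1) * (4 ^ n * (3 * n).choose n) := by
  induction n with
  | zero => simp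
  | succ n ih =>
    have h := congrArg (4 ^ (n + 1) * ·) (choose3_succ n)
    have h0 : 0 < (n + 1) * (2 * n + 2) * (2 * n + 1) := by positivity
    simp only [← mul_assoc (4 ^ (n + 1))] at h
    generalize 4 ^ (n + 1) * (3 * (n + 1)).choose (n + 1) = a at *
    replace h : a * ((n + 1) * (2 * n + 2) * (2 * n + 1)) =
        4 * ((3 * n + 3) * (3 * n + 2) * (3 * n + 1)) * (4 ^ n * (3 * n).choose n) := by rw [h]; ring
    generalize 4 ^ n * (3 * n).choose n = b at *
    rw [pow_succ]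
    refine ⟨Nat.le_of_mul_le_mul_right ?_ h0, Nat.le_of_mul_le_mul_right ?_ h0⟩
    · rw [h, mul_comm _ b, mul_assoc (27 ^ n)]
      exact Nat.mul_le_mul ih.1 (by nlinarith [Nat.zero_le (n * n * n), Nat.zero_le (n * n)])
    · rw [mul_assoc _ a, h, mul_assoc (27 ^ n), ← mul_assoc (2 * _ + 1), mul_comm _ b]
      refine (Nat.mul_le_mul_right _ ih.2).trans ?_
      rw [mul_comm _ b, mul_assoc b]
      exact Nat.mul_le_mul_left _ (by
        nlinarith [Nat.zero_le (n * n * n * n), Nat.zero_le (n * n * n), Nat.zero_le (n * n)])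

theorem dvd_choose_iff {p n k : ℕ} (hp : p.Prime) (hk : k ≤ n) (h : n < p ^ 2) :
    p ∣ n.choose k ↔ p ≤ k % p + (n - k) % p := by
  have := factorization_choose hp hk (b := 2) (by
    rcases eq_or_ne n 0 with rfl | hn
    exacts [by simp, (Nat.log_lt_iff_lt_pow hp.one_lt hn).2 h])
  rw [hp.dvd_iff_one_le_factorization (choose_pos hk).ne', this]
  simp [filter_nonempty_iff]

theorem choose_le_of_no_prime (m : ℕ) (hm : 1 ≤ m) (H : ∀ p : ℕ, p.Prime → p ≤ 6 * m → p < 4 * m + 4) :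
    (6 * m).choose (2 * m) ≤ (6 * m) ^ (6 * m).sqrt * (4 ^ m * (3 * m).choose m * (6 * m + 1) ^ 3) := by
  let S := {p ∈ range (6 * m + 1) | p.Prime ∧ p ∣ (6 * m).choose (2 * m)}
  let f p := p ^ ((6 * m).choose (2 * m)).factorization p
  have : ∏ x ∈ S, f x = ∏ x ∈ range (6 * m + 1), f x := prod_filter_of_ne fun p _ h => by
    have : ((6 * m).choose (2 * m)).factorization p ≠ 0 := fun e => h (by simp [f, e])
    exact ⟨prime_of_mem_primeFactors (Finsupp.mem_support_iff.2 this), dvd_of_factorization_pos this⟩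
  rw [← prod_pow_factorization_choose (6 * m) (2 * m) (by omega), ← this,
    ← prod_filter_mul_prod_filter_not S (· ≤ (6 * m).sqrt)]
  apply mul_le_mul'
  · refine (prod_le_prod' fun p _ => (pow_factorization_choose_le (by omega) : f p ≤ 6 * m)).trans ?_
    rw [prod_const]
    refine pow_right_mono₀ (by omega) ((card_le_card (t := Icc 1 (6 * m).sqrt) fun x hx => ?_).trans (by simp))
    exact mem_Icc.2 ⟨(mem_filter.1 (mem_filter.1 hx).1).2.1.one_le, (mem_filter.1 hx).2⟩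
  refine (prod_le_prod' fun p hp => (?_ : f p ≤ p)).trans ?_
  · obtain ⟨h1, h2⟩ := mem_filter.1 hp
    exact (pow_right_mono₀ (mem_filter.1 h1).2.1.one_le
      (factorization_choose_le_one (sqrt_lt'.1 (not_le.1 h2)))).trans (pow_one p).le
  have h0 := choose_pos (n := 3 * m) (k := m) (by omega)
  refine (le_of_dvd (mul_pos (mul_pos (primorial_pos m) h0)
    (show 0 < (4 * m + 1) * (4 * m + 2) * (4 * m + 3) by positivity))
    (prod_primes_dvd _ (fun p hp => (mem_filter.1 (mem_filter.1 hp).1).2.1.prime) fun p hp => ?_)).trans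
    (Nat.mul_le_mul (Nat.mul_le_mul_right _ (primorial_le_four_pow m)) (by
      rw [pow_three']
      exact Nat.mul_le_mul (Nat.mul_le_mul (by omega) (by omega)) (by omega)))
  obtain ⟨h1, h2⟩ := mem_filter.1 hp
  obtain ⟨h1, hp, h3⟩ := mem_filter.1 h1
  replace h2 := sqrt_lt'.1 (not_le.1 h2)
  by_cases h4 : p ≤ m
  · exact (((hp.dvd_primorial_iff).2 h4).mul_right _).mul_right _
  by_cases h5 : p ≤ 4 * m
  · refine (((dvd_choose_iff hp (by omega) (by omega)).2 ?_).mul_left _).mul_right _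
    rw [dvd_choose_iff hp (by omega) h2, show 6 * m - 2 * m = 2 * m + 2 * m by omega] at h3
    rw [show 3 * m - m = 2 * m by omega, mod_eq_of_lt (not_le.1 h4)]
    by_cases h6 : 2 * m < p
    · have := mod_le (2 * m + 2 * m - p) p
      rw [mod_eq_of_lt h6, mod_eq_sub_mod (a := 2 * m + 2 * m) (by omega)] at h3
      rw [mod_eq_of_lt h6]
      omega
    · have := mod_le (2 * m % p + 2 * m % p) p
      rw [← add_mod] at this
      rw [mod_eq_sub_mod (not_lt.1 h6), mod_eq_of_lt (a := 2 * m - p) (by omega)] at *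
      omega
  have := H p hp (by simpa [Nat.lt_succ_iff] using h1)
  obtain rfl | rfl | rfl : p = 4 * m + 1 ∨ p = 4 * m + 2 ∨ p = 4 * m + 3 := by omega
  exacts [(((dvd_refl _).mul_right _).mul_right _).mul_left _,
    (((dvd_refl _).mul_left _).mul_right _).mul_left _, ((dvd_refl _).mul_left _).mul_left _]

theorem exists_prime_large (m : ℕ) (hm : 3456 ≤ m) : ∃ p : ℕ, p.Prime ∧ p ≤ 6 * m ∧ 4 * m + 4 ≤ p := by
  by_contra! H
  have h1 := choose_le_of_no_prime m (by omega) H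
  have h2 := (choose3_bounds (2 * m)).2
  obtain ⟨s, hs⟩ : ∃ s, (6 * m).sqrt = s := ⟨_, rfl⟩
  have h3 : s * s ≤ 6 * m := hs ▸ sqrt_le _
  have h4 : 6 * m + 1 ≤ (s + 1) ^ 2 := hs ▸ lt_succ_sqrt' _
  have h5 : 144 ≤ s := hs ▸ le_sqrt.2 (by omega)
  obtain ⟨w, hw, h6⟩ : ∃ w, 16 * (w + 9) ≤ s ∧ s + 1 ≤ 16 * (w + 10) := ⟨s / 16 - 9, by omega⟩
  have h7 : s + 1 ≤ 2 ^ (w + 8) := h6.trans (by
    have := w.lt_two_pow_self
    rw [pow_add]; omega)
  have h8 : 27 ^ m * 27 ^ m ≤ 27 ^ m * (16 ^ m * 2 ^ ((w + 8) * 2 * (s + 4))) :=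
    calc _ = 27 ^ (2 * m) := by ring
      _ ≤ (6 * m + 1) * (16 ^ m * ((6 * m + 1) ^ s * (27 ^ m * (6 * m + 1) ^ 3))) := by
        refine h2.trans ?_
        rw [← mul_assoc 3, pow_mul]
        refine Nat.mul_le_mul (by omega) (Nat.mul_le_mul_left _ (h1.trans ?_))
        rw [hs]
        gcongr
        exacts [by omega, (choose3_bounds m).1]
      _ = 27 ^ m * (16 ^ m * (6 * m + 1) ^ (s + 4)) := by ring
      _ ≤ _ := by rw [pow_mul, pow_mul]; gcongr; exact h4.trans (by gcongr)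
  have h9 : 16 ^ m * 2 ^ (3 * (m / 4)) ≤ 27 ^ m := by
    rw [← Nat.div_add_mod m 4, pow_add, pow_add, Nat.div_add_mod, pow_mul, pow_mul, pow_mul,
      mul_right_comm, ← mul_pow]
    gcongr <;> norm_num
  have h10 := Nat.le_of_mul_le_mul_left (h9.trans (Nat.le_of_mul_le_mul_left h8 (by positivity)))
    (by positivity)
  have h11 := (Nat.pow_le_pow_iff_right one_lt_two).1 h10
  have h12 : m ≤ 4 * (m / 4) + 3 := by omega
  nlinarith

theorem exists_prime_two_thirds {n : ℕ} (hn : 3 ≤ n) : ∃ p : ℕ, p.Prime ∧ p ≤ n ∧ 2 * n + 1 ≤ 3 * p := by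
  by_cases h : 20736 ≤ n
  · obtain ⟨p, h1, h2, h3⟩ := exists_prime_large (n / 6) (by omega)
    exact ⟨p, h1, by omega, by omega⟩
  obtain ⟨p, hp, h⟩ : ∃ p ∈ [3, 5, 7, 11, 17, 23, 31, 47, 71, 107, 157, 233, 349, 523, 773, 1153, 1723,
      2579, 3863, 5791, 8681, 13009, 19507], p ≤ n ∧ 2 * n + 1 ≤ 3 * p := by
    simp only [List.mem_cons, List.not_mem_nil, or_false, exists_eq_or_imp, exists_eq_left]
    omega
  refine ⟨p, ?_, h⟩
  simp only [List.mem_cons, List.not_mem_nil, or_false] at hp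
  rcases hp with rfl | rfl | rfl | rfl | rfl | rfl | rfl | rfl | rfl | rfl | rfl | rfl | rfl | rfl | rfl |
    rfl | rfl | rfl | rfl | rfl | rfl | rfl | rfl <;> norm_num

end Cfsg.Lib.Pres
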