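import Cfsg.Agent.Lib.Pres.AltG
import Cfsg.Agent.Lib.Pres.Prime

/-!
Presentations of `A_n` and `S_n` with two generators and six relators.
-/

set_option autoImplicit false

namespace Cfsg.Lib.Pres

open Cfsg.Lib.Linear Equiv Subgroup Monoid Sum

theorem exists_new {α : Type*} [Fintype α] [DecidableEq α] (l : List α) (h : l.length < Fintype.card α) :
    ∃ a, a ∉ l := by
  by_contra! H
  have := (Finset.card_le_card (s := Finset.univ) fun a _ => List.mem_toFinset.2 (H a)).trans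
    (List.toFinset_card_le l)
  rw [Finset.card_univ] at this
  omega

variable {C R : Type} [Fintype C] [DecidableEq C] [Fintype R] [DecidableEq R] {p : ℕ} [Fact p.Prime]

theorem sign_vv (τ : Perm R) : Perm.sign (vv C τ) = Perm.sign (vv C (1 : Perm R)) * Perm.sign τ := by
  simp [vv]

theorem exists_ell {b₁ b₂ : R} (hb : b₁ ≠ b₂) : ∃ (τ : Perm R) (ε : ℤ) (ℓ : alternatingGroup (C ⊕ C ⊕ R)),
    Tw τ b₁ b₂ ε ∧ τ * τ = 1 ∧ ℓ.1 = vv C τ ∧ (∀ x, x ≠ b₁ → x ≠ b₂ → τ x = x) ∧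
    (τ = 1 ∨ Perm.sign (vv C (1 : Perm R)) = -1) := by
  rcases Int.units_eq_one_or (Perm.sign (vv C (1 : Perm R))) with h | h
  · exact ⟨1, 1, ⟨_, h⟩, .inl ⟨rfl, rfl, rfl⟩, rfl, rfl, fun _ _ _ => rfl, .inl rfl⟩
  · exact ⟨swap b₁ b₂, -1, ⟨vv C (swap b₁ b₂), by rw [Perm.mem_alternatingGroup, sign_vv, h]; simp [hb]⟩, .inr (by simp),
      by simp, rfl, fun _ => swap_apply_of_ne_of_ne, .inr h⟩

theorem prs_alt_sum (h2 : p ≠ 2) (hp : Fintype.card (C ⊕ C ⊕ R) = p + 2) (h3 : 2 ≤ Fintype.card R)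
    (h5 : 5 ≤ Fintype.card (C ⊕ R)) : Prs (alternatingGroup (C ⊕ C ⊕ C ⊕ R)) 2 6 := by
  obtain ⟨b₁, b₂, hb⟩ := Fintype.exists_pair_of_one_lt_card (α := R) h3
  obtain ⟨τ, ε, ℓ, h6, h7, h8, h9, -⟩ := exists_ell (C := C) hb
  obtain ⟨x, hx⟩ := exists_new [(inr b₁ : C ⊕ R), inr b₂] (by simp only [List.length]; omega)
  obtain ⟨y, hy⟩ := exists_new [(inr b₁ : C ⊕ R), inr b₂, x] (by simp only [List.length]; omega)
  obtain ⟨z, hz⟩ := exists_new [(inr b₁ : C ⊕ R), inr b₂, x, y] (by simp only [List.length]; omega)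
  simp only [List.mem_cons, List.not_mem_nil, or_false, not_or] at hx hy hz
  have h10 : ∀ x : C ⊕ R, x ≠ inr b₁ → x ≠ inr b₂ → up τ x = x := by
    rintro (_ | x) h h'
    exacts [rfl, congrArg inr (h9 x (by simpa using h) (by simpa using h'))]
  have hxy := Ne.symm hy.2.2
  obtain ⟨d, hd⟩ := alt_gen2 hxy hz.2.2.1 hz.2.2.2
  obtain ⟨a, ha⟩ := pres_base h2 hp (α := inr x) (β := inr y) (γ := inr z) (by simpa) (by simp [hz])
    (by simp [hz])
  exact prs_alt_glue (upA_c3 (α := C) x y z ▸ ha) (c3_cube hxy hz.2.2.1 hz.2.2.2) hd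
    (by rw [cj_c3, h10 x hx.1 hx.2, h10 y hy.1 hy.2.1, h10 z hz.1 hz.2.1]) hb h6 h7 h8

theorem prs_sym_sum (h2 : p ≠ 2) (hp : Fintype.card (C ⊕ C ⊕ R) = p + 2) (h3 : 3 ≤ Fintype.card R)
    (h5 : 2 ≤ Fintype.card C ∨ 5 ≤ Fintype.card R ∨ Perm.sign (vv C (1 : Perm R)) = -1) :
    Prs (Perm (C ⊕ C ⊕ C ⊕ R)) 2 6 := by
  obtain ⟨b₁, b₂, hb⟩ := Fintype.exists_pair_of_one_lt_card (α := R) (by omega)
  obtain ⟨b, h⟩ := exists_new [b₁, b₂] h3
  simp only [List.mem_cons, List.not_mem_nil, or_false, not_or] at h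
  obtain ⟨τ, ε, ℓ, h6, -, h8, h9, h10⟩ := exists_ell (C := C) hb
  obtain ⟨d, hd⟩ := alt_gen2 (a := (inr b₁ : C ⊕ R)) (b := inr b₂) (i := inr b) (by simpa) (by simp [h])
    (by simp [h])
  obtain ⟨a, ha⟩ := pres_base h2 hp (α := inr (inr b₁)) (β := inr (inr b₂)) (γ := inr (inr b))
    (by simpa) (by simp [h]) (by simp [h])
  rw [← upA_c3] at hd
  rw [← upA_c3, ← upA_c3] at ha
  have h11 : Perm.sign (vv C (1 : Perm (C ⊕ R))) = Perm.sign (vv C (1 : Perm R)) := by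
    have : vv C 1 * up (vv C (1 : Perm R)) * vv C 1 = up (vv C 1) * vv C 1 * up (vv C 1) := by
      ext1 x; rcases x with _ | _ | _ | _ <;> rfl
    simpa [mul_right_comm, ← eq_inv_iff_mul_eq_one] using (congrArg Perm.sign this).symm
  have key := fun (ρ : Perm C) (θ : Perm R) h₁ h₂ h₃ h₄ (h₅ : Perm.sign (vv C (1 : Perm R)) *
      (Perm.sign ρ * Perm.sign θ) = -1) => prs_sym_glue (ρ := ρ) (θ := θ) ha hb h.1 h.2 hd h₁ h6
        (h9 b h.1 h.2) h₂ h₃ h₄ h8 (by rw [Perm.mem_alternatingGroup, sign_vv, h11]; simp [h₅])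
  rcases Int.units_eq_one_or (Perm.sign (vv C (1 : Perm R))) with e | e
  · replace h10 := h10.resolve_right (by simp [e])
    rcases h5 with h5 | h5 | h5
    · obtain ⟨x, y, hxy⟩ := Fintype.exists_pair_of_one_lt_card (α := C) h5
      exact key (swap x y) 1 (by simp) (by simp) rfl (.inl rfl) (by simp [e, hxy])
    · obtain ⟨x, hx⟩ := exists_new [b₁, b₂, b] (by simp only [List.length]; omega)
      obtain ⟨y, hy⟩ := exists_new [b₁, b₂, b, x] (by simp only [List.length]; omega)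
      simp only [List.mem_cons, List.not_mem_nil, or_false, not_or] at hx hy
      exact key 1 (swap x y) (by grind) rfl (by simp) (.inr h10) (by simp [e, Ne.symm hy.2.2.2])
    · simp [e] at h5
  · exact key 1 1 (by simp) rfl rfl (.inl rfl) (by simp [e])

theorem prs_A6 : Prs (alternatingGroup (Fin 6)) 2 5 := by
  let a : alternatingGroup (Fin 6) := ⟨swap 0 1 * (swap 2 3 * swap 3 4 * swap 4 5),
    Perm.mem_alternatingGroup.2 (by decide)⟩
  have hg : closure (Set.range fun i : Fin 6 => c3 0 1 i ^ (if i < 2 then 0 else 1)) = ⊤ :=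
    alt_top (a := 0) (b := 1) (by decide) fun i h h' => subset_closure ⟨i, by
      simp only [if_neg (show ¬i < 2 by omega), pow_one]⟩
  let X : ∀ {Q : Type} [Group Q], Q → Q → Fin 6 → Q := fun a z =>
    ![1, 1, z, a * z⁻¹ * a⁻¹, a * (a * z * a⁻¹) * a⁻¹, a⁻¹ * z⁻¹ * a]
  have hX : ∀ (Q : Type) [Group Q] (x : Fin 2 → Q) i, FreeGroup.lift x (X (.of 0) (.of 1) i) =
      X (x 0) (x 1) i := fun Q _ x i => by fin_cases i <;> simp [X]
  have h1 : ∀ i, c3 0 1 i ^ (if i < 2 then 0 else 1) = X a (c3 0 1 2) i := by decide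
  refine ⟨_, presLE_univ ![a, c3 0 1 2] ?_ [.of 0 ^ 4, .of 1 ^ 3, (.of 1 * X (.of 0) (.of 1) 3) ^ 2,
    (.of 1 * X (.of 0) (.of 1) 4) ^ 2, word hg (X (.of 0) (.of 1)) a * (.of 0)⁻¹] ?_ fun Q _ x h => ?_⟩
  · rw [eq_top_iff, ← hg, closure_le, ← FreeGroup.range_lift_eq_closure]
    rintro _ ⟨i, rfl⟩
    exact ⟨_, (hX _ _ i).trans (h1 i).symm⟩
  · simp only [List.forall_mem_cons, map_mul, map_inv, map_pow, FreeGroup.lift_apply_of, hX,
      map_word hg _ (MonoidHom.id _) fun i => (h1 i).trans (hX _ ![a, c3 0 1 2] i).symm]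
    decide +kernel
  simp only [List.forall_mem_cons, map_mul, map_inv, map_pow, FreeGroup.lift_apply_of, hX,
    mul_inv_eq_one] at h
  obtain ⟨h2, h3, h4, h5, h6, -⟩ := h
  have h7 : ∀ i j : Fin 6, (i, j) ∈ [(2, 3), (3, 4), (4, 5), (5, 2)] →
      x 0 * X (x 0) (x 1) i * (x 0)⁻¹ = X (x 0) (x 1) j ^ (-1 : ℤ) := by
    have : x 0 * x 0 * x 0 = (x 0)⁻¹ := by simpa [pow_succ, eq_inv_iff_mul_eq_one] using h2
    simp only [List.mem_cons, Prod.mk.injEq, List.not_mem_nil, or_false]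
    rintro _ _ (⟨rfl, rfl⟩ | ⟨rfl, rfl⟩ | ⟨rfl, rfl⟩ | ⟨rfl, rfl⟩) <;> simp [X, mul_assoc]
    calc _ = x 0 * x 0 * x 0 * x 1 * (x 0 * x 0 * x 0)⁻¹ := by group
      _ = _ := by rw [this]; group
  have h8 : ∀ {i j k l}, PR (X (x 0) (x 1) i) (X (x 0) (x 1) j) → (i, k) ∈ [(2, 3), (3, 4), (4, 5), (5, 2)] →
      (j, l) ∈ [(2, 3), (3, 4), (4, 5), (5, 2)] → PR (X (x 0) (x 1) k) (X (x 0) (x 1) l) := fun h e e' => by
    simpa [h7 _ _ e, h7 _ _ e'] using (h.conj (x 0)).zpow (.inr rfl)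
  have p1 : PR (X (x 0) (x 1) 2) (X (x 0) (x 1) 3) := h4
  have p2 : PR (X (x 0) (x 1) 2) (X (x 0) (x 1) 4) := h5
  have p3 := h8 (k := 3) (l := 4) p1 (by decide) (by decide)
  have p4 := h8 (k := 3) (l := 5) p2 (by decide) (by decide)
  have p5 := h8 (k := 4) (l := 5) p3 (by decide) (by decide)
  have p6 := h8 (k := 5) (l := 2) p5 (by decide) (by decide)
  obtain ⟨φ, hφ⟩ := exists_hom_c3 (a := (0 : Fin 6)) (b := 1) (by decide) (X (x 0) (x 1))
    (fun i _ _ => by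
      have := conj_pow (a := (x 0)⁻¹) (b := (x 1)⁻¹) (i := 3)
      fin_cases i <;> simp_all [X]) fun i j _ _ _ _ _ => by
      fin_cases i <;> fin_cases j <;> first | contradiction | assumption | (apply PR.symm; assumption)
  rw [map_word hg _ φ fun i => by
    rcases (by decide : ∀ i : Fin 6, i = 0 ∨ i = 1 ∨ ¬i < 2 ∧ i ≠ 0 ∧ i ≠ 1) i with rfl | rfl | h
    exacts [map_one φ, map_one φ, by rw [hX, if_neg h.1, pow_one, hφ _ h.2.1 h.2.2]]] at h6
  exact ⟨φ, fun i => by fin_cases i; exacts [h6, hφ 2 (by decide) (by decide)]⟩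

theorem prs_alt_sym {n : ℕ} (hn : 5 ≤ n) : Prs (alternatingGroup (Fin n)) 2 6 ∧ Prs (Perm (Fin n)) 2 6 := by
  obtain ⟨p, hp, h1, h2⟩ := exists_prime_two_thirds (n := n - 2) (by omega)
  have := Fact.mk hp
  obtain ⟨j, r, h3, rfl⟩ : ∃ j r, j + (j + r) = p + 2 ∧ n = j + (j + (j + r)) :=
    ⟨n - 2 - p, p + 2 - 2 * (n - 2 - p), by omega⟩
  have e : Fin j ⊕ Fin j ⊕ Fin j ⊕ Fin r ≃ Fin (j + (j + (j + r))) := Fintype.equivFinOfCardEq (by simp)
  have h4 : p ≠ 4 := by rintro rfl; norm_num at hp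
  by_cases h5 : j = 1 ∧ r = 3
  · obtain ⟨rfl, rfl⟩ := h5
    exact ⟨prs_A6.mono (by decide), (prs_sym_sum (p := p) (by omega) (by simp; omega) (by simp)
      (.inr (.inr (by decide)))).map e.permCongrHom⟩
  exact ⟨(prs_alt_sum (p := p) (by omega) (by simpa) (by simp; omega) (by simp; omega)).map e.altCongrHom,
    (prs_sym_sum (p := p) (by omega) (by simpa) (by simp; omega) (by
      simp only [Fintype.card_fin, ← or_assoc]; left; omega)).map e.permCongrHom⟩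

theorem prs_cyclic {G : Type*} [Group G] [IsCyclic G] : Prs G 1 1 := by
  obtain ⟨g, hg⟩ := IsCyclic.exists_generator (α := G)
  refine ⟨fun _ => g, presLE_univ _ ?_ [.of 0 ^ orderOf g] (by simp) fun Q _ x h => ?_⟩
  · rwa [Set.range_const, ← zpowers_eq_closure, eq_top_iff']
  · exact ⟨monoidHomOfForallMemZpowers hg (g' := x 0) (orderOf_dvd_of_pow_eq_one (by simpa using h)),
      fun i => by rw [monoidHomOfForallMemZpowers_apply_gen, Subsingleton.elim i 0]⟩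

end Cfsg.Lib.Pres
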