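import Cfsg.Agent.Lib.Pres.Rel

/-!
Bounded presentations: sixteen relators glue two copies of `SL₂` along a double bond.
-/

set_option autoImplicit false

namespace Cfsg.Lib.Pres.B2

open Cfsg.Lib.Linear Cfsg.Lib.Chev Cfsg.Lib.Chev.PreSys Subgroup Monoid Matrix
open scoped commutatorElement

universe u v w

variable {I Φ : Type*} [Fintype I] [DecidableEq I] {R : RootSys I Φ} {i j : I}

/-- First coordinates of the roots. -/
def ca : Fin 8 → ℤ := ![1, 0, 1, 2, -1, 0, -1, -2]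
/-- Second coordinates of the roots. -/
def cb : Fin 8 → ℤ := ![0, 1, 1, 1, 0, -1, -1, -1]
/-- The reflections. -/
def sg : Bool → Fin 8 → Fin 8 := fun b => if b then ![4, 3, 2, 1, 0, 7, 6, 5] else ![2, 5, 0, 3, 6, 1, 4, 7]

variable (R i j) in
/-- The eight roots. -/
def e : Fin 8 → Φ := ![R.simple i, R.simple j, R.s j (R.simple i), R.s i (R.simple j), R.neg (R.simple i),
  R.neg (R.simple j), R.neg (R.s j (R.simple i)), R.neg (R.s i (R.simple j))]

section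

variable (h1 : R.A i j = -2) (h2 : R.A j i = -1)
include h1 h2

omit h2 in
theorem ne : i ≠ j := fun h => by rw [h, R.A_self] at h1; omega

theorem rt_e (k : Fin 8) : R.rt (e R i j k) = ca k • R.rt (R.simple i) + cb k • R.rt (R.simple j) := by
  fin_cases k <;> simp [e, ca, cb, R.rt_neg, R.s_apply, R.rt_refl, R.pair_simple_simple, h1, h2] <;> module

theorem comb {a b c d : ℤ} (h : a • R.rt (R.simple i) + b • R.rt (R.simple j) =
    c • R.rt (R.simple i) + d • R.rt (R.simple j)) : a = c ∧ b = d :=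
  R.indep' (R.simple_inj.ne (ne h1).symm) (R.simple_ne_neg _ _) h

theorem e_inj : Function.Injective (e R i j) := fun k l h => by
  have := comb h1 h2 ((rt_e h1 h2 k).symm.trans ((congrArg R.rt h).trans (rt_e h1 h2 l)))
  clear h; revert this k l; decide

theorem pair_e (b : Bool) (k : Fin 8) : R.pair (R.simple (cond b i j)) (e R i j k) =
    cond b (2 * ca k - 2 * cb k) (2 * cb k - ca k) := by
  rw [RootSys.pair, rt_e h1 h2, R.pairV_add, R.pairV_smul, R.pairV_smul, ← RootSys.pair, ← RootSys.pair,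
    R.pair_simple_simple, R.pair_simple_simple]
  cases b <;> simp [h1, h2, R.A_self] <;> ring

theorem s_e (b : Bool) (k : Fin 8) : R.s (cond b i j) (e R i j k) = e R i j (sg b k) := R.rt_inj (by
  rw [R.s_apply, R.rt_refl, pair_e h1 h2, rt_e h1 h2, rt_e h1 h2]
  cases b <;> fin_cases k <;> simp [ca, cb, sg] <;> ring)

theorem neg_e (k : Fin 8) : R.neg (e R i j k) = e R i j (k + 4) := R.rt_inj (by
  rw [R.rt_neg, rt_e h1 h2, rt_e h1 h2]
  fin_cases k <;> simp [ca, cb] <;> module)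

theorem exists_e {r : Φ} (hr : R.InSub ({i, j} : Finset I) r) : ∃ k, e R i j k = r := by
  obtain ⟨w, hw, k, hk, rfl⟩ := R.exists_WJ_simple hr
  induction hw using RootSys.WJ_induction_left with
  | h1 =>
    rcases (by simpa using hk : k = i ∨ k = j) with rfl | rfl
    exacts [⟨0, rfl⟩, ⟨1, rfl⟩]
  | h2 l hl w hw ih =>
    obtain ⟨m, hm⟩ := ih ((RootSys.WJ_inSub hw).2 (RootSys.inSub_simple.2 hk))
    rw [Equiv.Perm.mul_apply, ← hm]
    rcases (by simpa using hl : l = i ∨ l = j) with rfl | rfl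
    exacts [⟨_, (s_e h1 h2 true m).symm⟩, ⟨_, (s_e h1 h2 false m).symm⟩]

theorem cone_e {k l m : Fin 8} (h : e R i j m ∈ R.cone (e R i j k) (e R i j l)) :
    ∃ x y : ℤ, 1 ≤ x ∧ 1 ≤ y ∧ ca m = x * ca k + y * ca l ∧ cb m = x * cb k + y * cb l := by
  obtain ⟨x, y, a, b, c⟩ := h
  refine ⟨x, y, by omega, by omega, comb h1 h2 ?_⟩
  rw [← rt_e h1 h2, c, rt_e h1 h2, rt_e h1 h2]; module

end

theorem all_pairs {P : Fin 8 → Fin 8 → Prop} (h : ∀ b k l, P k l → P (sg b k) (sg b l)) (hs : ∀ k l, P k l → P l k)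
    (h1 : P 0 1) (h2 : P 0 2) (h3 : P 0 3) (h4 : P 1 3) (k l : Fin 8) (a : l ≠ k) (b : l ≠ k + 4) : P k l := by
  have h5 : ∀ (w : List Bool) k l, P k l → P (w.foldr sg k) (w.foldr sg l) := fun w k l e => by
    induction w with
    | nil => exact e
    | cons b w ih => exact h b _ _ ih
  obtain ⟨w, -, p, hp, rfl, rfl⟩ : ∃ w ∈ [[], [true], [false], [true, false], [false, true], [true, false, true],
      [false, true, false], [true, false, true, false]], ∃ p ∈ [((0 : Fin 8), (1 : Fin 8)), (0, 2), (0, 3), (1, 3),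
      (1, 0), (2, 0), (3, 0), (3, 1)], w.foldr sg p.1 = k ∧ w.foldr sg p.2 = l := by revert k l; decide
  refine h5 w _ _ ?_
  simp only [List.mem_cons, List.not_mem_nil, or_false] at hp
  rcases hp with rfl | rfl | rfl | rfl | rfl | rfl | rfl | rfl
  exacts [h1, h2, h3, h4, hs _ _ h1, hs _ _ h2, hs _ _ h3, hs _ _ h4]

variable {F : Type u} [Field F] {G : Type w} [Group G] {Q : Type*} [Group Q] {S : PreSys R F G} {c : F}

/-- `A` covers the rank one group of the root `r`. -/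
structure Cov (S : PreSys R F G) (r : Φ) (π : Q →* G) (A : SpecialLinearGroup (Fin 2) F →* Q) : Prop where
  map : ∀ b t, π (A ((sl2 F).x b t)) = (S.atRoot r).x b t
  inj : InjO π A.range

namespace Cov

variable {r s : Φ} {π : Q →* G} {A B : SpecialLinearGroup (Fin 2) F →* Q}

theorem map_n (h : Cov S r π A) (t : F) : π (A ((sl2 F).n true t)) = S.n r t :=
  (sl2 F).map_n (π := π.comp A) h.map true t

theorem map_h (h : Cov S r π A) (t : F) : π (A ((sl2 F).h true t)) = S.h r t :=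
  (sl2 F).map_h (π := π.comp A) h.map true t

theorem range (h : Cov S r π A) : A.range.map π = S.U {r} ⊔ S.U {R.neg r} := by
  rw [MonoidHom.map_range, MonoidHom.range_eq_map, ← sl2_gen, map_U _ (π := π.comp A) h.map]
  refine le_antisymm (((S.atRoot r).U_le_iff).2 fun b _ t => ?_) (sup_le (S.U_le_iff.2 ?_) (S.U_le_iff.2 ?_))
  · cases b
    · exact Subgroup.mem_sup_right (S.x_mem_U (Set.mem_singleton (R.neg r)) t)
    · exact Subgroup.mem_sup_left (S.x_mem_U (Set.mem_singleton r) t)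
  · intro s hs t; rw [hs]; exact (S.atRoot r).x_mem_U (r := true) (Set.mem_univ _) t
  · intro s hs t; rw [hs]; exact (S.atRoot r).x_mem_U (r := false) (Set.mem_univ _) t

theorem comp {Q' : Type*} [Group Q'] {ν : Q →* Q'} {π' : Q' →* G} (h : Cov S r π A) (e : ∀ a, π' (ν a) = π a) :
    Cov S r π' (ν.comp A) := ⟨fun b t => (e _).trans (h.map b t), by
  rintro _ ⟨g, rfl⟩ h'
  rw [MonoidHom.comp_apply, h.inj _ ⟨g, rfl⟩ (e _ ▸ h'), map_one]⟩

end Cov

theorem h_mem (hc : Gen c) (A : SpecialLinearGroup (Fin 2) F →* Q) {T : Subgroup Q} (h : A ((sl2 F).h true c) ∈ T)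
    {t : F} (ht : t ≠ 0) : A ((sl2 F).h true t) ∈ T := by
  obtain ⟨m, rfl⟩ := hc.2 t ht
  induction m with
  | zero => rw [pow_zero, h_one, map_one]; exact one_mem _
  | succ m ih => rw [pow_succ, sl2_mult _ _ _ (pow_ne_zero _ hc.1) hc.1, map_mul]; exact mul_mem (ih (pow_ne_zero _ hc.1)) h

theorem nn_mem (hc : Gen c) (A : SpecialLinearGroup (Fin 2) F →* Q) {T : Subgroup Q} (h : A ((sl2 F).h true c) ∈ T)
    {t u : F} (ht : t ≠ 0) (hu : u ≠ 0) : A ((sl2 F).n true t) * A ((sl2 F).n true u) ∈ T := by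
  rw [← map_mul, ← neg_neg u, n_mul_n_neg, map_mul, map_inv]
  exact mul_mem (h_mem hc A h ht) (inv_mem (h_mem hc A h (neg_ne_zero.2 hu)))

theorem mem_norm [Finite F] {A : SpecialLinearGroup (Fin 2) F →* Q} {g : Q} (h : ∀ x, g * A x * g⁻¹ ∈ A.range) :
    g ∈ normalizer (A.range : Set Q) :=
  have : Finite (A.range : Set Q) := Set.finite_range A
  mem_normalizer_fintype (by rintro _ ⟨x, rfl⟩; exact h x)

theorem tor_side (hS : S.St) (hc : Gen c) {r s : Φ} {π : Q →* G} {A B : SpecialLinearGroup (Fin 2) F →* Q}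
    (hA : Cov S r π A) (hB : Cov S s π B) (h : A ((sl2 F).h true c) ∈ normalizer (B.range : Set Q))
    {T : Subgroup Q} (hT : T = closure {A ((sl2 F).h true c), B ((sl2 F).h true c)}) {g : Q} (hg : g ∈ T) :
    (B ((sl2 F).n true 1))⁻¹ * g * B ((sl2 F).n true 1) ∈ T := by
  have a1 : A ((sl2 F).h true c) ∈ T := hT ▸ subset_closure (by simp)
  have a2 : B ((sl2 F).h true c) ∈ T := hT ▸ subset_closure (by simp)
  have a3 : ∀ {t}, t ≠ 0 → (B ((sl2 F).n true 1))⁻¹ * B ((sl2 F).n true t) ∈ T := fun ht => by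
    rw [← map_inv, ← n_neg]; exact nn_mem hc B a2 (by simp) ht
  refine (closure_le (K := T.comap (MulAut.conj (B ((sl2 F).n true 1))⁻¹).toMonoidHom)).2 ?_ (hT ▸ hg) |> fun h => by
    simpa using h
  rintro _ (rfl | rfl) <;> change _ * _ * _ ∈ T
  · obtain ⟨d, hd, e⟩ := hS.H_conj_n (S.h_mem_H r hc.1) s
    have e1 : A ((sl2 F).h true c) * B ((sl2 F).n true 1) * (A ((sl2 F).h true c))⁻¹ = B ((sl2 F).n true d) :=
      hB.inj.eq ((mem_normalizer_iff.1 h _).1 ⟨_, rfl⟩) ⟨_, rfl⟩ (by simp [hA.map_h, hB.map_n, e])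
    convert mul_mem (a3 hd) a1 using 1
    rw [← e1]; group
  · convert a3 hc.1 using 1
    rw [h_eq, map_mul, map_inv]; group

/-- The four rank one groups. -/
def KK (A B : SpecialLinearGroup (Fin 2) F →* Q) (k : Fin 8) : Subgroup Q :=
  ![A.range, B.range, A.range.map (MulAut.conj (B ((sl2 F).n true 1))).toMonoidHom,
    B.range.map (MulAut.conj (A ((sl2 F).n true 1))).toMonoidHom] (Fin.ofNat 4 k)

variable (S i j) in
/-- The root elements upstairs. -/
noncomputable def Z (π : Q →* G) (A B : SpecialLinearGroup (Fin 2) F →* Q) (k : Fin 8) (t : F) : Q :=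
  lf π (KK A B k) (S.x (e R i j k) t)

variable (S i j) in
/-- The group in which a commutator has to lie. -/
noncomputable def V (π : Q →* G) (A B : SpecialLinearGroup (Fin 2) F →* Q) (k l : Fin 8) : Subgroup Q :=
  closure {g | ∃ m, e R i j m ∈ R.cone (e R i j k) (e R i j l) ∧ ∃ t, Z i j S π A B m t = g}

/-- `g` permutes the rank one groups. -/
def Nm (A B : SpecialLinearGroup (Fin 2) F →* Q) (g : Q) (σ : Fin 8 → Fin 8) : Prop :=
  ∀ k, ∀ y ∈ KK A B k, g * y * g⁻¹ ∈ KK A B (σ k)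

theorem map_KK {Q' : Type*} [Group Q'] (ν : Q →* Q') (A B : SpecialLinearGroup (Fin 2) F →* Q) (k : Fin 8) :
    (KK A B k).map ν = KK (ν.comp A) (ν.comp B) k := by
  have : ∀ (A : SpecialLinearGroup (Fin 2) F →* Q) (g : Q), (A.range.map (MulAut.conj g).toMonoidHom).map ν =
      (ν.comp A).range.map (MulAut.conj (ν g)).toMonoidHom := fun A g => by
    rw [← MonoidHom.map_range, Subgroup.map_map, Subgroup.map_map]; congr 1; ext; simp
  fin_cases k <;> first | exact MonoidHom.map_range _ _ | exact this _ _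

variable {π : Q →* G} {A B : SpecialLinearGroup (Fin 2) F →* Q} (hS : S.St) (h1 : R.A i j = -2) (h2 : R.A j i = -1)
  (hA : Cov S (R.simple i) π A) (hB : Cov S (R.simple j) π B)
include hA hB

theorem inj_KK (k : Fin 8) : InjO π (KK A B k) := by
  have : ∀ {K : Subgroup Q}, InjO π K → ∀ g, InjO π (K.map (MulAut.conj g).toMonoidHom) := fun h g =>
    h.conj g⁻¹ (by rintro _ ⟨a, ha, rfl⟩; simpa [mul_assoc] using ha)
  fin_cases k <;> first | exact hA.inj | exact hB.inj | exact this hA.inj _ | exact this hB.inj _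

theorem act_s (hS : S.St) (b : Bool) :
    S.Act (π (cond b (A ((sl2 F).n true 1)) (B ((sl2 F).n true 1)))) (R.s (cond b i j)) := by
  cases b
  exacts [(hB.map_n 1).symm ▸ hS.act_n _ one_ne_zero, (hA.map_n 1).symm ▸ hS.act_n _ one_ne_zero]

include hS h1 h2

theorem x_mem (k : Fin 8) (t : F) : S.x (e R i j k) t ∈ (KK A B k).map π := by
  have key : ∀ b k, (∀ t, S.x (e R i j k) t ∈ (KK A B k).map π) → KK A B (sg b k) = (KK A B k).map
      (MulAut.conj (cond b (A ((sl2 F).n true 1)) (B ((sl2 F).n true 1)))).toMonoidHom →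
      S.x (e R i j (sg b k)) t ∈ (KK A B (sg b k)).map π := fun b k h h' => by
    obtain ⟨χ, a, -, d⟩ := act_s hA hB hS b
    obtain ⟨y, hy, e'⟩ := h ((χ (e R i j k))⁻¹ * t)
    refine ⟨_, h' ▸ mem_map_of_mem _ hy, ?_⟩
    simp only [MulEquiv.toMonoidHom_eq_coe, MonoidHom.coe_coe, MulAut.conj_apply, map_mul, map_inv, e', d,
      mul_inv_cancel_left₀ (a _), s_e h1 h2]
  have a0 : ∀ t, S.x (e R i j 0) t ∈ (KK A B 0).map π := fun t => ⟨_, ⟨_, rfl⟩, hA.map true t⟩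
  have a1 : ∀ t, S.x (e R i j 1) t ∈ (KK A B 1).map π := fun t => ⟨_, ⟨_, rfl⟩, hB.map true t⟩
  have a4 : ∀ t, S.x (e R i j 4) t ∈ (KK A B 4).map π := fun t => ⟨_, ⟨_, rfl⟩, hA.map false t⟩
  have a5 : ∀ t, S.x (e R i j 5) t ∈ (KK A B 5).map π := fun t => ⟨_, ⟨_, rfl⟩, hB.map false t⟩
  fin_cases k
  exacts [a0 t, a1 t, key false 0 a0 rfl, key true 1 a1 rfl, a4 t, a5 t, key false 4 a4 rfl, key true 5 a5 rfl]

theorem map_Z (k : Fin 8) (t : F) : π (Z i j S π A B k t) = S.x (e R i j k) t := map_lf (x_mem hS h1 h2 hA hB k t)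

theorem Z_add (k : Fin 8) (t u : F) : Z i j S π A B k (t + u) = Z i j S π A B k t * Z i j S π A B k u :=
  ((inj_KK hA hB k).eq_lf (a := Z i j S π A B k t * Z i j S π A B k u) (mul_mem (lf_mem _ _) (lf_mem _ _)) (by
    rw [map_mul, map_Z hS h1 h2 hA hB, map_Z hS h1 h2 hA hB, S.x_add])).symm

theorem nat_Z {Q' : Type*} [Group Q'] {ν : Q →* Q'} {π' : Q' →* G} (h : ∀ a, π' (ν a) = π a) (k : Fin 8) (t : F) :
    ν (Z i j S π A B k t) = Z i j S π' (ν.comp A) (ν.comp B) k t :=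
  (inj_KK (hA.comp h) (hB.comp h) k).eq_lf (map_KK ν A B k ▸ mem_map_of_mem ν (lf_mem _ _))
    ((h _).trans (map_Z hS h1 h2 hA hB k t))

theorem Nm.conj {g : Q} {σ : Fin 8 → Fin 8} (h : Nm A B g σ) {k : Fin 8} {t u : F}
    (e' : π g * S.x (e R i j k) t * (π g)⁻¹ = S.x (e R i j (σ k)) u) :
    g * Z i j S π A B k t * g⁻¹ = Z i j S π A B (σ k) u :=
  (inj_KK hA hB _).eq_lf (h k _ (lf_mem _ _)) (by rw [map_mul, map_mul, map_inv, map_Z hS h1 h2 hA hB, e'])

theorem Nm.conj_V {g : Q} {σ : Fin 8 → Fin 8} (h : Nm A B g σ) {w : Equiv.Perm Φ} (hw : w ∈ R.W) (ha : S.Act (π g) w)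
    (hσ : ∀ k, w (e R i j k) = e R i j (σ k)) {k l : Fin 8} {y : Q} (hy : y ∈ V i j S π A B k l) :
    g * y * g⁻¹ ∈ V i j S π A B (σ k) (σ l) := by
  refine (closure_le (K := (V i j S π A B (σ k) (σ l)).comap (MulAut.conj g).toMonoidHom)).2 ?_ hy
  rintro _ ⟨m, hm, t, rfl⟩
  obtain ⟨χ, -, -, d⟩ := ha
  exact subset_closure ⟨σ m, by simpa only [← hσ] using (RootSys.W_mem_cone hw).2 hm, _,
    (h.conj hS h1 h2 hA hB ((d _ t).trans (by rw [hσ]))).symm⟩

theorem core [Finite F] [Finite Φ] (hF : S.Sep) (hO : S.Opp) (hC : S.SC) (hc : Gen c)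
    (n1 : A ((sl2 F).h true c) ∈ normalizer (B.range : Set Q)) (n2 : B ((sl2 F).h true c) ∈ normalizer (A.range : Set Q))
    (n3 : B ((sl2 F).n true 1) * A ((sl2 F).n true 1) * (B ((sl2 F).n true 1))⁻¹ ∈ normalizer (A.range : Set Q))
    (n4 : A ((sl2 F).n true 1) * B ((sl2 F).n true 1) * (A ((sl2 F).n true 1))⁻¹ ∈ normalizer (B.range : Set Q))
    (c1 : ⁅Z i j S π A B 0 1, Z i j S π A B 1 1⁆ ∈ V i j S π A B 0 1)
    (c2 : ⁅Z i j S π A B 0 1, Z i j S π A B 2 1⁆ ∈ V i j S π A B 0 2)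
    (c3 : ⁅Z i j S π A B 0 1, Z i j S π A B 3 1⁆ ∈ V i j S π A B 0 3)
    (c4 : ⁅Z i j S π A B 1 1, Z i j S π A B 3 1⁆ ∈ V i j S π A B 1 3) : InjO π (A.range ⊔ B.range) := by
  set a := A ((sl2 F).n true 1) with ha
  set b := B ((sl2 F).n true 1) with hb
  obtain ⟨T, hT⟩ : ∃ T, T = closure {A ((sl2 F).h true c), B ((sl2 F).h true c)} := ⟨_, rfl⟩
  have t1 : A ((sl2 F).h true c) ∈ T := hT ▸ subset_closure (by simp)
  have t2 : B ((sl2 F).h true c) ∈ T := hT ▸ subset_closure (by simp)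
  have tA : T ≤ normalizer (A.range : Set Q) := hT ▸ (closure_le _).2 (by
    rintro _ (rfl | rfl); exacts [le_normalizer ⟨_, rfl⟩, n2])
  have tB : T ≤ normalizer (B.range : Set Q) := hT ▸ (closure_le _).2 (by
    rintro _ (rfl | rfl); exacts [n1, le_normalizer ⟨_, rfl⟩])
  have k1 : ∀ {K : Subgroup Q} {g}, g ∈ normalizer (K : Set Q) → ∀ y ∈ K, g * y * g⁻¹ ∈ K := fun h y hy =>
    (mem_normalizer_iff.1 h y).1 hy
  have k2 : ∀ {K : Subgroup Q} {g x}, x⁻¹ * g * x ∈ normalizer (K : Set Q) → ∀ y ∈ K.map (MulAut.conj x).toMonoidHom,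
      g * y * g⁻¹ ∈ K.map (MulAut.conj x).toMonoidHom := by
    rintro K g x h _ ⟨y, hy, rfl⟩
    exact ⟨_, k1 h y hy, by simp [mul_assoc]⟩
  have k3 : ∀ {K : Subgroup Q} {x}, x * x ∈ normalizer (K : Set Q) → ∀ y ∈ K.map (MulAut.conj x).toMonoidHom,
      x * y * x⁻¹ ∈ K := by
    rintro K x h _ ⟨y, hy, rfl⟩
    simpa [mul_assoc] using k1 h y hy
  have k4 : ∀ {K : Subgroup Q} {g x}, x * x ∈ normalizer (K : Set Q) → x * g * x⁻¹ ∈ normalizer (K : Set Q) →
      x⁻¹ * g * x ∈ normalizer (K : Set Q) := fun h h' => by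
    simpa [mul_assoc] using mul_mem (mul_mem (inv_mem h) h') h
  have a2 : a * a ∈ T := nn_mem hc A t1 one_ne_zero one_ne_zero
  have b2 : b * b ∈ T := nn_mem hc B t2 one_ne_zero one_ne_zero
  have nT : ∀ g ∈ T, Nm A B g id := fun g hg k => by
    have u1 := k2 (tA (tor_side hS hc hA hB n1 hT hg))
    have u2 := k2 (tB (tor_side hS hc hB hA n2 (hT.trans (by rw [Set.pair_comm])) hg))
    fin_cases k
    exacts [k1 (tA hg), k1 (tB hg), u1, u2, k1 (tA hg), k1 (tB hg), u1, u2]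
  have nS : ∀ x, Nm A B (cond x a b) (sg x) := fun x k => by
    have u1 : ∀ y ∈ A.range, a * y * a⁻¹ ∈ A.range := k1 (le_normalizer ⟨_, rfl⟩)
    have u2 : ∀ y ∈ B.range, b * y * b⁻¹ ∈ B.range := k1 (le_normalizer ⟨_, rfl⟩)
    have u3 := fun (K : Subgroup Q) x y (h : y ∈ K) => mem_map_of_mem (MulAut.conj x).toMonoidHom h
    cases x <;> fin_cases k
    exacts [u3 _ b, u2, k3 (tA b2), k2 (k4 (tB a2) n4), u3 _ b, u2, k3 (tA b2), k2 (k4 (tB a2) n4),
      u1, u3 _ a, k2 (k4 (tA b2) n3), k3 (tB a2), u1, u3 _ a, k2 (k4 (tA b2) n3), k3 (tB a2)]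
  set Y := Z i j S π A B
  have hY := map_Z hS h1 h2 hA hB
  let P := fun k l => ∀ t u, ⁅Y k t, Y l u⁆ ∈ V i j S π A B k l
  have p1 : ∀ x k l, P k l → P (sg x k) (sg x l) := fun x k l h t u => by
    obtain ⟨χ, d1, -, d2⟩ := act_s hA hB hS x
    have := fun k t => (nS x).conj hS h1 h2 hA hB (k := k) (u := t)
      ((d2 _ ((χ (e R i j k))⁻¹ * t)).trans (by rw [s_e h1 h2, mul_inv_cancel_left₀ (d1 _)]))
    simp only [Y]
    rw [← this k, ← this l, ← conjugate_commutatorElement]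
    exact (nS x).conj_V hS h1 h2 hA hB (R.s_mem_W _) (act_s hA hB hS x) (s_e h1 h2 x) (h _ _)
  have p2 : ∀ k l, P k l → P l k := fun k l h t u => by
    rw [← commutatorElement_inv, V, R.cone_comm]; exact inv_mem (h u t)
  have aA : ∀ k, Pres.Act (Y k) (A ((sl2 F).h true c)) (c ^ (2 * ca k - 2 * cb k)) := fun k =>
    ⟨Z_add hS h1 h2 hA hB k, fun t => (nT _ t1).conj hS h1 h2 hA hB (by
      rw [hA.map_h, hS.h_conj _ hc.1, show R.pair (R.simple i) _ = _ from pair_e h1 h2 true k]; rfl)⟩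
  have aB : ∀ k, Pres.Act (Y k) (B ((sl2 F).h true c)) (c ^ (2 * cb k - ca k)) := fun k =>
    ⟨Z_add hS h1 h2 hA hB k, fun t => (nT _ t2).conj hS h1 h2 hA hB (by
      rw [hB.map_h, hS.h_conj _ hc.1, show R.pair (R.simple j) _ = _ from pair_e h1 h2 false k]; rfl)⟩
  have tV : ∀ g ∈ T, ∀ k l, ∀ y ∈ V i j S π A B k l, g * y * g⁻¹ ∈ V i j S π A B k l := fun g hg k l y =>
    (nT g hg).conj_V hS h1 h2 hA hB (one_mem _) (hS.act_H ((closure_le (K := S.H.comap π)).2 (by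
      rintro _ (rfl | rfl)
      exacts [show π _ ∈ S.H from hA.map_h c ▸ S.h_mem_H _ hc.1, show π _ ∈ S.H from hB.map_h c ▸ S.h_mem_H _ hc.1])
      (hT ▸ hg))) fun _ => rfl
  have tC : ∀ g ∈ T, ∀ {k l d d' t u}, Pres.Act (Y k) g d → Pres.Act (Y l) g d' → ⁅Y k t, Y l u⁆ ∈ V i j S π A B k l →
      ⁅Y k (d * t), Y l (d' * u)⁆ ∈ V i j S π A B k l := fun g hg k l d d' t u x y h => by
    rw [← x.conj, ← y.conj, ← conjugate_commutatorElement]; exact tV g hg _ _ _ h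
  have q1 : ∀ k l, (∀ m, e R i j m ∈ R.cone (e R i j k) (e R i j l) → ∀ t u, Commute (Y l t) (Y m u)) →
      ∀ t, ∀ {g}, g ∈ T → Pres.Act (Y k) g 1 → Pres.Act (Y l) g (c ^ 2) → ⁅Y k t, Y l 1⁆ ∈ V i j S π A B k l →
      ∀ u, ⁅Y k t, Y l u⁆ ∈ V i j S π A B k l := fun k l h t g hg x y h' =>
    span2 hc (K := ⟨⟨{u | ⁅Y k t, Y l u⁆ ∈ V i j S π A B k l}, fun {u v} hu hv => by
      have : Commute (Y l u) ⁅Y k t, Y l v⁆ := (closure_le (K := centralizer {Y l u})).2 (by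
        rintro _ ⟨m, hm, t, rfl⟩ _ rfl; exact h m hm _ _) hv _ rfl
      rw [Set.mem_ofPred_eq, y.add, show ⁅Y k t, Y l u * Y l v⁆ = ⁅Y k t, Y l u⁆ * (Y l u * ⁅Y k t, Y l v⁆ * (Y l u)⁻¹) by
        group, this.mul_inv_cancel]
      exact mul_mem hu hv⟩, by simp [add_zero' y.add]⟩) h' fun u hu => by simpa using tC g hg x y hu
  have q2 : ∀ l, 2 * ca l - 2 * cb l + (2 * cb l - ca l) + (2 * cb l - ca l) = 2 →
      (∀ m, e R i j m ∈ R.cone (e R i j 0) (e R i j l) → ∀ t u, Commute (Y l t) (Y m u)) →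
      ⁅Y 0 1, Y l 1⁆ ∈ V i j S π A B 0 l → P 0 l := fun l hl h h' =>
    pair_all hc (e := (c ^ (2 * cb l - ca l))⁻¹) (inv_ne_zero (zpow_ne_zero _ hc.1)) (by simp [add_zero' (aA 0).add])
      (q1 0 l h 1 (mul_mem (mul_mem t1 t2) t2) ((((aA 0).mul (aB 0)).mul (aB 0)).cast rfl (by
        simp [ca, cb, hc.1, zpow_ofNat, sq])) ((((aA l).mul (aB l)).mul (aB l)).cast rfl (by
          rw [← zpow_add₀ hc.1, ← zpow_add₀ hc.1, hl, zpow_ofNat])) h')
      fun t u => tC _ (inv_mem t2) (((aB 0).inv (zpow_ne_zero _ hc.1)).cast rfl (by simp [ca, cb]))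
        ((aB l).inv (zpow_ne_zero _ hc.1))
  have q3 : ∀ k l, (∀ m, ¬ ∃ x y : ℤ, 1 ≤ x ∧ 1 ≤ y ∧ ca m = x * ca k + y * ca l ∧ cb m = x * cb k + y * cb l) →
      P k l → ∀ t u, Commute (Y k t) (Y l u) := fun k l h h' t u => commutatorElement_eq_one_iff_commute.1
    ((closure_le (K := ⊥)).2 (by rintro _ ⟨m, hm, -⟩; exact (h m (cone_e h1 h2 hm)).elim) (h' t u))
  have r3 : P 0 3 := q2 3 (by decide) (fun m hm => absurd (cone_e h1 h2 hm) (by
    fin_cases m <;> simp [ca, cb] <;> omega)) c3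
  have r4 : P 1 3 := fun t u => by
    have h : ∀ m, e R i j m ∈ R.cone (e R i j 1) (e R i j 3) → False := fun m hm => absurd (cone_e h1 h2 hm) (by
      fin_cases m <;> simp [ca, cb] <;> omega)
    refine q1 1 3 (fun m hm => (h m hm).elim) t (mul_mem t1 t2) (((aA 1).mul (aB 1)).cast rfl (by
      simp [ca, cb, hc.1, zpow_ofNat])) (((aA 3).mul (aB 3)).cast rfl (by simp [ca, cb, zpow_ofNat])) ?_ u
    have h' : ∀ t u, ⁅Y 1 t, Y 3 u⁆ ∈ V i j S π A B 1 3 ↔ ⁅Y 3 u, Y 1 t⁆ ∈ V i j S π A B 3 1 := fun t u => by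
      rw [← inv_mem_iff, commutatorElement_inv, V, V, R.cone_comm]
    exact (h' _ _).2 (q1 3 1 (fun m hm => (h m (R.cone_comm _ _ ▸ hm)).elim) 1 t2 ((aB 3).cast rfl (by simp [ca, cb]))
      ((aB 1).cast rfl (by simp [ca, cb, zpow_ofNat])) ((h' _ _).1 c4) t)
  have r5 : P 2 3 := p1 false 0 3 r3
  have r2 : P 0 2 := q2 2 (by decide) (fun m hm => by
    obtain rfl : m = 3 := by have := cone_e h1 h2 hm; fin_cases m <;> simp [ca, cb] at this ⊢ <;> omega
    exact q3 2 3 (fun m => by fin_cases m <;> simp [ca, cb] <;> omega) r5) c2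
  have r1 : P 0 1 := q2 1 (by decide) (fun m hm => by
    obtain rfl | rfl : m = 2 ∨ m = 3 := by have := cone_e h1 h2 hm; fin_cases m <;> simp [ca, cb] at this ⊢ <;> omega
    · exact q3 1 2 (fun m => by fin_cases m <;> simp [ca, cb] <;> omega) (p2 _ _ (p1 true 2 3 r5))
    · exact q3 1 3 (fun m => by fin_cases m <;> simp [ca, cb] <;> omega) r4) c1
  have r := all_pairs p1 p2 r1 r2 r3 r4
  have hi := Function.leftInverse_invFun (e_inj h1 h2)
  let T' : PreSys (R.sub {i, j}) F Q := ofSub {i, j} (fun r => Y (Function.invFun (e R i j) r))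
    (fun r _ => Z_add hS h1 h2 hA hB _) fun r s hr hs x y t u => by
      obtain ⟨k, rfl⟩ := exists_e h1 h2 hr
      obtain ⟨l, rfl⟩ := exists_e h1 h2 hs
      simp only [hi k, hi l]
      refine closure_mono ?_ (r k l (fun h => x (by rw [h])) (fun h => y (by rw [h, neg_e h1 h2])) t u)
      rintro _ ⟨m, hm, t, rfl⟩
      exact ⟨_, hm, t, by simp only [hi m, Y]⟩
  have hπ : ∀ r t, π (T'.x r t) = (S.sub {i, j}).x r t := fun ⟨r, hr⟩ t => by
    obtain ⟨k, rfl⟩ := exists_e h1 h2 hr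
    exact (congrArg (fun k => π (Y k t)) (hi k)).trans (hY k t)
  have hT' := (hS.sub _).comap (hF.sub _) hπ (RootSys.nb_sub (ne h1) (by omega))
  have hm : ∀ k t, R.InSub ({i, j} : Finset I) (e R i j k) → Y k t ∈ T'.U Set.univ := fun k t h =>
    (congrArg (fun k => Y k t) (hi k)) ▸ T'.x_mem_U (r := ⟨_, h⟩) (Set.mem_univ _) t
  have hs : ∀ {k}, k ∈ ({i, j} : Finset I) → R.InSub ({i, j} : Finset I) (R.simple k) := RootSys.inSub_simple.2
  refine InjO.mono (fun g hg => hT'.eq_one_of_sc hT'.mult_of_finite (hF.sub _) (hO.sub _)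
    (hC.sub _ hS hS.mult_of_finite) hπ hg) (sup_le ?_ ?_) <;>
    rw [MonoidHom.range_eq_map, ← sl2_gen, map_le_iff_le_comap, U_le_iff] <;> rintro (_ | _) - t
  · exact mem_comap.2 ((hA.inj.eq_lf ⟨_, rfl⟩ (hA.map false t)) ▸ hm 4 t (RootSys.inSub_neg.2 (hs (by simp))))
  · exact mem_comap.2 ((hA.inj.eq_lf ⟨_, rfl⟩ (hA.map true t)) ▸ hm 0 t (hs (by simp)))
  · exact mem_comap.2 ((hB.inj.eq_lf ⟨_, rfl⟩ (hB.map false t)) ▸ hm 5 t (RootSys.inSub_neg.2 (hs (by simp))))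
  · exact mem_comap.2 ((hB.inj.eq_lf ⟨_, rfl⟩ (hB.map true t)) ▸ hm 1 t (hs (by simp)))

omit hA hB in
theorem rel [Finite F] [Finite Φ] (hF : S.Sep) (hO : S.Opp) (hC : S.SC) {J : Type v} [Group J] {μ : J →* G}
    {A B : SpecialLinearGroup (Fin 2) F →* J} (hA : Cov S (R.simple i) μ A) (hB : Cov S (R.simple j) μ B) :
    Rel μ 16 fun _ _ ν π => InjO π ((ν.comp A).range ⊔ (ν.comp B).range) := by
  obtain ⟨c, hc⟩ := exists_gen F
  have k1 : ∀ {r : Φ} {A : SpecialLinearGroup (Fin 2) F →* J}, Cov S r μ A → ∀ {g w}, S.Act (μ g) w →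
      (w r = r ∨ w r = R.neg r) → w (R.neg r) = R.neg (w r) →
      Rel μ 3 fun _ _ ν _ => ν g ∈ normalizer ((ν.comp A).range : Set _) := fun {r A} h {g w} a b d =>
    (Rel.conj (closure_sl2 hc) A g (K := A.range) fun k => by
      have : ∀ s, s = r ∨ s = R.neg r → S.U {s} ≤ (S.U {r} ⊔ S.U {R.neg r}).comap (MulAut.conj (μ g)).toMonoidHom := by
        intro s hs y hy
        refine (S.U_union _ _).le (a.conj_mem (fun k hk => ?_) hy)
        rcases hs with rfl | rfl <;> rcases b with b | b <;> simp_all [R.neg_neg]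
      rw [h.range, map_mul, map_mul, map_inv]
      exact sup_le (this _ (.inl rfl)) (this _ (.inr rfl)) (h.range.le (mem_map_of_mem μ ⟨_, rfl⟩))).mono le_rfl
      fun _ _ ν _ _ h => mem_norm fun x => by
        simpa only [map_mul, map_inv, MonoidHom.map_range, MonoidHom.comp_apply] using h x
  have k2 : ∀ k l, l ≠ k → l ≠ k + 4 → Rel μ 1 fun _ _ ν π => ⁅Z i j S π (ν.comp A) (ν.comp B) k 1,
      Z i j S π (ν.comp A) (ν.comp B) l 1⁆ ∈ V i j S π (ν.comp A) (ν.comp B) k l := fun k l a b =>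
    (Rel.mem (a := ⁅Z i j S μ A B k 1, Z i j S μ A B l 1⁆) (K := V i j S μ A B k l) (by
      rw [map_commutatorElement, map_Z hS h1 h2 hA hB, map_Z hS h1 h2 hA hB]
      refine (closure_le _).2 ?_ (S.comm_mem _ _ ((e_inj h1 h2).ne a) (neg_e h1 h2 k ▸ (e_inj h1 h2).ne b) 1 1)
      rintro _ ⟨r, hr, t, rfl⟩
      have : ∀ k, R.InSub ({i, j} : Finset I) (e R i j k) := fun k m hm => by
        simp only [Finset.coe_insert, Finset.coe_singleton, Set.mem_insert_iff, Set.mem_singleton_iff, not_or] at hm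
        simp [rt_e h1 h2, R.rt_simple, hm]
      obtain ⟨m, rfl⟩ := exists_e h1 h2 (RootSys.inSub_of_mem_cone hr (this k) (this l))
      exact ⟨_, subset_closure ⟨m, hr, t, rfl⟩, map_Z hS h1 h2 hA hB m t⟩)).mono le_rfl fun _ _ ν π h h' => by
      rw [map_commutatorElement, nat_Z hS h1 h2 hA hB h, nat_Z hS h1 h2 hA hB h] at h'
      refine map_le_iff_le_comap.2 ((closure_le _).2 ?_) h'
      rintro _ ⟨m, hm, t, rfl⟩
      exact mem_comap.2 (nat_Z hS h1 h2 hA hB h m t ▸ subset_closure ⟨m, hm, t, rfl⟩)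
  have k3 : ∀ x, S.Act (μ (cond x (A ((sl2 F).n true 1)) (B ((sl2 F).n true 1)) *
      cond (!x) (A ((sl2 F).n true 1)) (B ((sl2 F).n true 1)) * (cond x (A ((sl2 F).n true 1)) (B ((sl2 F).n true 1)))⁻¹))
      (R.s (cond x i j) * R.s (cond (!x) i j) * (R.s (cond x i j))⁻¹) := fun x => by
    rw [map_mul, map_mul, map_inv]
    exact ((act_s hA hB hS x).mul (R.s_mem_W _) (act_s hA hB hS _)).mul (inv_mem (R.s_mem_W _))
      ((act_s hA hB hS x).inv (R.s_mem_W _))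
  have k4 : ∀ x k, (R.s (cond x i j) * R.s (cond (!x) i j) * (R.s (cond x i j))⁻¹) (e R i j k) =
      e R i j (sg x (sg (!x) (sg x k))) := fun x k => by
    rw [R.s_inv, Equiv.Perm.mul_apply, Equiv.Perm.mul_apply, s_e h1 h2, s_e h1 h2, s_e h1 h2]
  have k5 := fun x r => RootSys.W_neg (R := R) (mul_mem (mul_mem (R.s_mem_W (cond x i j)) (R.s_mem_W (cond (!x) i j)))
    (inv_mem (R.s_mem_W (cond x i j)))) r
  refine (((((((k1 hB (g := A ((sl2 F).h true c)) (hS.act_H (hA.map_h c ▸ S.h_mem_H _ hc.1)) (.inl rfl) rfl).and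
    (k1 hA (g := B ((sl2 F).h true c)) (hS.act_H (hB.map_h c ▸ S.h_mem_H _ hc.1)) (.inl rfl) rfl)).and
    (k1 hA (k3 false) (.inl (k4 false 0)) (k5 _ _))).and (k1 hB (k3 true) (.inl (k4 true 1)) (k5 _ _))).and
    (k2 0 1 (by decide) (by decide))).and (k2 0 2 (by decide) (by decide))).and
    ((k2 0 3 (by decide) (by decide)).and (k2 1 3 (by decide) (by decide)))).mono le_rfl fun Q _ ν π h h' => ?_
  obtain ⟨⟨⟨⟨⟨⟨a1, a2⟩, a3⟩, a4⟩, a5⟩, a6⟩, a7, a8⟩ := h'
  exact core hS h1 h2 (hA.comp h) (hB.comp h) hF hO hC hc a1 a2 (by simpa using a3) (by simpa using a4) a5 a6 a7 a8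

end Cfsg.Lib.Pres.B2
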