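import Cfsg.Agent.Lib.Pres.Rel
import Cfsg.Agent.Lib.Comp.Pres

/-!
Bounded presentations from certified coset enumerations, and central extensions.
-/

set_option autoImplicit false

namespace Cfsg.Lib.Pres

open Cfsg.Lib.Comp Subgroup Monoid

universe u

variable {iv : ℕ → ℕ} {R R₀ : List (List ℕ × ℕ)} {L : List ℕ}

theorem cons_step {v w : List ℕ} {e : ℕ} (h : Mem.{u} iv R (([] : List ℕ).map fun x => [x]) [w])
    (hw : w = (List.replicate (e + 1) v).flatten) : Cons.{u} iv R ((v, e) :: R) := fun Γ _ γ h1 h2 =>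
  List.forall_mem_cons.2 ⟨by
    simpa [hw, Comp.ev, List.prod_flatten] using h Γ γ ⊥ h1 h2 (by simp) w (by simp), h2⟩

theorem prs_of_ord {n g : ℕ} (ho : Ord.{0} iv (R ++ R₀) L n) {G : Type*} [Group G] {γ : ℕ → G} (h1 : Rels γ R)
    (hn : n ≤ Nat.card (cl γ L)) (l : Fin g → ℕ) (hl : ∀ i, l i ∈ L) (s : ℕ → FreeGroup (Fin g))
    (hs : ∀ i, s (l i) = .of i) (h0 : Rels s R₀) (h2 : s 0 = 1)
    (hiv : ∀ x < 64, iv x < 64 ∧ (s (iv x) = (s x)⁻¹ ∨ iv x = x ∧ ([x], 1) ∈ R))
    (hR : ∀ r ∈ R, ∀ x ∈ r.1, x ∈ L) (he : ∀ x ∈ L, FreeGroup.lift (fun i => γ (l i)) (s x) = γ x) :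
    Prs (cl γ L) g R.length := by
  let f : FreeGroup (Fin g) →* cl γ L := FreeGroup.lift fun i => ⟨γ (l i), mem_cl (hl i)⟩
  have e1 : ∀ x ∈ L, (f (s x) : G) = γ x := fun x hx =>
    (DFunLike.congr_fun (show (cl γ L).subtype.comp f = _ by ext; simp [f]) _).trans (he x hx)
  have e2 : Function.Surjective f := fun ⟨y, hy⟩ => by
    obtain ⟨z, hz⟩ := (cl_le (H := ((cl γ L).subtype.comp f).range)).2 (fun x hx => ⟨_, e1 x hx⟩) hy
    exact ⟨z, Subtype.ext hz⟩
  let S := R.map fun r => Comp.ev s r.1 ^ (r.2 + 1)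
  have e3 : normalClosure {w | w ∈ S} ≤ f.ker := normalClosure_le_normal fun w hw => by
    obtain ⟨r, hr, rfl⟩ := List.mem_map.1 hw
    refine Subtype.ext (Eq.trans ?_ (h1 r hr))
    rw [map_pow, ev_map, SubgroupClass.coe_pow, ← coe_subtype, ev_map]
    exact congrArg (·.prod ^ _) (List.map_congr_left fun x hx => e1 x (hR r hr x hx))
  let m := QuotientGroup.mk' (normalClosure {w | w ∈ S})
  have e4 : Rels (fun x => m (s x)) R := fun r hr => by
    rw [← ev_map, ← map_pow]
    exact (QuotientGroup.eq_one_iff _).2 (subset_normalClosure (List.mem_map.2 ⟨r, hr, rfl⟩))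
  obtain ⟨e5, e6⟩ := ho _ (fun x => m (s x)) ⟨by simp [h2], fun x hx => ⟨(hiv x hx).1, (hiv x hx).2.elim
    (fun e => by simp [e]) fun e => by
      rw [e.1, eq_inv_iff_mul_eq_one, ← sq]; simpa [ev_single] using e4 _ e.2⟩⟩
    (e4.append fun r hr => by rw [← ev_map, ← map_pow, h0 r hr, map_one])
  have e7 : cl (fun x => m (s x)) L = ⊤ := top_unique (by
    rw [← map_top_of_surjective m (QuotientGroup.mk'_surjective _), ← FreeGroup.closure_range_of, map_le_iff_le_comap,
      closure_le]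
    rintro _ ⟨i, rfl⟩
    exact hs i ▸ mem_cl (γ := fun x => m (s x)) (hl i))
  rw [e7] at e5 e6
  have := Finite.of_equiv _ (topEquiv (G := _ ⧸ normalClosure {w | w ∈ S})).toEquiv
  have e8 : Function.Surjective (QuotientGroup.lift _ f e3) := fun y => let ⟨z, hz⟩ := e2 y; ⟨z, hz⟩
  have e9 := (Nat.bijective_iff_surjective_and_card _).2 ⟨e8, le_antisymm (card_top.ge.trans (e6.trans hn))
    (Nat.card_le_card_of_surjective _ e8)⟩
  simpa [S] using (prs_free (Fin g)).quot f e2 S (le_antisymm (fun w hw => (QuotientGroup.eq_one_iff w).1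
    (e9.1 (hw.trans (map_one _).symm))) e3)

theorem Prs.central {G : Type u} [Group G] {g r : ℕ} [IsCyclic (center G)] (h : Prs (G ⧸ center G) g r) :
    Prs G (g + 1) (r + g + 1) := by
  obtain ⟨a, R, h1, h2⟩ := h
  obtain ⟨z, hz⟩ := IsCyclic.exists_generator (α := center G)
  choose b hb using fun i => QuotientGroup.mk'_surjective (center G) (a i)
  let μ : FreeGroup (Fin (g + 1)) →* G := FreeGroup.lift (Fin.cons z.1 b)
  have e0 : (zpowers (.of 0)).map μ = center G := by
    rw [MonoidHom.map_zpowers, ← (center G).range_subtype, MonoidHom.range_eq_map, ← (eq_top_iff' _).2 hz,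
      MonoidHom.map_zpowers]
    simp [μ]
  have e1 : ∀ w, QuotientGroup.mk' _ (μ (FreeGroup.map Fin.succ w)) = FreeGroup.lift a w := fun w => by
    rw [lift_map, Linear.hom_lift_apply, ← funext hb]; rfl
  have e2 : μ.range = ⊤ := by
    rw [eq_top_iff']
    intro x
    obtain ⟨w, hw⟩ := (FreeGroup.range_lift_eq_closure.trans h2.closure_eq).ge (mem_top (QuotientGroup.mk' _ x))
    obtain ⟨c, hc, e⟩ := (QuotientGroup.mk'_eq_mk' _).1 ((e1 w).trans hw)
    exact e ▸ mul_mem ⟨_, rfl⟩ (map_le_range _ _ (e0.ge hc))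
  have H := ((Rel.all fun i : Fin R.toList.length => Rel.mem (μ := μ) (K := zpowers (.of 0))
    (a := FreeGroup.map Fin.succ (R.toList.get i)) (e0.ge ((QuotientGroup.eq_one_iff _).1 ((e1 _).trans
      (h2.rel (Finset.mem_toList.1 (List.get_mem ..))))))).and (Rel.all fun i : Fin g => Rel.eq (μ := μ)
    (a := .of i.succ * .of 0) (b := .of 0 * .of i.succ) (by simpa [μ] using mem_center_iff.1 z.2 _))).and
    (Rel.eq (μ := μ) (a := .of 0 ^ orderOf z.1) (b := 1) (by rw [map_pow, map_one, FreeGroup.lift_apply_of]; exact pow_orderOf_eq_one _))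
  simpa using ((Rel.prs (prs_free _) (H.mono (l := r + g + 1) (by simpa using h1) fun Q _ ν π e ⟨⟨r1, r2⟩, r3⟩ hν x hx => by
    have c1 : ν (.of 0) ∈ center Q := mem_center_iff.2 fun y => by
      obtain ⟨w, rfl⟩ := hν y
      refine ((closure_le (K := (centralizer {ν (.of 0)}).comap ν)).2 ?_ ((FreeGroup.closure_range_of _).ge (mem_top w))
        _ rfl).symm
      rintro _ ⟨i, rfl⟩ _ rfl
      induction i using Fin.cases with
      | zero => rfl
      | succ i => simpa using (r2 i).symm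
    have : (zpowers (ν (.of 0))).Normal := ⟨fun y hy w => by
      rwa [mem_center_iff.1 (zpowers_le.2 c1 hy), mul_inv_cancel_right]⟩
    obtain ⟨φ, hφ⟩ := h2.exists_hom (g := fun i => QuotientGroup.mk' (zpowers (ν (.of 0))) (ν (.of i.succ))) fun w hw => by
      obtain ⟨i, rfl⟩ := List.get_of_mem (Finset.mem_toList.2 hw)
      have := r1 i
      rw [MonoidHom.map_zpowers, ← QuotientGroup.eq_one_iff] at this
      rw [← this, ← lift_map (x := fun i => QuotientGroup.mk' (zpowers (ν (.of 0))) (ν (.of i)))]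
      exact (FreeGroup.lift_unique ((QuotientGroup.mk' _).comp ν) fun _ => rfl).symm
    have c2 : (φ.comp ((QuotientGroup.mk' _).comp π)).comp ν = (QuotientGroup.mk' _).comp ν := by
      ext i
      induction i using Fin.cases with
      | zero => simp [e, μ, (QuotientGroup.eq_one_iff _).2 z.2, (QuotientGroup.eq_one_iff _).2 (mem_zpowers _)]
      | succ i => simpa [e, μ, ← hb] using hφ i
    obtain ⟨w, rfl⟩ := hν x
    obtain ⟨k, hk⟩ := (QuotientGroup.eq_one_iff _).1 ((DFunLike.congr_fun c2 w).symm.trans (by simp [hx]))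
    obtain ⟨j, rfl⟩ := orderOf_dvd_iff_zpow_eq_one.2 (show z.1 ^ k = 1 by simpa [← hk, e, μ] using hx)
    rw [← hk]; simp only [zpow_mul, zpow_natCast, ← map_pow, r3, map_one, one_zpow])).map (MulEquiv.subgroupCongr e2)).map topEquiv

end Cfsg.Lib.Pres
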