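import Cfsg.Agent.Lib.Twist.WeylAll
import Cfsg.Agent.Lib.Chev.MatTop

/-!
The word problem in the finite Coxeter groups by evaluation: centres and small generating sets.
-/

set_option autoImplicit false

namespace Cfsg.Lib.Pres

open Cfsg.Lib.Chev Cfsg.Lib.Twist Subgroup

/-- The heights of the images of the fundamental roots under the inverse of a word. -/
noncomputable def actL (n Am : ℕ) (l : List ℕ) : List ℤ :=
  List.rec (List.replicate n 1)
    (fun k _ v => (List.range n).map fun i => Int.sub (v.getD i 0) (Int.mul (aN Am k i) (v.getD k 0))) l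

/-- The product of a word in the Coxeter group. -/
def cw {n : ℕ} (M : CoxeterMatrix (Fin n)) (l : List (Fin n)) : M.Group := (l.map M.simple).prod

variable {n Am : ℕ} {Φ : Type*} {R : RootSys (Fin n) Φ} {M : CoxeterMatrix (Fin n)}

theorem actL_eq (hA : ∀ i j, R.A i j = aN Am i j) (l : List (Fin n)) (i : Fin n) :
    (actL n Am (l.map Fin.val)).getD i 0 = R.ht ((R.wprod l)⁻¹ (R.simple i)) := by
  rw [← actW_one]
  induction l generalizing i with
  | nil => simp [actL, actW]
  | cons k l ih =>
    change ((List.range n).map fun i => (actL n Am (l.map Fin.val)).getD i 0 -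
      aN Am k i * (actL n Am (l.map Fin.val)).getD k 0).getD i 0 = actF R.A k (actW R.A l _) i
    rw [List.getD_eq_getElem _ _ (by simp), List.getElem_map, List.getElem_range, ih, ih, actF, hA]

theorem cw_append (l l' : List (Fin n)) : cw M (l ++ l') = cw M l * cw M l' := by simp [cw]

theorem cw_hom (h : IsCoxOf R.A M) (l : List (Fin n)) : coxHom h (cw M l) = R.wprod l := coxHom_wordProd h l

theorem cw_reverse (h : IsCoxOf R.A M) (l : List (Fin n)) : cw M l.reverse = (cw M l)⁻¹ :=
  coxHom_injective h (by rw [map_inv, cw_hom, cw_hom, R.wprod_reverse])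

/-- The word is trivial. -/
noncomputable def trivW (n Am : ℕ) (l : List (Fin n)) : Bool :=
  allLt n fun i => decide ((actL n Am (l.map Fin.val)).getD i 0 = 1)

theorem trivW_iff (h : IsCoxOf R.A M) (hA : ∀ i j, R.A i j = aN Am i j) (l : List (Fin n)) :
    trivW n Am l = true ↔ cw M l = 1 := by
  rw [← (coxHom_injective h).eq_iff, cw_hom, map_one]
  refine ⟨fun e => inv_eq_one.1 (R.eq_one_of_forall_pos_W (inv_mem (R.wprod_mem_W l)) fun i => ?_),
    fun e => allLt_of fun i hi => decide_eq_true ?_⟩
  · rw [R.pos_iff_ht, ← actL_eq hA, of_decide_eq_true (allLt_spec e i i.2)]; exact one_pos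
  · rw [actL_eq hA l ⟨i, hi⟩, e]
    simp [RootSys.ht, R.rt_simple]

theorem center_cases (h : IsCoxOf R.A M) (hA : ∀ i j, R.A i j = aN Am i j) (hc : R.Conn) (l : List (Fin n))
    (hl : allLt n (fun i => decide ((actL n Am (l.map Fin.val)).getD i 0 < 0)) = true) {z : M.Group}
    (hz : z ∈ center M.Group) : z = 1 ∨ z = cw M l := by
  have hw := coxHom_mem h z
  have h1 : ∀ i, coxHom h z (R.simple i) = R.simple i ∨ coxHom h z (R.simple i) = R.neg (R.simple i) := fun i => by
    by_contra! e
    have h2 := R.W_conj_reflPerm hw (R.simple i)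
    rw [show R.reflPerm (R.simple i) = R.s i from rfl, ← coxHom_simple h, ← map_inv, ← map_mul, ← map_mul,
      ← mem_center_iff.1 hz, mul_inv_cancel_right, coxHom_simple] at h2
    have h3 := congrArg R.rt (congrArg (· (R.simple i)) h2)
    simp only [R.s_simple, R.rt_neg, RootSys.reflPerm_apply, R.rt_refl] at h3
    have := (R.indep e.1 e.2 (a := 2) (b := -R.pair (coxHom h z (R.simple i)) (R.simple i))
      (by rw [two_smul, neg_smul]; linear_combination (exp := 1) -h3)).1
    simp at this
  by_cases h2 : ∀ i, coxHom h z (R.simple i) = R.simple i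
  · exact .inl (coxHom_injective h ((R.eq_one_of_forall_pos_W hw fun i => (h2 i).symm ▸ R.pos_simple i).trans
      (map_one _).symm))
  have h3 : ∀ i, coxHom h z (R.simple i) = R.neg (R.simple i) := fun i => (h1 i).resolve_left fun e => by
    obtain ⟨j, a, k, b, c⟩ := hc {i | coxHom h z (R.simple i) = R.simple i} ⟨i, e⟩ (by simpa [Set.Nonempty] using h2)
    have := R.W_pair hw (R.simple j) (R.simple k)
    rw [a, (h1 k).resolve_left b, R.pair_neg_right, R.pair_simple_simple] at this
    exact c (by omega)
  refine .inr (coxHom_injective h ?_)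
  rw [cw_hom, eq_comm, ← inv_mul_eq_one]
  refine R.eq_one_of_forall_pos_W (mul_mem (inv_mem (R.wprod_mem_W l)) hw) fun i => ?_
  rw [Equiv.Perm.mul_apply, h3, R.W_neg (inv_mem (R.wprod_mem_W l)), R.pos_iff_ht, R.ht_neg, ← actL_eq hA]
  exact neg_pos.2 (of_decide_eq_true (allLt_spec hl i i.2))

theorem simple_gen {K : Subgroup M.Group} (h : ∀ i, M.simple i ∈ K) : K = ⊤ :=
  top_unique (M.toCoxeterSystem.subgroup_closure_range_simple ▸ (closure_le _).2 (by rintro _ ⟨i, rfl⟩; exact h i))

theorem comm_word (h : IsCoxOf R.A M) (l : List (Fin n)) (i : Fin n) :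
    cw M (l ++ i :: (l.reverse ++ [i])) = 1 ↔ M.simple i * cw M l = cw M l * M.simple i := by
  have : cw M (i :: (l.reverse ++ [i])) = M.simple i * ((cw M l)⁻¹ * (M.simple i)⁻¹) := by
    rw [← cw_reverse h, show (M.simple i)⁻¹ = M.simple i from M.toCoxeterSystem.inv_simple i]; simp [cw]
  rw [cw_append, this, ← mul_assoc, ← mul_inv_rev, mul_inv_eq_one, eq_comm]

theorem center_two (h : IsCoxOf R.A M) (hA : ∀ i j, R.A i j = aN Am i j) (hc : R.Conn) (w : List (Fin n)) (k : ℕ)
    (hl : allLt n (fun i => decide ((actL n Am ((List.replicate k w).flatten.map Fin.val)).getD i 0 < 0)) = true)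
    (h1 : trivW n Am (List.replicate k w).flatten = false)
    (h2 : (List.finRange n).all (fun i => trivW n Am ((List.replicate k w).flatten ++
      i :: ((List.replicate k w).flatten.reverse ++ [i]))) = true) :
    Nat.card (center M.Group) = 2 ∧ center M.Group ≤ zpowers (w.map M.simple).prod := by
  have h3 : cw M (List.replicate k w).flatten = cw M w ^ k := by
    clear hl h1 h2
    induction k with
    | zero => simp [cw]
    | succ k ih => rw [List.replicate_succ, List.flatten_cons, cw_append, ih, pow_succ']
  generalize (List.replicate k w).flatten = l at *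
  have h4 : cw M l ∈ center M.Group := mem_center_iff.2 fun g => by
    have : centralizer {cw M l} = ⊤ := simple_gen fun i => mem_centralizer_singleton_iff.2 ((comm_word h l i).1
      ((trivW_iff h hA _).1 (List.all_eq_true.1 h2 i (List.mem_finRange i))))
    exact mem_centralizer_singleton_iff.1 (this ▸ mem_top g)
  refine ⟨Nat.card_eq_two_iff.2 ⟨1, ⟨_, h4⟩, fun e => ?_, Set.eq_univ_of_forall fun z => ?_⟩, fun z hz => ?_⟩
  · rw [(trivW_iff h hA l).2 (congrArg Subtype.val e).symm] at h1; cases h1
  · exact (center_cases h hA hc l hl z.2).imp Subtype.ext Subtype.ext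
  · rcases center_cases h hA hc l hl hz with rfl | rfl
    exacts [one_mem _, h3 ▸ pow_mem (mem_zpowers _) k]

theorem center_one (h : IsCoxOf R.A M) (hA : ∀ i j, R.A i j = aN Am i j) (hc : R.Conn) (l : List (Fin n))
    (hl : allLt n (fun i => decide ((actL n Am (l.map Fin.val)).getD i 0 < 0)) = true) (i : Fin n)
    (h2 : trivW n Am (l ++ i :: (l.reverse ++ [i])) = false) : center M.Group = ⊥ :=
  (eq_bot_iff_forall _).2 fun z hz => (center_cases h hA hc l hl hz).resolve_right fun e => by
    rw [(trivW_iff h hA _).2 ((comm_word h l i).2 (mem_center_iff.1 (e ▸ hz) _))] at h2; cases h2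

theorem gen_words (h : IsCoxOf R.A M) (hA : ∀ i j, R.A i j = aN Am i j) (c : List (Fin n))
    (T : List (List (Fin n) × Fin n)) (W : List (List ℕ))
    (h1 : (List.finRange n).all (fun j => trivW n Am (j :: (W.getD j []).flatMap fun a =>
      (c :: c.reverse :: T.map fun t => t.1 ++ t.2 :: t.1.reverse).getD a [])) = true)
    (h2 : T.Pairwise fun t t' => trivW n Am (t.1 ++ t.2 :: t.1.reverse ++ (t'.1 ++ t'.2 :: t'.1.reverse).reverse) = false) :
    ∃ X : Finset M.Group, X.card = T.length ∧ (∀ t ∈ X, ∃ (g : M.Group) (i : Fin n), t = g * M.simple i * g⁻¹) ∧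
      closure ({(c.map M.simple).prod} ∪ (X : Set M.Group)) = ⊤ := by
  classical
  refine ⟨(T.map fun t => cw M (t.1 ++ t.2 :: t.1.reverse)).toFinset, ?_, fun x hx => ?_, simple_gen fun j => ?_⟩
  · rw [List.toFinset_card_of_nodup, List.length_map]
    refine List.pairwise_map.2 (h2.imp fun {t t'} e e' => ?_)
    rw [(trivW_iff h hA _).2 (by rw [cw_append, cw_reverse h, e', mul_inv_cancel])] at e; cases e
  · obtain ⟨t, -, rfl⟩ := List.mem_map.1 (List.mem_toFinset.1 hx)
    exact ⟨cw M t.1, t.2, by rw [← cw_reverse h]; simp [cw, mul_assoc]⟩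
  · have h3 := (trivW_iff h hA _).1 (List.all_eq_true.1 h1 j (List.mem_finRange j))
    rw [← List.singleton_append, cw_append, mul_eq_one_iff_eq_inv] at h3
    rw [show M.simple j = cw M [j] by simp [cw], h3, inv_mem_iff]
    generalize W.getD j [] = u
    induction u with
    | nil => exact one_mem _
    | cons a u ih =>
      rw [List.flatMap_cons, cw_append]
      refine mul_mem ?_ ih
      have hc : cw M c ∈ closure ({(c.map M.simple).prod} ∪ ((T.map fun t => cw M (t.1 ++ t.2 :: t.1.reverse)).toFinset :
        Set M.Group)) := subset_closure (.inl rfl)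
      rcases a with _ | _ | a
      · exact hc
      · exact (cw_reverse h c).symm ▸ inv_mem hc
      · rw [List.getD_cons_succ, List.getD_cons_succ]
        rcases lt_or_ge a T.length with e | e
        · rw [List.getD_eq_getElem _ _ (by simpa), List.getElem_map]
          exact subset_closure (.inr (List.mem_toFinset.2 (List.mem_map_of_mem (List.getElem_mem e))))
        · rw [List.getD_eq_default _ _ (by simpa)]; exact one_mem _

end Cfsg.Lib.Pres
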