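import Cfsg.Agent.Lib.Pres.TwoBCD
import Cfsg.Agent.Lib.Asch.MinNormal
import Cfsg.Agent.Lib.Chev.SL3

/-!
Bounded presentations: rank one Levi subgroups of `SL_n` and products of two blocks.
-/

set_option autoImplicit false

namespace Cfsg.Lib.Pres

open Cfsg.Lib.Linear Cfsg.Lib.Chev Cfsg.Lib.Chev.PreSys Cfsg.Lib.Forms WtData Subgroup Monoid Matrix
open scoped commutatorElement

universe u

variable {F : Type u} [Field F] {ι κ : Type} [Fintype ι] [DecidableEq ι] [Fintype κ] [DecidableEq κ]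

/-- Weyl elements. -/
def nw (i j : ι) : SpecialLinearGroup ι F := tv i j 1 * tv j i (-1) * tv i j 1

theorem blkE_nw (f : κ ↪ ι) (i j : κ) : blkE f (nw i j : SpecialLinearGroup κ F) = nw (f i) (f j) := by
  simp [nw, blkE_tv]

theorem blkE_inj (f : κ ↪ ι) : Function.Injective (blkE (F := F) f) := fun A B h => by
  have : (bm F f)ᵀ * (bm F f * ((A.1 - 1) * (bm F f)ᵀ)) * bm F f = (bm F f)ᵀ * (bm F f * ((B.1 - 1) * (bm F f)ᵀ)) * bm F f :=
    congrArg (fun X => (bm F f)ᵀ * X * bm F f) (add_left_cancel (congrArg Subtype.val h))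
  simp only [← Matrix.mul_assoc, bm_mul, Matrix.one_mul] at this
  simp only [Matrix.mul_assoc, bm_mul, Matrix.mul_one, sub_left_inj] at this
  exact Subtype.ext this

theorem nw_two : (nw 0 1 : SpecialLinearGroup (Fin 2) F).1 = !![0, 1; -1, 0] := by
  ext i j; fin_cases i <;> fin_cases j <;> simp [nw, tv_val, Matrix.mul_apply, one_apply, single_apply]

theorem nw_two_sq : (nw 0 1 * nw 0 1 : SpecialLinearGroup (Fin 2) F) = -1 := by
  ext i j; fin_cases i <;> fin_cases j <;> simp [nw_two]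

theorem nw_two_conj (t : F) : (nw 0 1 * tv 0 1 t * (nw 0 1)⁻¹ : SpecialLinearGroup (Fin 2) F) = tv 1 0 (-t) := by
  rw [mul_inv_eq_iff_eq_mul]
  ext i j; fin_cases i <;> fin_cases j <;> simp [nw_two, tv_val, Matrix.mul_apply, one_apply, single_apply]

/-- The embedding of two indices. -/
def em2 {i j : ι} (h : i ≠ j) : Fin 2 ↪ ι := ⟨![i, j], by
  intro a b e; fin_cases a <;> fin_cases b <;> simp_all [eq_comm]⟩

variable (F) in
/-- Rank one Levi subgroups. -/
def lev {i j : ι} (h : i ≠ j) : SpecialLinearGroup (Fin 2) F →* SpecialLinearGroup ι F := blkE (em2 h)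

variable [Finite F]

theorem blk_le {n : ℕ} (f : Fin (n + 1) ↪ ι) {H : Subgroup (SpecialLinearGroup ι F)}
    (h : ∀ (k : Fin n) t, tv (f k.castSucc) (f k.succ) t ∈ H ∧ tv (f k.succ) (f k.castSucc) t ∈ H) : (blkE f).range ≤ H := by
  rw [MonoidHom.range_eq_map, map_le_iff_le_comap, top_le_iff]
  exact sl_top fun k t => by simpa only [mem_comap, blkE_tv] using h k t

theorem lev_le {i j : ι} (h : i ≠ j) {H : Subgroup (SpecialLinearGroup ι F)} :
    (lev F h).range ≤ H ↔ ∀ t, tv i j t ∈ H ∧ tv j i t ∈ H :=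
  ⟨fun e t => ⟨e ⟨_, blkE_tv _ 0 1 t⟩, e ⟨_, blkE_tv _ 1 0 t⟩⟩, fun e => blk_le _ fun k t => by
    rw [Subsingleton.elim k 0]; exact e t⟩

theorem lev_le' {i j : ι} (h : i ≠ j) {H : Subgroup (SpecialLinearGroup ι F)} (h1 : ∀ t, tv i j t ∈ H)
    {s : SpecialLinearGroup ι F} (h2 : s ∈ H) {c : F} (hc : c ≠ 0) (h3 : ∀ t, s * tv i j t * s⁻¹ = tv j i (c * t)) :
    (lev F h).range ≤ H :=
  (lev_le h).2 fun t => ⟨h1 t, by rw [← mul_inv_cancel_left₀ hc t, ← h3]; exact conj_mem' h2 (h1 _)⟩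

omit [Finite F] in
theorem lev_center {i j : ι} (h : i ≠ j) {g : SpecialLinearGroup ι F} (hg : g ∈ (lev F h).range)
    (e : ∀ x ∈ (lev F h).range, Commute g x) : g = 1 ∨ g = nw i j * nw i j := by
  obtain ⟨a, rfl⟩ := hg
  rcases SL3.center_two (g := a) (mem_center_iff.2 fun b => blkE_inj _ (show lev F h _ = lev F h _ by simpa using (e _ ⟨b, rfl⟩).eq.symm)) with rfl | rfl
  · exact .inl (map_one _)
  · exact .inr (by rw [← nw_two_sq, map_mul, lev, blkE_nw]; rfl)

theorem gen2n {n : ℕ} (hn : 1 ≤ n) : ∃ a b : SpecialLinearGroup (Fin (n + 1)) F, closure {a, b} = ⊤ ∧ normalClosure {a} = ⊤ := by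
  by_cases h : 3 ≤ Fintype.card (Fin (n + 1)) ∨ ∃ a : F, a ≠ 0 ∧ a ^ 2 ≠ 1
  · have := Fintype.ofFinite F
    obtain ⟨a, b, e⟩ := Agent.S2290.gen2 (F := F) n hn
    have h1 : closure {a, b} = ⊤ := by
      rw [eq_top_iff, ← sl_commutator_eq_top h, commutator_def, ← e, Asch.commutator_sup_center le_rfl]
      exact commutator_le_self _
    have h2 := fun x : SpecialLinearGroup (Fin (n + 1)) F => sl_normal_le_center_or_eq_top h (normalClosure {x})
    rcases h2 a with h3 | h3
    · rcases h2 b with h4 | h4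
      · have : Nontrivial (Fin (n + 1)) := Fin.nontrivial_iff_two_le.2 (by omega)
        exact absurd (top_le_iff.1 (h1.ge.trans ((closure_le _).2 (Set.pair_subset (h3 (subset_normalClosure rfl))
          (h4 (subset_normalClosure rfl)))))) sl_center_ne_top
      · exact ⟨b, a, Set.pair_comm a b ▸ h1, h4⟩
    · exact ⟨a, b, h1, h3⟩
  · push Not at h
    obtain rfl : n = 1 := by have := h.1; simp at this; omega
    have key : ∀ H : Subgroup (SpecialLinearGroup (Fin 2) F), tv 0 1 1 ∈ H → tv 1 0 (-1) ∈ H → H = ⊤ := fun H h1 h2 => by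
      have a : ∀ i j : Fin 2, i ≠ j → tv i j (1 : F) ∈ H ∨ tv i j (-1 : F) ∈ H → ∀ t, tv i j t ∈ H := fun i j e h1 t => by
        have A := (act_tv one_ne_zero e i j).add (R := F)
        replace h1 : tv i j (1 : F) ∈ H := h1.elim id fun h => by rwa [add_neg' A, inv_mem_iff] at h
        rcases eq_or_ne t 0 with rfl | ht
        · rw [add_zero' A]; exact one_mem _
        rcases sq_eq_one_iff.1 (h.2 t ht) with rfl | rfl
        exacts [h1, by rwa [add_neg' A, inv_mem_iff]]
      exact sl_top fun k t => by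
        rw [Subsingleton.elim k 0]; exact ⟨a _ _ (by decide) (.inl h1) t, a _ _ (by decide) (.inr h2) t⟩
    refine ⟨tv 0 1 1, tv 1 0 (-1), key _ (subset_closure (by simp)) (subset_closure (by simp)),
      key _ (subset_normalClosure rfl) ?_⟩
    rw [← nw_two_conj]
    exact normalClosure_normal.conj_mem _ (subset_normalClosure (Set.mem_singleton _)) _

omit [Finite F] in
theorem range_le_of_three {M M' L : Type*} [Group M] [Group M'] [Group L] {a b : M} (h : closure {a, b} = ⊤)
    (h' : normalClosure {a} = ⊤) {A : M →* L} {A' : M' →* L} (hc : ∀ x y, Commute (A x) (A' y)) {H : Subgroup L}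
    (h1 : A a ∈ H) {b' : M'} (h2 : A b * A' b' ∈ H) : A.range ≤ H := by
  have : (H.comap A).Normal := normalizer_eq_top_iff.1 (top_le_iff.1 (h.ge.trans ((closure_le _).2 (Set.pair_subset
    (le_normalizer (show a ∈ H.comap A from h1)) (mem_normalizer_iff.2 fun m => ?_)))))
  · rw [MonoidHom.range_eq_map, map_le_iff_le_comap, ← h']
    exact normalClosure_le_normal (Set.singleton_subset_iff.2 h1)
  rw [mem_comap, mem_comap, map_mul, map_mul, map_inv, ← (hc m b').symm.mul_inv_cancel,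
    show A b * (A' b' * A m * (A' b')⁻¹) * (A b)⁻¹ = A b * A' b' * A m * (A b * A' b')⁻¹ by group,
    mul_mem_cancel_right (inv_mem h2), mul_mem_cancel_left h2, (hc m b').symm.mul_inv_cancel]

end Cfsg.Lib.Pres
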