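import Cfsg.Agent.Lib.Pres.DA

/-!
Bounded presentations: monomial elements of the orthogonal groups of plus type.
-/

set_option autoImplicit false

namespace Cfsg.Lib.Pres

open Cfsg.Lib.Linear Cfsg.Lib.Chev Cfsg.Lib.Chev.PreSys Cfsg.Lib.Forms WtData Subgroup Monoid Matrix
open scoped commutatorElement

universe u

variable {F : Type u} [Field F] {Kd : Kind (RingHom.id F)} {ι : Type} [Fintype ι] [DecidableEq ι] {n : ℕ}
  {W : WtData ι (Fin (n + 2))} {D : Form Kd (ι → F)}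

variable (W D) in
/-- A frame of type `D` with the Levi subgroup `SL_n`. -/
structure DS where
  T : Frame W D
  P : W.Std
  hl : ¬ W.lg
  ho : ∀ o, W.inv o ≠ o
  φ : SpecialLinearGroup (Fin (n + 2)) F →* D.isom
  inj : Function.Injective φ
  hx : ∀ i j, i ≠ j → ∀ t, φ (tv i j t) = XX W D (P.p i) (W.inv (P.p j)) t

variable (W) in
/-- Sign changes. -/
def fl (a : ι) : Equiv.Perm ι := Equiv.swap a (W.inv a)

theorem fl_apply (a x : ι) : fl W a x = if x = a ∨ x = W.inv a then W.inv x else x := by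
  rw [fl, Equiv.swap_apply_def]
  split_ifs <;> simp_all [W.inv_inv]

theorem fl_inv (a x : ι) : fl W a (W.inv x) = W.inv (fl W a x) := by
  simp only [fl_apply, W.inv_eq_iff, W.inv_inv, or_comm]; split_ifs <;> simp [W.inv_inv]

theorem fl_comm (a b : ι) : fl W a * fl W b = fl W b * fl W a := by
  ext x
  simp only [Equiv.Perm.mul_apply, fl_apply b x, fl_apply a x]
  split_ifs <;> (try simp only [fl_inv]) <;> simp only [fl_apply, *, if_true, if_false]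

theorem fl_fl (a : ι) : fl W a * fl W a = 1 := Equiv.swap_mul_self _ _

theorem Mono.ext {g g' : D.isom} {τ : Equiv.Perm ι} {η : ι → F} (h : Mono W g τ η) (h' : Mono W g' τ η) : g = g' :=
  isom_ext_bv fun a => (h.2 a).2.2.trans (h'.2 a).2.2.symm

/-- The roots of the centralizer and normalizer of a double sign change. -/
def Cnd {κ : Type} (a b i j : κ) : Prop := (i ≠ a ∧ i ≠ b ∧ j ≠ a ∧ j ≠ b) ∨ (i = a ∧ j = b) ∨ i = b ∧ j = a

namespace DS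

variable (Z : DS W D) {g g' : SpecialLinearGroup (Fin (n + 2)) F} {σ σ' : Equiv.Perm (Fin (n + 2))} {a b c i j : Fin (n + 2)}
  {y y' : D.isom}

/-- Double sign changes. -/
def Y (a b : Fin (n + 2)) (y : D.isom) : Prop := Mono W y (fl W (Z.P.p a) * fl W (Z.P.p b)) 1

/-- Signed permutation matrices. -/
def SP (g : SpecialLinearGroup (Fin (n + 2)) F) (σ : Equiv.Perm (Fin (n + 2))) : Prop :=
  ∃ τ η, Mono W (Z.φ g) τ η ∧ (∀ k, τ (Z.P.p k) = Z.P.p (σ k)) ∧ ∀ a, η (W.inv a) = η a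

theorem swap (v : W.Val (Z.P.p i) (W.inv (Z.P.p j))) (t : F) :
    XX W D (W.inv (Z.P.p j)) (Z.P.p i) t = XX W D (Z.P.p i) (W.inv (Z.P.p j)) (-t) := by
  rw [XX, Z.T.X_swap _ v (v.symm (Z.ho _)) (Z.P.inv_ne' _ _), Z.T.ε_q Z.hl, neg_one_mul]

theorem φ_nw (h : i ≠ j) : Z.φ (nw i j) = Z.T.NN (eichSelf D) (Z.P.p i) (W.inv (Z.P.p j)) 1 := by
  simp only [nw, map_mul, Z.hx _ _ h, Z.hx _ _ h.symm, Frame.NN, W.inv_inv, Z.T.σ_q Z.hl, ← Z.swap (Z.P.val_sub h.symm),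
    inv_one, mul_one]

theorem sp_nw (h : i ≠ j) : Z.SP (nw i j) (Equiv.swap i j) := by
  obtain ⟨η, h1, h2, -⟩ := Z.T.exists_eta (eichSelf D) (Z.P.val_sub h)
  have h3 := fun p => h2 p 1 one_ne_zero
  simp only [_root_.one_zpow, mul_one] at h3
  refine ⟨sgP (rt _ _ (Z.P.val_sub h)), η, Z.φ_nw h ▸ ⟨sg_inv _, fun p => ⟨left_ne_zero_of_mul_eq_one (h1 p),
    fun _ => h1 p, h3 p⟩⟩, fun k => ?_, fun p => ?_⟩
  · change WtData.sg _ _ = _
    simp only [sg_rt, W.inv_inv, Z.P.p_inj.eq_iff, Z.P.ne_inv, Z.P.inv_ne', if_false, Equiv.swap_apply_def]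
    split_ifs <;> rfl
  · have := Z.T.eta_inv (eichSelf D) h1 h3 p
    rw [Z.T.σ_q Z.hl, Z.T.σ_q Z.hl] at this
    linear_combination η p * this - η (W.inv p) * h1 p

variable {Z}

theorem SP.mul (h : Z.SP g σ) (h' : Z.SP g' σ') : Z.SP (g * g') (σ * σ') :=
  let ⟨_, _, a, b, c⟩ := h; let ⟨_, _, a', b', c'⟩ := h'
  ⟨_, _, map_mul Z.φ g g' ▸ a.mul a', fun k => by simp [b, b'], fun k => by rw [c', a'.1, c]⟩

theorem SP.conj_tv (h : Z.SP g σ) (e : i ≠ j) : ∃ c : F, c ≠ 0 ∧ ∀ t, g * tv i j t * g⁻¹ = tv (σ i) (σ j) (c * t) :=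
  let ⟨_, _, a, b, _⟩ := h
  ⟨_, mul_ne_zero (a.2 _).1 (a.2 _).1, fun t => Z.inj (by
    rw [map_mul, map_mul, map_inv, Z.hx _ _ e, a.conj Z.T (Z.P.val_sub e), a.1, b, b, Z.hx _ _ (σ.injective.ne e)])⟩

theorem SP.conj_Y (h : Z.SP g σ) (hy : Z.Y a b y) : Z.Y (σ a) (σ b) (Z.φ g * y * (Z.φ g)⁻¹) := by
  obtain ⟨τ, η, h1, h2, h3⟩ := h
  have h4 : ∀ a x, η (fl W a x) = η x := fun a x => by rw [fl_apply]; split_ifs; exacts [h3 x, rfl]
  rw [Y]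
  convert (h1.mul hy).mul h1.inv using 1
  · simp only [fl, ← h2, ← h1.1, Equiv.swap_apply_apply]; group
  · ext x; simp [h4, (h1.2 _).1]

theorem Y.mul (h : Z.Y a b y) (h' : Z.Y a c y') : Z.Y c b (y * y') := by
  rw [Y]
  convert Mono.mul h h' using 1
  · rw [fl_comm (Z.P.p a), mul_assoc, ← mul_assoc (fl W (Z.P.p a)), fl_fl, one_mul, fl_comm]
  · ext; simp

theorem Y.sq (h : Z.Y a b y) : y * y = 1 := by
  refine Mono.ext (h.mul h) ?_
  rw [fl_fl]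
  exact ⟨fun _ => rfl, fun a => by simp⟩

theorem fl_p (Z : DS W D) (h : a ≠ b) (i : Fin (n + 2)) : (fl W (Z.P.p a) * fl W (Z.P.p b)) (Z.P.p i) =
    if i = a ∨ i = b then W.inv (Z.P.p i) else Z.P.p i := by
  simp only [Equiv.Perm.mul_apply, fl_apply (Z.P.p b), Z.P.p_inj.eq_iff, Z.P.ne_inv, or_false]
  by_cases e : i = b <;> simp only [e, if_true, if_false, fl_inv] <;> simp [fl_apply, Z.P.p_inj.eq_iff, Z.P.ne_inv, h.symm]

theorem Y.conj (h : Z.Y a b y) (e : a ≠ b) (e' : i ≠ j) (t : F) : y * Z.φ (tv i j t) * y⁻¹ =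
    XX W D (if i = a ∨ i = b then W.inv (Z.P.p i) else Z.P.p i) (if j = a ∨ j = b then Z.P.p j else W.inv (Z.P.p j)) t := by
  rw [Z.hx _ _ e', Mono.conj Z.T h (Z.P.val_sub e'), h.1, Z.fl_p e, Z.fl_p e]
  congr 1
  · split_ifs; exacts [W.inv_inv _, rfl]
  · simp

theorem Y.mem (h : Z.Y a b y) (e : a ≠ b) (e' : i ≠ j) (hc : Cnd a b i j) (t : F) :
    y * Z.φ (tv i j t) * y⁻¹ ∈ Z.φ.range := by
  rw [h.conj e e']
  rcases hc with hc | ⟨rfl, rfl⟩ | ⟨rfl, rfl⟩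
  · exact ⟨tv i j t, by simp [Z.hx _ _ e', hc]⟩
  all_goals exact ⟨tv j i (-t), by simp [Z.hx _ _ e'.symm, Z.swap (Z.P.val_sub e'.symm)]⟩

theorem exists_Y (Z : DS W D) (h : a ≠ b) : ∃ y ∈ D.E, Z.Y a b y := by
  have v := Z.P.val_add h
  have w := Z.P.val_sub h
  refine ⟨Z.T.NN (eichSelf D) _ _ (-1) * Z.T.NN (eichSelf D) _ _ 1, mul_mem (NN_mem Z.T (X_mem_E Z.T v) (X_mem_E Z.T v.inv))
    (NN_mem Z.T (X_mem_E Z.T w) (X_mem_E Z.T w.inv)), fun x => by simp [fl_inv], fun x => ⟨one_ne_zero, by simp, ?_⟩⟩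
  obtain ⟨a1, a2, a3, a4⟩ := Z.T.NN_gen (eichSelf D) v (Z.P.p_inj.ne h.symm) (Z.ho _) (t := -1) (by simp)
  obtain ⟨b1, b2, b3, b4⟩ := Z.T.NN_gen (eichSelf D) w (Z.P.inv_ne' _ _) (Z.ho _) one_ne_zero
  have c1 := fun p => Z.T.NN_fix (eichSelf D) (p := p) v (-1)
  have c2 := fun p => Z.T.NN_fix (eichSelf D) (p := p) w 1
  simp only [Z.T.σ_q Z.hl, Z.T.ε_q Z.hl, W.inv_inv, show ∀ g, (eichSelf D).φ g = g from fun _ => rfl] at a1 a2 a3 a4 b1 b2 b3 b4 c1 c2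
  have e1 := Z.fl_p h a
  have e2 := Z.fl_p h b
  simp only [true_or, or_true, if_true] at e1 e2
  have e3 : ∀ x, (fl W (Z.P.p a) * fl W (Z.P.p b)) (W.inv x) = W.inv ((fl W (Z.P.p a) * fl W (Z.P.p b)) x) := by simp [fl_inv]
  rw [Form.isom_mul_apply, Pi.one_apply, one_smul]
  by_cases x1 : x = Z.P.p a
  · simp [x1, e1, b1, a3]
  by_cases x2 : x = Z.P.p b
  · simp [x2, e2, b2, a1]
  by_cases x3 : x = W.inv (Z.P.p a)
  · simp [x3, e3, e1, b4, a2, W.inv_inv]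
  by_cases x4 : x = W.inv (Z.P.p b)
  · simp [x4, e3, e2, b3, a4, W.inv_inv]
  simp [c1 x x1 x2 x3 x4, c2 x x1 x4 x3 x2, fl_apply, *]

end DS

end Cfsg.Lib.Pres
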