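import Cfsg.Agent.Lib.Pres.DB

/-!
Bounded presentations of the orthogonal groups of plus type.
-/

set_option autoImplicit false

namespace Cfsg.Lib.Pres

open Cfsg.Lib.Linear Cfsg.Lib.Chev Cfsg.Lib.Chev.PreSys Cfsg.Lib.Forms WtData Subgroup Monoid Matrix
open scoped commutatorElement

universe u

theorem comm_of_inj {Q G : Type*} [Group Q] [Group G] {π : Q →* G} {K : Subgroup Q} (h : InjO π K) {g k : Q} (hk : k ∈ K)
    (h1 : g * k * g⁻¹ ∈ K) (h2 : Commute (π g) (π k)) : Commute g k :=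
  mul_inv_eq_iff_eq_mul.1 (h.eq h1 hk (by simpa using h2.mul_inv_cancel))

/-- The elements conjugated by `z` into the image. -/
def NZ {L Q : Type*} [Group L] [Group Q] (ν : L →* Q) (z : Q) : Subgroup L :=
  ν.range.comap ((MulAut.conj z).toMonoidHom.comp ν)

theorem mem_NZ {L Q : Type*} [Group L] [Group Q] {ν : L →* Q} {z : Q} {g : L} : g ∈ NZ ν z ↔ z * ν g * z⁻¹ ∈ ν.range :=
  Iff.rfl

theorem NZ_mul {L Q : Type*} [Group L] [Group Q] {ν : L →* Q} {z : Q} {s : L} (h : s ∈ NZ ν z) :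
    NZ ν z ≤ NZ ν (z * ν s) := fun g e => by simpa [mem_NZ, mul_assoc] using conj_mem' (mem_NZ.1 h) (mem_NZ.1 e)

variable {F : Type u} [Field F] [Finite F] {Kd : Kind (RingHom.id F)} {ι : Type} [Fintype ι] [DecidableEq ι] {n : ℕ}
  {W : WtData ι (Fin (n + 2))} {D : Form Kd (ι → F)}

namespace DS

variable (Z : DS W D) {g : SpecialLinearGroup (Fin (n + 2)) F} {σ : Equiv.Perm (Fin (n + 2))} {a b i j k l : Fin (n + 2)}
  {y₀ : D.isom}

/-- The root subgroups. -/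
noncomputable abbrev S := Z.T.sys (eichSelf D) (Z.P.baseD Z.hl Z.ho)

/-- Rank one subgroups. -/
noncomputable abbrev LV (r : W.Phi) : Subgroup D.isom := Z.S.U {r} ⊔ Z.S.U {(Z.P.baseD Z.hl Z.ho).R.neg r}

omit [Finite F] in
theorem lv_le {a b : ι} (v : W.Val a b) {H : Subgroup D.isom} :
    Z.LV (rt a b v) ≤ H ↔ ∀ t, XX W D a b t ∈ H ∧ XX W D (W.inv b) (W.inv a) t ∈ H := by
  obtain ⟨θ, h0, c1, c2, -⟩ := Z.T.exists_x (eichSelf D) (Z.P.baseD Z.hl Z.ho) v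
  have e := Z.T.X_swap (eichSelf D) v.inv (v.inv.symm (Z.ho _)) fun e => Z.hl (v.inv.2.2 e)
  simp only [sup_le_iff, U_le_iff, Set.mem_singleton_iff, forall_eq, Base.neg_eq, c1, c2, XX, e, Z.T.σ_q Z.hl, Z.T.ε_q Z.hl]
  refine ⟨fun h t => ⟨?_, ?_⟩, fun h => ⟨fun t => (h _).1, fun t => ?_⟩⟩
  · simpa [← mul_assoc, h0] using h.1 (θ * t)
  · simpa [← mul_assoc, h0] using h.2 (θ * t)
  · simpa using (h (θ * t)).2

theorem lev_map {ψ : SpecialLinearGroup (Fin (n + 2)) F →* D.isom} (h : i ≠ j) {a b : ι} (v : W.Val a b)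
    (h1 : ∀ t, ψ (tv i j t) = XX W D a b t) (h2 : ∀ t, ψ (tv j i t) = XX W D (W.inv b) (W.inv a) t) :
    (lev F h).range.map ψ = Z.LV (rt a b v) :=
  eq_of_forall_ge_iff fun H => by simp only [map_le_iff_le_comap, lev_le, lv_le, mem_comap, h1, h2]

theorem lev_φ (h : i ≠ j) : (lev F h).range.map Z.φ = Z.LV (rt _ _ (Z.P.val_sub h)) :=
  Z.lev_map h _ (Z.hx _ _ h) fun t => by rw [W.inv_inv, Z.hx _ _ h.symm]

omit [Finite F] in
theorem lv_comm {r s : W.Phi} (h : r.1 ⬝ᵥ s.1 = 0) {x y : D.isom} (hx : x ∈ Z.LV r) (hy : y ∈ Z.LV s) : Commute x y := by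
  have h1 : ∀ r : W.Phi, r.1 ⬝ᵥ r.1 = 2 := fun r => by
    obtain ⟨a, b, v, rfl⟩ := exists_rt r
    rw [rt_val, dot_rt v, if_neg fun e => Z.hl (v.2.2 e), if_neg (Z.ho _)]
  have h0 : ∀ r : W.Phi, ((Z.P.baseD Z.hl Z.ho).R.neg r).1 = -r.1 := fun _ => rfl
  have h2 : ∀ r s : W.Phi, r.1 ⬝ᵥ s.1 = 0 → ∀ t u, Z.S.x s u ∈ centralizer {Z.S.x r t} := fun r s h t u => by
    rintro _ rfl
    refine Z.S.commute_of_cone (fun e => ?_) (Base.cone_empty _ h.ge (.inr ⟨Z.hl, by simp [h1]⟩)) t u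
    rw [e, h0] at h; simp [h1] at h
  have h3 : ∀ r : W.Phi, r.1 ⬝ᵥ s.1 = 0 → ∀ t, Z.S.x r t ∈ centralizer {y} := fun r h t => by
    rintro _ rfl
    refine ((sup_le (c := centralizer {Z.S.x r t}) (Z.S.U_le_iff.2 ?_) (Z.S.U_le_iff.2 ?_)) hy _ rfl).symm <;> rintro _ rfl
    exacts [h2 _ _ h t, h2 _ _ (by rw [h0]; simp [h]) t]
  refine ((sup_le (c := centralizer {y}) (Z.S.U_le_iff.2 ?_) (Z.S.U_le_iff.2 ?_)) hx _ rfl).symm <;> rintro _ rfl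
  exacts [h3 _ h, h3 _ (by rw [h0]; simp [h])]

theorem exists_tor (h : i ≠ j) {c : F} (hc : c ≠ 0) : ∃ d ∈ (lev F h).range, ∃ χ, Mono W (Z.φ d) 1 χ ∧
    ∀ k, χ (Z.P.p k) = dv c i j k ∧ χ (W.inv (Z.P.p k)) = (dv c i j k)⁻¹ := by
  obtain ⟨d, h1, h2⟩ := (Z.lev_φ h).ge ((Z.S.U_union _ _).le
    (Z.S.h_mem_U (.inl (Set.mem_singleton _)) (.inr (Set.mem_singleton _)) c))
  refine ⟨d, h1, _, h2 ▸ mono_h Z.T _ _ hc, fun k => ?_⟩
  simp only [f_rt, fv, if_neg (Z.P.inv_ne' _ _), if_neg (Z.ho _), W.wt_inv, Z.P.wt_p, dotProduct_neg, _root_.zpow_neg, dv]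
  rw [and_iff_left_of_imp (congrArg _)]
  by_cases e : k = i
  · simp [e, h, h.symm]
  · by_cases e' : k = j <;> simp [e, e', h.symm, Pi.single_apply, Ne.symm e, eq_comm]

variable {Q : Type*} [Group Q] {ν : SpecialLinearGroup (Fin (n + 2)) F →* Q} {π : Q →* D.isom} (hπ : ∀ x, π (ν x) = Z.φ x)
  {y : Q}

variable (ν) in
/-- The element `z` behaves like a double sign change. -/
def Good (z : Q) (a b : Fin (n + 2)) : Prop := ∀ i j (h : i ≠ j), Cnd a b i j → (lev F h).range ≤ NZ ν z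

theorem SP.good (h : Z.SP g σ) (hy : Good ν y a b) : Good ν (ν g * y * (ν g)⁻¹) (σ a) (σ b) := by
  have key : ∀ i j, i ≠ j → Cnd (σ a) (σ b) i j → ∀ t, tv i j t ∈ NZ ν (ν g * y * (ν g)⁻¹) := fun i j e hc t => by
    obtain ⟨i, rfl⟩ := σ.surjective i
    obtain ⟨j, rfl⟩ := σ.surjective j
    have e' := fun h => e (congrArg σ h)
    obtain ⟨c, h0, h1⟩ := h.conj_tv e'
    rw [← mul_inv_cancel_left₀ h0 t, ← h1, mem_NZ]
    simpa [mul_assoc] using conj_mem' (H := ν.range) ⟨g, rfl⟩ (((lev_le e').1 (hy i j e' (by simpa [Cnd] using hc)) (c⁻¹ * t)).1)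
  exact fun i j e hc => (lev_le e).2 fun t => ⟨key i j e hc t, key j i e.symm (by unfold Cnd at *; tauto) t⟩

omit [Finite F] in
theorem SP.inv (h : Z.SP g σ) : Z.SP g⁻¹ σ⁻¹ :=
  let ⟨τ, _, a, b, c⟩ := h
  ⟨_, _, map_inv Z.φ g ▸ a.inv, fun k => τ.injective (by simp [b]), fun k => by rw [a.inv.1, c]⟩

omit [Finite F] in
theorem Y.fix (h : Z.Y a b y₀) (e : a ≠ b) (e' : i ≠ j) (h1 : i ≠ a ∧ i ≠ b) (h2 : j ≠ a ∧ j ≠ b) :
    Commute y₀ (Z.φ (nw i j)) := by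
  have : ∀ {i j}, i ≠ j → i ≠ a ∧ i ≠ b → j ≠ a ∧ j ≠ b → ∀ t, Commute y₀ (Z.φ (tv i j t)) := fun e' h1 h2 t =>
    mul_inv_eq_iff_eq_mul.1 (by rw [h.conj e e']; simp [h1, h2, Z.hx _ _ e'])
  simpa only [nw, map_mul] using ((this e' h1 h2 1).mul_right (this e'.symm h2 h1 _)).mul_right (this e' h1 h2 1)

theorem lev_Y (h : Z.Y a b y₀) (e : a ≠ b) (e' : i ≠ b) (h1 : i ≠ a) :
    (lev F e').range.map ((MulAut.conj y₀).toMonoidHom.comp Z.φ) = Z.LV (rt _ _ (Z.P.val_add e')) :=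
  Z.lev_map e' _ (fun t => by simpa [h1, e'] using h.conj e e' t) fun t => by simpa [h1, e'] using h.conj e e'.symm t

include hπ

omit [Finite F] in
theorem act_lift {x : Q} (hx : x ∈ ν.range) {χ : ι → F} (h : Mono W (π x) 1 χ) (e : i ≠ j) :
    Act (fun t => ν (tv i j t)) x (χ (Z.P.p i) * χ (W.inv (Z.P.p j))) :=
  ⟨fun t s => by rw [(act_tv one_ne_zero e i j).add, map_mul], fun t =>
    (injO_range hπ Z.inj).eq (conj_mem' hx ⟨_, rfl⟩) ⟨_, rfl⟩ (by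
      simp only [map_mul, map_inv, hπ, Z.hx _ _ e]; exact h.conj Z.T (Z.P.val_sub e) t)⟩

theorem pair_inj (hy : y * y = 1) (h : i ≠ j) (h' : k ≠ l)
    (h1 : ∀ a b, Commute (ν (tv i j a)) (y * ν (tv k l b) * y⁻¹)) {s : SpecialLinearGroup (Fin (n + 2)) F}
    (s1 : s ∈ (lev F h).range) (s2 : ∃ c : F, c ≠ 0 ∧ ∀ t, s * tv i j t * s⁻¹ = tv j i (c * t))
    (h2 : (lev F h').range ≤ NZ ν (y * ν s * y⁻¹)) (h3 : (lev F h).range ≤ NZ ν (y * ν (nw k l) * y⁻¹))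
    (h4 : ∀ x ∈ (lev F h).range, ∀ x' ∈ (lev F h').range, Commute (Z.φ x) (π y * Z.φ x' * (π y)⁻¹))
    (h5 : nw k l * nw k l ∈ NZ ν y) :
    InjO π ((lev F h').range.map ((MulAut.conj y).toMonoidHom.comp ν) ⊔ (lev F h).range.map ν) := by
  have hL := injO_range hπ Z.inj
  have hy' : y⁻¹ = y := inv_eq_of_mul_eq_one_left hy
  have n1 : nw k l ∈ (lev F h').range := ⟨_, blkE_nw _ 0 1⟩
  obtain ⟨c, c0, c1⟩ := s2
  obtain ⟨c', c0', c1'⟩ := (Z.sp_nw h').conj_tv h'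
  rw [Equiv.swap_apply_left, Equiv.swap_apply_right] at c1'
  have a : ∀ x ∈ (lev F h').range, Commute (ν s) (y * ν x * y⁻¹) := fun x hx => by
    have := (comm_of_inj hL ⟨x, rfl⟩ (h2 hx) (by
      have := (h4 s s1 x hx).conj (π y)
      simpa [hπ, ← mul_assoc, ← map_mul π y y, hy, ← map_inv π y, hy', mul_assoc _ (π y) (π y)] using this)).conj y
    simpa [← mul_assoc, hy, hy', mul_assoc _ y y] using this
  have b : ∀ x ∈ (lev F h).range, Commute (y * ν (nw k l) * y⁻¹) (ν x) := fun x hx =>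
    comm_of_inj hL ⟨x, rfl⟩ (h3 hx) (by simpa [hπ] using (h4 x hx _ n1).symm)
  have d : ∀ x ∈ (lev F h).range, ∀ x' ∈ (lev F h').range, Commute (y * ν x' * y⁻¹) (ν x) := fun x hx x' hx' =>
    (lev_le' h' (H := (centralizer {ν x}).comap ((MulAut.conj y).toMonoidHom.comp ν)) (fun t _ e => e ▸
      (lev_le' h (H := (centralizer {y * ν (tv k l t) * y⁻¹}).comap ν) (fun u _ e => e ▸ (h1 u t).eq.symm)
        (fun _ e => e ▸ (a _ (((lev_le h').1 le_rfl t).1)).eq.symm) c0 c1 hx _ rfl).symm)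
      (fun _ e => e ▸ (b x hx).eq.symm) c0' c1' hx' _ rfl).symm
  refine InjO.sup (hL.conj y⁻¹ ?_) ?_ ?_
  · rintro _ ⟨x, -, rfl⟩; exact ⟨x, by simp [mul_assoc]⟩
  · rintro _ ⟨x, hx, rfl⟩ _ ⟨x', hx', rfl⟩; exact d x' hx' x hx
  · rintro _ ⟨x, hx, rfl⟩ _ ⟨x', hx', rfl⟩ e e'
    refine hL _ (mul_mem ?_ ⟨x', rfl⟩) e
    rcases lev_center h' hx fun z hz => Z.inj (by
      simpa [hπ, mul_assoc] using (((e' _ ⟨z, hz, rfl⟩).conj y⁻¹).map π).eq) with rfl | rfl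
    exacts [⟨1, by simp⟩, h5]

omit [Finite F] in
theorem act_delta (hY : Z.Y a b (π y)) (hy : y * y = 1) (e : a ≠ b) (e' : i ≠ b) (h1 : i ≠ a) (hg : g ∈ NZ ν y) {χ : ι → F}
    (h : Mono W (Z.φ g) 1 χ) : Act (fun t => y * ν (tv i b t) * y⁻¹) (ν g) (χ (Z.P.p i) * χ (Z.P.p b)) := by
  have h2 := Mono.conj1 hY h
  rw [← hπ, ← map_inv, ← map_mul, ← map_mul] at h2
  refine ((Z.act_lift hπ hg h2 e').map (MulAut.conj y).toMonoidHom).cast ?_ ?_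
  · simp [← mul_assoc, hy, inv_eq_of_mul_eq_one_left hy, mul_assoc _ y y]
  · congr 2 <;> rw [Equiv.Perm.inv_eq_iff_eq, Z.fl_p e] <;> simp [h1, e']

theorem core (hn : 2 ≤ n) {m q : Fin (n + 2)} (hm : (Fin.last n).castSucc = m) (hq : Fin.last _ = q) (hY : Z.Y 0 q (π y))
    (hy : y * y = 1) (hg : Good ν y 0 q) (h2 : ν (nw 0 m) * y * (ν (nw 0 m))⁻¹ = y * ν (nw m q) * y⁻¹ * (ν (nw m q))⁻¹)
    (h3 : Commute (ν (tv m q 1)) (y * ν (tv m q 1) * y⁻¹)) (h4 : n = 2 → Commute (ν (tv 0 1 1)) (y * ν (tv m q 1) * y⁻¹)) :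
    InjO π (closure (Set.range ν ∪ {y})) := by
  have hL := injO_range hπ Z.inj
  have hy' : y⁻¹ = y := inv_eq_of_mul_eq_one_left hy
  obtain ⟨e1, e2, e3, e4, e5, e6⟩ : (0 : Fin (n + 2)) ≠ 1 ∧ 0 ≠ m ∧ 0 ≠ q ∧ 1 ≠ m ∧ 1 ≠ q ∧ m ≠ q := by
    simp [← hm, ← hq, Fin.ext_iff]; omega
  obtain ⟨f1, f2, f3, f4, f5, f6⟩ := And.intro e1.symm (And.intro e2.symm (And.intro e3.symm (And.intro e4.symm
    (And.intro e5.symm e6.symm))))
  have sq : ∀ g, ν g * y * (ν g)⁻¹ * (ν g * y * (ν g)⁻¹) = 1 := fun g => by simp [mul_assoc, ← mul_assoc y y, hy]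
  have n1 : ∀ {i j : Fin (n + 2)} (h : i ≠ j), nw i j ∈ (lev F h).range := fun h => ⟨_, blkE_nw _ 0 1⟩
  have a1 := (Z.sp_nw e2).good Z hg
  rw [Equiv.swap_apply_left, Equiv.swap_apply_of_ne_of_ne e3.symm e6.symm] at a1
  have a2 := a1 m q e6 (by simp [Cnd]) (n1 e6)
  have a3 := NZ_mul a2
  rw [h2, inv_mul_cancel_right] at a3
  rw [← h2] at a3
  have a4 : nw m q * nw m q ∈ NZ ν y := by
    rw [mem_NZ, show y * ν (nw m q * nw m q) * y⁻¹ = y * ν (nw m q) * y⁻¹ * (ν (nw m q))⁻¹ * ν (nw m q) *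
      (y * ν (nw m q) * y⁻¹ * (ν (nw m q))⁻¹) * ν (nw m q) by simp [mul_assoc], ← h2]
    nth_rewrite 2 [← inv_eq_of_mul_eq_one_left (sq _)]
    exact mul_mem a2 ⟨_, rfl⟩
  have b0 : ∀ {i j} (h : i ≠ j), (ee i - ee j) ⬝ᵥ (ee m + ee q) = (0 : ℤ) → ∀ x ∈ (lev F h).range, ∀ x' ∈ (lev F e6).range,
      Commute (Z.φ x) (π y * Z.φ x' * (π y)⁻¹) := fun h e x hx x' hx' =>
    Z.lv_comm (by simpa only [rt_val, W.wt_inv, Z.P.wt_p, ← sub_eq_add_neg] using e) ((Z.lev_φ h).le ⟨x, hx, rfl⟩)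
      ((Z.lev_Y hY e3 e6 e2.symm).le ⟨x', hx', rfl⟩)
  obtain ⟨c, hc⟩ := exists_gen F
  obtain ⟨d, d1, χ, d2, d3⟩ := Z.exists_tor e4.symm hc.1
  obtain ⟨d', d1', χ', d2', d3'⟩ := Z.exists_tor e3 hc.inv.1
  have b1 : ∀ {i j} (h : i ≠ j), dv c m 1 i * (dv c m 1 j)⁻¹ = c → dv c⁻¹ 0 q i * (dv c⁻¹ 0 q j)⁻¹ = c⁻¹ →
      Commute (ν (tv i j 1)) (y * ν (tv m q 1) * y⁻¹) → ∀ a b, Commute (ν (tv i j a)) (y * ν (tv m q b) * y⁻¹) :=
    fun h k1 k2 => by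
    have A := (Z.act_lift hπ ⟨d, rfl⟩ ((hπ d).symm ▸ d2) h).cast rfl (by rw [(d3 _).1, (d3 _).2, k1])
    have B := (Z.act_delta hπ hY hy e3 e6 e2.symm (hg _ _ _ (by simp [Cnd, *]) d1) d2).cast rfl (e := c)
      (by simp [d3, dv, *])
    exact comm2 hc A B hc.1 ((A.mul ((Z.act_lift hπ ⟨d', rfl⟩ ((hπ d').symm ▸ d2') h).cast rfl
      (by rw [(d3' _).1, (d3' _).2, k2]))).cast rfl (mul_inv_cancel₀ hc.1)) ((B.mul (Z.act_delta hπ hY hy e3 e6 e2.symm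
        (hg _ _ _ (by simp [Cnd]) d1') d2')).cast rfl (by simp [d3', dv, pow_two, *]))
  have b2 : ∀ p, p ≠ 0 → p ≠ m → p ≠ q → Commute y (ν (nw m p)) ∧ Good ν (ν (nw m p * nw 0 m) * y * (ν (nw m p * nw 0 m))⁻¹) p q ∧
      ∃ w, Good ν w 0 p ∧ ν (nw m p * nw 0 m) * y * (ν (nw m p * nw 0 m))⁻¹ = w * y ∧
        ν (nw m p * nw 0 m) * y * (ν (nw m p * nw 0 m))⁻¹ = y * w := fun p p1 p2 p3 => by
    obtain ⟨p4, p5, p6⟩ := And.intro p1.symm (And.intro p2.symm p3.symm)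
    have c1 : Commute y (ν (nw m p)) := comm_of_inj hL ⟨_, rfl⟩ (hg _ _ p2.symm (by simp [Cnd, *]) (n1 _))
      (hπ _ ▸ Y.fix Z hY e3 p2.symm ⟨e2.symm, e6⟩ ⟨p1, p3⟩)
    have c2 : ν (nw m p * nw 0 m) * y * (ν (nw m p * nw 0 m))⁻¹ =
        y * (ν (nw m p * nw m q) * y * (ν (nw m p * nw m q))⁻¹) := by
      have := congrArg (fun x => ν (nw m p) * x * (ν (nw m p))⁻¹) h2
      simpa [hy', mul_assoc, c1.symm.left_comm] using this
    refine ⟨c1, by simpa [Equiv.swap_apply_def, *] using ((Z.sp_nw p2.symm).mul (Z.sp_nw e2)).good Z hg, _,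
      by simpa [Equiv.swap_apply_def, *] using ((Z.sp_nw p2.symm).mul (Z.sp_nw e6)).good Z hg, ?_, c2⟩
    rw [← inv_eq_of_mul_eq_one_left (sq _), c2, _root_.mul_inv_rev, hy', inv_eq_of_mul_eq_one_left (sq _)]
  let K : Fin (n + 2) → Subgroup Q := Fin.lastCases ((lev F e6).range.map ((MulAut.conj y).toMonoidHom.comp ν))
    fun k => (lev F (Fin.castSucc_lt_succ (i := k)).ne).range.map ν
  have k0 : ∀ (z w : Q) {i j} (h : i ≠ j), z = w * y → (lev F e6).range ≤ NZ ν w → (lev F h).range ≤ NZ ν z →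
      InjO π ((lev F e6).range.map ((MulAut.conj y).toMonoidHom.comp ν) ⊔ (lev F h).range.map ν) := fun z w i j h e k1 k2 =>
    hL.conj z fun _ ha => sup_le (c := ν.range.comap (MulAut.conj z).toMonoidHom) (by
      rintro _ ⟨x, hx, rfl⟩
      simpa [mem_NZ, e, mul_assoc, ← mul_assoc y y, hy, hy'] using k1 hx) (by rintro _ ⟨x, hx, rfl⟩; exact k2 hx) ha
  have k1 : ∀ k : Fin (n + 1), InjO π ((lev F e6).range.map ((MulAut.conj y).toMonoidHom.comp ν) ⊔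
      (lev F (Fin.castSucc_lt_succ (i := k)).ne).range.map ν) := fun k => by
    rcases eq_or_ne k (Fin.last n) with rfl | hk
    · subst hm hq
      have := a3.trans' (a1 _ _ e6 (by simp [Cnd]))
      exact Z.pair_inj hπ hy e6 e6 (b1 e6 (by simp [dv, e5.symm, e6.symm, e4.symm]) (by simp [dv, e2.symm, e3.symm, e6]) h3)
        (n1 e6) (by simpa using (Z.sp_nw e6).conj_tv e6) this this (b0 e6 (by simp [e6, e6.symm])) a4
    rcases eq_or_ne k 0 with rfl | hk'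
    · rcases eq_or_ne n 2 with h | h
      · obtain ⟨c1, -, w, c2, -, c3⟩ := b2 1 e1.symm e4 e5
        have c4 : nw m 1 * nw 0 m * (nw m 1)⁻¹ ∈ (lev F e1).range := by
          obtain ⟨_, -, c5⟩ := (Z.sp_nw e4.symm).conj_tv e2
          obtain ⟨_, -, c6⟩ := (Z.sp_nw e4.symm).conj_tv e2.symm
          simp only [Equiv.swap_apply_left, Equiv.swap_apply_of_ne_of_ne e2 e1] at c5 c6
          have c7 := (lev_le (F := F) e1).1 le_rfl
          have c8 : nw m 1 * tv 0 m 1 * (nw m 1)⁻¹ ∈ (lev F e1).range := c5 1 ▸ (c7 _).1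
          have c9 : nw m 1 * tv m 0 (-1) * (nw m 1)⁻¹ ∈ (lev F e1).range := c6 (-1) ▸ (c7 _).2
          convert mul_mem (mul_mem c8 c9) c8 using 1
          rw [nw, nw]; group
        have c5 := NZ_mul (c2 _ _ e1 (by simp [Cnd]) c4)
        rw [show w * ν (nw m 1 * nw 0 m * (nw m 1)⁻¹) = y * ν (nw m 1 * nw 0 m * (nw m 1)⁻¹) * y⁻¹ by
          rw [← inv_mul_eq_iff_eq_mul] at c3
          simp [← c3, hy', mul_assoc, c1.inv_right.eq]] at c5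
        exact Z.pair_inj hπ hy e1 e6 (b1 e1 (by simp [dv, *]) (by simp [dv, e1.symm, *]) (h4 h)) c4
          (by simpa [Equiv.swap_apply_def, *] using (((Z.sp_nw e4.symm).mul (Z.sp_nw e2)).mul
            (SP.inv Z (Z.sp_nw e4.symm))).conj_tv e1) ((c2 _ _ e6 (by simp [Cnd, *])).trans c5)
          ((a1 _ _ e1 (by simp [Cnd, *])).trans a3) (b0 e1 (by simp [*])) a4
      · obtain ⟨p, p1, p2, p3, p4⟩ : ∃ p : Fin (n + 2), p ≠ 0 ∧ p ≠ 1 ∧ p ≠ m ∧ p ≠ q :=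
          ⟨⟨2, by omega⟩, by simp [← hm, ← hq, Fin.ext_iff]; omega⟩
        obtain ⟨-, c1, w, c2, c3, -⟩ := b2 p p1 p3 p4
        obtain ⟨p5, p6, p7, p8⟩ := And.intro p1.symm (And.intro p2.symm (And.intro p3.symm p4.symm))
        exact k0 _ w e1 c3 (c2 _ _ e6 (by simp [Cnd, *])) (c1 _ _ e1 (by simp [Cnd, *]))
    · refine k0 y 1 _ (one_mul y).symm (fun x _ => ⟨x, by simp⟩) (hg _ _ _ (.inl ?_))
      simp [← hq, hk, hk', Fin.succ_ne_last_iff]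
  have k2 : ν.range ≤ ⨆ i, K i := by
    rw [MonoidHom.range_eq_map, map_le_iff_le_comap, top_le_iff]
    refine sl_top fun k => (lev_le (Fin.castSucc_lt_succ (i := k)).ne).1 fun x hx => le_iSup K k.castSucc ?_
    simp only [K, Fin.lastCases_castSucc]; exact ⟨x, hx, rfl⟩
  have : Nonempty ι := ⟨Z.P.p 0⟩
  refine (ct_inj (S := Z.S) (Z.T.st _ _) (Z.T.sep _ _) (Z.T.opp _ _) (fun c hc => ⟨_, _, (Z.P.D_tor Z.hl Z.ho fun v =>
    Z.T.torChar_zero (eichSelf D) _ hc (Z.P.mem_closure v)).1⟩) K (fun i => ?_) fun i j => ?_).mono ((closure_le _).2 ?_)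
  · induction i using Fin.lastCases <;> simp only [K, Fin.lastCases_last, Fin.lastCases_castSucc, Subgroup.map_map]
    · subst hm hq
      rw [show (Z.P.baseD Z.hl Z.ho).R.simple _ = _ from Z.P.simp_last _, ← LV, ← Z.lev_Y hY e3 e6 e2.symm]
      congr 1; ext; simp [hπ]
    · rw [show (Z.P.baseD Z.hl Z.ho).R.simple _ = _ from Z.P.simp_cast _ _, ← LV, ← Z.lev_φ (Fin.castSucc_lt_succ (i := _)).ne]
      congr 1; ext; simp [hπ]
  · induction i using Fin.lastCases <;> induction j using Fin.lastCases <;>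
      simp only [K, Fin.lastCases_last, Fin.lastCases_castSucc]
    · exact (k1 0).mono (by simp)
    · exact k1 _
    · rw [sup_comm]; exact k1 _
    · exact hL.mono (sup_le (map_le_range _ _) (map_le_range _ _))
  · refine Set.union_subset k2 (Set.singleton_subset_iff.2 ?_)
    have : y * ν (nw m q) * y⁻¹ ∈ ⨆ i, K i := le_iSup K (Fin.last _) (by
      simp only [K, Fin.lastCases_last]; exact ⟨_, n1 e6, rfl⟩)
    have := mul_mem this (inv_mem (k2 ⟨nw m q, rfl⟩))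
    rwa [← h2, mul_mem_cancel_right (inv_mem (k2 ⟨_, rfl⟩)), mul_mem_cancel_left (k2 ⟨_, rfl⟩)] at this

omit hπ in
include Z in
theorem prs (hn : 2 ≤ n) {g r : ℕ} (h : Prs (SpecialLinearGroup (Fin (n + 2)) F) g r) :
    Prs D.E (g + 1) (r + if n = 2 then 7 else 6) := by
  obtain ⟨n, rfl⟩ : ∃ m, n = m + 1 := ⟨n - 1, by omega⟩
  obtain ⟨m, hm⟩ : ∃ m, (Fin.last (n + 1)).castSucc = m := ⟨_, rfl⟩
  obtain ⟨q, hq⟩ : ∃ q, Fin.last (n + 1 + 1) = q := ⟨_, rfl⟩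
  obtain ⟨e1, e2, e3, e4, e5, e6⟩ : (0 : Fin (n + 1 + 2)) ≠ 1 ∧ 0 ≠ m ∧ 0 ≠ q ∧ 1 ≠ m ∧ 1 ≠ q ∧ m ≠ q := by
    simp [← hm, ← hq, Fin.ext_iff]; omega
  obtain ⟨y₀, hE, hY⟩ := Z.exists_Y e3
  obtain ⟨μ, l, μ1, μ2, μ3⟩ : ∃ (μ : Coprod (SpecialLinearGroup (Fin (n + 1 + 2)) F) (FreeGroup Unit) →* D.isom) (l : _),
      (∀ x, μ (Coprod.inl x) = Z.φ x) ∧ μ l = y₀ ∧ closure (Set.range Coprod.inl ∪ {l}) = ⊤ :=
    ⟨ev Z.φ fun _ => y₀, lt _ (), by simp, by simp, by rw [← closure_coprod, Set.range_unique (ι := Unit)]⟩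
  let f : Fin (n + 1) ↪ Fin (n + 1 + 2) := Fin.castSuccEmb.trans (Fin.succEmb _)
  have f1 : ∀ k, f k ≠ 0 ∧ f k ≠ q := fun k => ⟨Fin.succ_ne_zero _, by
    simp [f, ← hq, Fin.succ_ne_last_iff, (Fin.castSucc_lt_last k).ne]⟩
  have f2 : ∀ i, i ≠ 0 → i ≠ q → ∃ k, f k = i := fun i h h' => by
    obtain ⟨i, rfl⟩ := Fin.exists_succ_eq.2 h
    obtain ⟨i, rfl⟩ := Fin.exists_castSucc_eq.2 ((Fin.succ_ne_last_iff _).1 (hq ▸ h'))
    exact ⟨i, rfl⟩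
  obtain ⟨a, b, a1, a2⟩ := gen2n (F := F) (n := n) (by omega)
  obtain ⟨a', b', a1', a2'⟩ := gen2n (F := F) (n := 1) le_rfl
  have c1 : ∀ x x', Commute (blkE (F := F) f x) (lev F e3 x') := comm_of_gen closure_tv closure_tv (by
    rintro _ ⟨⟨⟨i, j⟩, t⟩, rfl⟩ _ ⟨⟨⟨k, l⟩, u⟩, rfl⟩
    have : ∀ i k, f i ≠ em2 e3 k := fun i k => by fin_cases k; exacts [(f1 i).1, (f1 i).2]
    rcases eq_or_ne i j with rfl | h
    · simp [tv]
    rcases eq_or_ne k l with rfl | h'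
    · simp [tv]
    rw [lev, blkE_tv, blkE_tv]
    exact tv_comm (f.injective.ne h) ((em2 e3).injective.ne h') (this _ _) (this _ _) _ _)
  have g1 : Good Z.φ y₀ 0 q := fun i j e hc => (lev_le e).2 fun t =>
    ⟨hY.mem e3 e hc t, hY.mem e3 e.symm (by unfold Cnd at *; tauto) t⟩
  have g2 : (blkE f).range ≤ NZ Z.φ y₀ := blk_le f fun k =>
    (lev_le (f.injective.ne Fin.castSucc_lt_succ.ne)).1 (g1 _ _ _ (by simp [Cnd, f1]))
  have g3 := g1 _ _ e3 (by simp [Cnd])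
  have r1 : ∀ x ∈ NZ Z.φ y₀, Rel μ 1 fun _ _ ν _ => x ∈ NZ (ν.comp Coprod.inl) (ν l) := fun x hx =>
    (Rel.mem (a := l * Coprod.inl x * l⁻¹) (K := Coprod.inl.range) (let ⟨z, hz⟩ := hx; ⟨_, ⟨z, rfl⟩, by
      simpa [μ1, μ2] using hz⟩)).mono le_rfl fun _ _ ν _ _ h => by simpa [mem_NZ, MonoidHom.map_range] using h
  have r2 : ∀ {i j} (h : i ≠ j), (ee i - ee j) ⬝ᵥ (ee m + ee q) = (0 : ℤ) → Rel μ 1 fun _ _ ν _ =>
      Commute (ν (Coprod.inl (tv i j 1))) (ν l * ν (Coprod.inl (tv m q 1)) * (ν l)⁻¹) := fun {i j} h e =>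
    (Rel.eq (a := Coprod.inl (tv i j 1) * (l * Coprod.inl (tv m q 1) * l⁻¹))
      (b := l * Coprod.inl (tv m q 1) * l⁻¹ * Coprod.inl (tv i j 1)) (by
      simpa [μ1, μ2] using (Z.lv_comm (by simpa only [rt_val, W.wt_inv, Z.P.wt_p, ← sub_eq_add_neg] using e)
        ((Z.lev_φ h).le ⟨_, ((lev_le h).1 le_rfl 1).1, rfl⟩)
        ((Z.lev_Y hY e3 e6 e2.symm).le ⟨_, ((lev_le e6).1 le_rfl 1).1, rfl⟩)).eq)).mono le_rfl
      fun _ _ ν _ _ h => show _ * _ = _ * _ by simpa using h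
  have r3 : Rel μ (if n + 1 = 2 then 1 else 0) fun _ _ ν _ => n + 1 = 2 →
      Commute (ν (Coprod.inl (tv 0 1 1))) (ν l * ν (Coprod.inl (tv m q 1)) * (ν l)⁻¹) := by
    split_ifs with e
    · exact (r2 e1 (by simp [e2, e3, e4, e5, e2.symm, e3.symm, e4.symm, e5.symm])).mono le_rfl fun _ _ _ _ _ h _ => h
    · exact .triv fun _ _ _ _ _ h => absurd h e
  have r4 := Rel.eq (μ := μ) (a := Coprod.inl (nw 0 m) * l * (Coprod.inl (nw 0 m))⁻¹)
    (b := l * Coprod.inl (nw m q) * l⁻¹ * (Coprod.inl (nw m q))⁻¹) (by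
      have h1 := (Z.sp_nw e2).conj_Y hY
      have h2 := hY.mul (c := m) (by simpa [Equiv.swap_apply_def, e2, e3] using (Z.sp_nw e6).conj_Y hY)
      rw [Equiv.swap_apply_left, Equiv.swap_apply_of_ne_of_ne e3.symm e6.symm] at h1
      simpa [μ1, μ2, mul_assoc, inv_eq_of_mul_eq_one_left hY.sq] using Mono.ext h1 h2)
  refine ((Rel.prs (h.coprod Unit) (((((r1 _ (g2 ⟨a, rfl⟩)).and (r1 _ (g3 ⟨a', rfl⟩))).and
    (r1 _ (mul_mem (g2 ⟨b, rfl⟩) (g3 ⟨b', rfl⟩)))).and ((r2 e6 (by simp [e6, e6.symm])).and r3)).and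
    (r4.and (Rel.eq (a := l * l) (b := 1) (by simpa [μ1, μ2] using hY.sq))) |>.mono le_rfl
    fun Q _ ν π e ⟨⟨⟨⟨h1, h2⟩, h3⟩, h4, h5⟩, h6, h7⟩ s x => ?_)).map (MulEquiv.subgroupCongr ?_)).mono (by
      split_ifs <;> simp)
  · have k1 := range_le_of_three a1 a2 c1 h1 h3
    have k2 := range_le_of_three a1' a2' (fun x y => (c1 y x).symm) h2 ((c1 _ _).eq ▸ h3)
    refine Z.core (ν := ν.comp Coprod.inl) (y := ν l) (fun x => (e _).trans (μ1 x)) hn hm hq (by simpa [e, μ2] using hY)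
      (by simpa using h7) (fun i j h hc => ?_) (by simpa using h6) h4 h5 x ?_
    · rcases hc with hc | ⟨rfl, rfl⟩ | ⟨rfl, rfl⟩
      · obtain ⟨i, rfl⟩ := f2 i hc.1 hc.2.1
        obtain ⟨j, rfl⟩ := f2 j hc.2.2.1 hc.2.2.2
        exact (lev_le h).2 fun t => ⟨k1 ⟨_, blkE_tv _ _ _ _⟩, k1 ⟨_, blkE_tv _ _ _ _⟩⟩
      · exact k2
      · exact (lev_le h).2 fun t => ((lev_le e3).1 k2 t).symm
    · obtain ⟨x, rfl⟩ := s x
      have := mem_map_of_mem ν (μ3.ge (mem_top x))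
      rwa [MonoidHom.map_closure, Set.image_union, ← Set.range_comp, Set.image_singleton] at this
  · have k1 : ∀ x, Z.φ x ∈ μ.range := fun x => ⟨Coprod.inl x, μ1 x⟩
    have k2 := (Z.lv_le _ (H := μ.range)).1 ((Z.lev_Y hY e3 e6 e2.symm).ge.trans (map_le_iff_le_comap.2 fun x _ =>
      conj_mem' (H := μ.range) ⟨l, μ2⟩ (k1 x)))
    refine le_antisymm ?_ (univ_le_of_full Z.T (Z.P.baseD Z.hl Z.ho) Z.P rfl (Z.P.val_add (Fin.castSucc_lt_last _).ne) rfl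
      (fun k t => Z.hx _ _ Fin.castSucc_lt_succ.ne t ▸ k1 _) (fun k => full_swap Z.T (Z.P.val_sub Fin.castSucc_lt_succ.ne')
        (Z.ho _) fun t => Z.hx _ _ Fin.castSucc_lt_succ.ne' t ▸ k1 _) (fun t => ?_) (full_swap Z.T
          (Z.P.val_add (Fin.castSucc_lt_last _).ne').inv (Z.ho _) fun t => ?_))
    · rw [MonoidHom.range_eq_map, ← μ3, map_le_iff_le_comap, closure_le]
      refine Set.union_subset ?_ (Set.singleton_subset_iff.2 (mem_comap.2 (μ2 ▸ hE)))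
      rintro _ ⟨x, rfl⟩
      exact mem_comap.2 <| μ1 x ▸ (sl_eq_top_of_transvection_mem (D.E.comap Z.φ) fun i j h t => by
        rw [mem_comap, ← tv_eq, Z.hx _ _ h]; exact X_mem_E Z.T (Z.P.val_sub h) t).ge (mem_top x)
    · subst hm hq; exact (k2 t).1
    · subst hm hq; exact (k2 t).2

end DS

theorem prs_Omega {n g r : ℕ} (hn : 2 ≤ n) (h : Prs (SpecialLinearGroup (Fin (n + 2)) F) g r) :
    Prs (Omega F (quadFormPlus (n + 2) F)) (g + 1) (r + if n = 2 then 7 else 6) ∧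
      Prs (POmega F (quadFormPlus (n + 2) F)) (g + 1) ((r + if n = 2 then 7 else 6) + 1) := by
  classical
  obtain ⟨φ, h1, h2⟩ := exists_emb (stdE (n + 1) False) (frameD F (n + 2)) (eichSelf _) (by omega) fun _ => rfl
  have hG : (fPlus F (n + 2)).Good := Form.good_of_finrank (by simp; omega)
  have h3 := (DS.prs ⟨frameD F (n + 2), stdE (n + 1) False, id, fun o => (wtE _ True).lg_ne trivial o, φ, h1, h2⟩ hn h).map
    (MulEquiv.subgroupCongr ((fPlus_nondeg _).commutator_eq_E hG (by simp; omega)).symm)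
  have : IsCyclic (center (commutator (fPlus F (n + 2)).isom)) := by
    have := (fPlus_nondeg (F := F) (n + 2)).card_center_omega hG (by simp; omega)
    split_ifs at this
    · exact isCyclic_of_prime_card this
    · have := (Nat.card_eq_one_iff_unique.1 this).1; infer_instance
  exact ⟨h3.map (omegaIso _ fPlus_Q).symm, h3.quot_center.map (pOmegaIso _ fPlus_Q).symm⟩

end Cfsg.Lib.Pres
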