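import Cfsg.Agent.Lib.Pres.SL3
import Cfsg.Agent.Lib.Pres.Alt0
import Cfsg.Agent.S3377

/-!
Bounded presentations of `SL_n(q)`, `n ≥ 4`, over the alternating group.
-/

set_option autoImplicit false

namespace Cfsg.Lib.Pres

open Cfsg.Lib.Linear Matrix Equiv Subgroup Monoid
open scoped commutatorElement

universe u

section
variable {ι : Type} [Fintype ι] [DecidableEq ι] {a b c d i j k l : ι}

theorem sgn_alt : Sgn (alternatingGroup ι) := fun σ => by rw [show Perm.sign σ.1 = 1 from σ.2, one_pow]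

omit [Fintype ι] [DecidableEq ι] in
theorem inj4 (h : a ≠ b) (h' : c ≠ d) (h1 : a ≠ c) (h2 : a ≠ d) (h3 : b ≠ c) (h4 : b ≠ d) :
    Function.Injective ![a, b, c, d] := fun x y e => by
  fin_cases x <;> fin_cases y <;> simp_all

omit [Fintype ι] [DecidableEq ι] in
theorem inj3 (h : a ≠ b) (h1 : b ≠ c) (h2 : a ≠ c) : Function.Injective ![a, b, c] := fun x y e => by
  fin_cases x <;> fin_cases y <;> simp_all

theorem alt2 (h4 : 4 ≤ Fintype.card ι) (a b : ι) (h : a ≠ b) (i j : ι) (h' : i ≠ j) :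
    ∃ σ : alternatingGroup ι, σ.1 a = i ∧ σ.1 b = j :=
  have : ∀ {a b : ι}, a ≠ b → Function.Injective ![a, b] := fun h x y e => by
    fin_cases x <;> fin_cases y <;> simp_all
  (exists_alt' (this h) (this h') h4).imp fun _ h => ⟨h 0, h 1⟩

theorem alt3 (h5 : 5 ≤ Fintype.card ι) (h : Function.Injective ![a, b, c]) (h1 : i ≠ j) (h2 : j ≠ k)
    (h3 : i ≠ k) : ∃ σ : alternatingGroup ι, σ.1 a = i ∧ σ.1 b = j ∧ σ.1 c = k :=
  (exists_alt' h (inj3 h1 h2 h3) h5).imp fun _ h => ⟨h 0, h 1, h 2⟩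

theorem alt4 (h : Function.Injective ![a, b, c, d]) (h' : Function.Injective ![i, j, k, l]) :
    ∃ σ : alternatingGroup ι, σ.1 a = i ∧ σ.1 b = j ∧
      (σ.1 c = k ∧ σ.1 d = l ∨ σ.1 d = k ∧ σ.1 c = l) := by
  have h1 : ∀ x y : Fin 4, x ≠ y → _ := fun x y e => h.ne e
  obtain ⟨σ, e | e⟩ := exists_alt h h' (h1 2 3 (by decide))
  · exact ⟨σ, e 0, e 1, .inl ⟨e 2, e 3⟩⟩
  · refine ⟨σ, ?_, ?_, .inr ⟨by simpa using e 2, by simpa using e 3⟩⟩
    exacts [(swap_apply_of_ne_of_ne (h1 0 2 (by decide)) (h1 0 3 (by decide)) ▸ e 0 :),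
      (swap_apply_of_ne_of_ne (h1 1 2 (by decide)) (h1 1 3 (by decide)) ▸ e 1 :)]

theorem ex4 (h4 : 4 ≤ Fintype.card ι) (i j k : ι) : ∃ l, l ≠ i ∧ l ≠ j ∧ l ≠ k := by
  obtain ⟨l, h⟩ := Finset.card_pos.1 (show 0 < ({i, j, k} : Finset ι)ᶜ.card by
    have := Finset.card_le_three (a := i) (b := j) (c := k)
    rw [Finset.card_compl]; omega)
  exact ⟨l, by simpa [not_or] using h⟩

omit [Fintype ι] [DecidableEq ι] in
theorem Stb.of_two {Q : Type*} [Group Q] {A : Subgroup (Perm ι)} {ν : A →* Q} {u : Q} {s t : A}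
    (h : ∀ g : A, g.1 a = a → g.1 b = b → g ∈ closure {s, t}) (h1 : Commute (ν s) u)
    (h2 : Commute (ν t) u) : Stb ν u a b := fun g e e' =>
  (closure_le (comap ν (centralizer {u}))).2 (by
    rintro _ (rfl | rfl) <;> simpa [mem_centralizer_singleton_iff]) (h g e e') u rfl |>.symm

end

/-- The first inclusion. -/
abbrev jc {A : Type*} [Group A] : A →* Coprod A (FreeGroup Bool) := Coprod.inl

theorem prs_A4 : Prs (alternatingGroup (Fin 4)) 2 3 := by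
  refine prs_free_univ ![c3 0 1 2, c3 0 1 3] (alt_top (a := 0) (b := 1) (by decide) fun i h h' => ?_)
    [.of 0 ^ 3, .of 1 ^ 3, (.of 0 * .of 1) ^ 2] ?_ fun Q _ x h => ?_
  · fin_cases i <;> first | exact absurd rfl h | exact absurd rfl h' | skip
    exacts [subset_closure ⟨0, rfl⟩, subset_closure ⟨1, rfl⟩]
  · simp only [List.forall_mem_cons, map_mul, map_pow, FreeGroup.lift_apply_of]; decide
  simp only [List.forall_mem_cons, map_mul, map_pow, FreeGroup.lift_apply_of] at h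
  obtain ⟨φ, hφ⟩ := exists_hom_c3 (a := (0 : Fin 4)) (b := 1) (by decide) ![1, 1, x 0, x 1]
    (fun i _ _ => by fin_cases i <;> simp [h]) fun i j _ _ _ _ _ => by
      fin_cases i <;> fin_cases j <;> first | contradiction | exact h.2.2.1 | exact PR.symm h.2.2.1
  exact ⟨φ, fun i => by fin_cases i <;> exact hφ _ (by decide) (by decide)⟩

theorem prs_A5 : Prs (alternatingGroup (Fin 5)) 2 3 :=
  let ⟨e⟩ := Cfsg.Agent.S3377.result
  ⟨_, presLE_of_ncard ⟨e, fun _ => rfl⟩ (Set.toFinite _) ((Set.ncard_insert_le _ _).trans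
    (Nat.succ_le_succ ((Set.ncard_insert_le _ _).trans (by simp))))⟩

variable {F : Type u} [Field F] [Finite F]

theorem prs_SL4 : Prs (SpecialLinearGroup (Fin 4) F) 4 19 := by
  have h2 := alt2 (ι := Fin 4) le_rfl
  let U := jl (alternatingGroup (Fin 4)) true 0 1
  let H := jl (alternatingGroup (Fin 4)) false 0 2
  refine prs_SL_of (F := F) (by decide) sgn_alt prs_A4 (a := 0) (b := 1) (k := 2) (by decide)
    (by decide) (by decide) h2 _ (normalClosure_c3 (a := 0) (b := 1) (i := 2) (by decide) (by decide)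
      (by decide)) (H 0 1 * H 1 3 * (H 0 3)⁻¹ :: ⁅U 0 1, U 1 3⁆ * (U 0 3)⁻¹ :: ⁅U 0 1, U 3 2⁆ ::
      (f3L U H 0 1 2 ++ f4L U H 0 1 2 3)) fun Q _ ν x => ?_
  simp only [List.forall_mem_cons, List.forall_mem_append, map_mul, map_inv, map_commutatorElement, U,
    H, ev_jl, mul_inv_eq_one, f3L_iff, f4L_iff, commutatorElement_eq_one_iff_commute]
  refine ⟨fun h _ => ⟨(h.fam.f3 ?_ ?_ ?_).mul, (h.fam.f3 ?_ ?_ ?_).c4, (h.fam.f4 ?_ ?_ ?_ ?_ ?_ ?_).c3,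
    h.fam.f3 ?_ ?_ ?_, h.fam.f4 ?_ ?_ ?_ ?_ ?_ ?_⟩, fun ⟨h3, h4, h5, h6, h7⟩ => ?_⟩
  any_goals decide
  have hs : ∀ a b : Fin 4, a ≠ b → ∀ u, Stb ν u a b := fun a b h u ⟨σ, hσ⟩ h1 h2 => by
    rw [show (⟨σ, hσ⟩ : alternatingGroup _) = 1 from Subtype.ext (by
      exact (by decide +kernel : ∀ a b : Fin 4, ∀ σ : Perm (Fin 4), Perm.sign σ = 1 ∧ a ≠ b ∧ σ a = a ∧
        σ b = b → σ = 1) a b σ ⟨hσ, h, h1, h2⟩), map_one]
    exact Commute.one_left u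
  have hU := tr_conj (hs 0 1 (by decide) (x true)) (by decide) (h2 0 1 (by decide))
  have hH := tr_conj (hs 0 2 (by decide) (x false)) (by decide) (h2 0 2 (by decide))
  have hS := hs _ _ (show 0 ≠ 1 by decide) (x true)
  have hS' := hs _ _ (show 0 ≠ 2 by decide) (x false)
  refine ⟨hS, hS', ?_⟩
  generalize tr ν (x true) 0 1 = U, tr ν (x false) 0 2 = H at *
  have T : ∀ i j k, (∃ σ : Perm (Fin 4), Perm.sign σ = 1 ∧ σ 0 = i ∧ σ 1 = j ∧ σ 2 = k) →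
      F3 U H i j k := by
    rintro _ _ _ ⟨σ, h, rfl, rfl, rfl⟩
    exact h6.map (hU ⟨σ, h⟩) (hH ⟨σ, h⟩)
  have h8 : H 3 2 = (H 2 3)⁻¹ := by
    have := congrArg (MulAut.conj (ν (c3 1 3 2))).toMonoidHom h3
    rw [map_mul, ← hH, ← hH, ← hH] at this
    rw [eq_inv_iff_mul_eq_one, ← mul_right_inj (H 0 3), ← mul_assoc, mul_one]
    exact (congrArg (· * H 2 3) this).trans (T 0 2 3 (by decide)).mul
  have h9 : F3 U H 0 1 3 := ⟨h3, (T 0 3 1 (by decide)).comm.symm, by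
    have h10 : Commute (H 2 3) (H 0 2) := by
      rw [← inv_mul_cancel_left (H 0 2) (H 2 3), (T 0 2 3 (by decide)).mul]
      exact (Commute.refl _).inv_left.mul_left (T 0 2 3 (by decide)).comm.symm
    rw [← (T 3 2 1 (by decide)).mul, ← (T 0 2 3 (by decide)).mul, h8]
    calc _ = (H 2 3)⁻¹ * (H 2 1 * U 0 1 * (H 2 1)⁻¹) * H 2 3 := by group
      _ = H 0 2 * (H 2 3 * U 0 1 * (H 2 3)⁻¹) * (H 0 2)⁻¹ := by
        rw [h6.uh, h7.uh.mul_inv_cancel, mul_assoc,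
          ← ((h10.mul_right h7.uh).mul_right h10.inv_right).eq, inv_mul_cancel_left]
      _ = _ := by group, (T 0 3 1 (by decide)).c1.symm, (T 3 1 0 (by decide)).c2.symm, h4⟩
  have h10 : F4 U H 0 1 3 2 := ⟨h8 ▸ h7.uh.inv_left, h5⟩
  have h0 : Function.Injective ![(0 : Fin 4), 1, 2, 3] := by decide
  refine ⟨fun {i j k} a b c => ?_, fun a b c d e f => ?_, fun _ _ _ => .inr (ex4 le_rfl _ _ _)⟩
  · obtain ⟨l, d, e, f⟩ := ex4 le_rfl i j k
    obtain ⟨σ, rfl, rfl, ⟨rfl, -⟩ | ⟨rfl, -⟩⟩ := alt4 h0 (inj4 a f.symm c d.symm b e.symm)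
    exacts [h6.map (hU σ) (hH σ), h9.map (hU σ) (hH σ)]
  · obtain ⟨σ, rfl, rfl, ⟨rfl, rfl⟩ | ⟨rfl, rfl⟩⟩ := alt4 h0 (inj4 a b c d e f)
    exacts [h7.map (hU σ) (hH σ), h10.map (hU σ) (hH σ)]

theorem prs_SL5 : Prs (SpecialLinearGroup (Fin 5) F) 4 20 := by
  have h2 := alt2 (ι := Fin 5) (by decide)
  let U := jl (alternatingGroup (Fin 5)) true 0 1
  let H := jl (alternatingGroup (Fin 5)) false 0 2
  refine prs_SL_of (F := F) (by decide) sgn_alt prs_A5 (a := 0) (b := 1) (k := 2) (by decide)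
    (by decide) (by decide) h2 _ (normalClosure_c3 (a := 0) (b := 1) (i := 2) (by decide) (by decide)
      (by decide)) (⁅jc (c3 (2 : Fin 5) 3 4), lt _ true⁆ :: ⁅jc (c3 (1 : Fin 5) 3 4), lt _ false⁆ ::
      (f3L U H 0 1 2 ++ (f4L U H 0 1 2 3 ++ f4L U H 0 1 3 2))) fun Q _ ν x => ?_
  simp only [List.forall_mem_cons, List.forall_mem_append, map_commutatorElement, U,
    H, ev_inl, ev_lt, f3L_iff, f4L_iff, commutatorElement_eq_one_iff_commute]
  refine ⟨fun h _ => ⟨h.su _ ?_ ?_, h.sh _ ?_ ?_, h.fam.f3 ?_ ?_ ?_, h.fam.f4 ?_ ?_ ?_ ?_ ?_ ?_,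
    h.fam.f4 ?_ ?_ ?_ ?_ ?_ ?_⟩, fun ⟨h3, h4, h5, h6, h7⟩ => ?_⟩
  any_goals decide
  have hs : ∀ b c : Fin 5, b = 1 ∧ c = 2 ∨ b = 2 ∧ c = 1 → ∀ g : alternatingGroup (Fin 5), g.1 0 = 0 →
      g.1 b = b → g ∈ closure {c3 c 3 4, c3 c 3 4} := fun b c h g h1 h2 => by
    have : g = 1 ∨ g = c3 c 3 4 ∨ g = (c3 c 3 4)⁻¹ := by revert h1 h2 h b c g; decide +kernel
    have h' : c3 c 3 4 ∈ closure {c3 c 3 4, c3 c 3 4} := subset_closure (.inl rfl)
    rcases this with rfl | rfl | rfl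
    exacts [one_mem _, h', inv_mem h']
  have hS := Stb.of_two (hs 1 2 (by decide)) h3 h3
  have hS' := Stb.of_two (hs 2 1 (by decide)) h4 h4
  have hU := tr_conj hS (by decide) (h2 0 1 (by decide))
  have hH := tr_conj hS' (by decide) (h2 0 2 (by decide))
  refine ⟨hS, hS', fun a b c => ?_, fun a b c d e f => ?_, fun _ _ _ => .inr (ex4 (by decide) _ _ _)⟩
  · obtain ⟨σ, rfl, rfl, rfl⟩ := alt3 (a := 0) (b := 1) (c := 2) le_rfl (by decide) a b c
    exact h5.map (hU σ) (hH σ)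
  · obtain ⟨σ, rfl, rfl, ⟨rfl, rfl⟩ | ⟨rfl, rfl⟩⟩ :=
      alt4 (a := 0) (b := 1) (c := 2) (d := 3) (by decide) (inj4 a b c d e f)
    exacts [h6.map (hU σ) (hH σ), h7.map (hU σ) (hH σ)]

theorem prs_SL_large {n g r : ℕ} (hn : 5 ≤ n) (hP : Prs (alternatingGroup (Fin (n + 1))) g r) :
    Prs (SpecialLinearGroup (Fin (n + 1)) F) (g + 2) (r + 16) := by
  have h2 := alt2 (ι := Fin (n + 1)) (by simp; omega)
  obtain ⟨a, -⟩ := exists_new_index (m := n + 1) [] (by simp)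
  obtain ⟨b, hb⟩ := exists_new_index [a] (by simp; omega)
  obtain ⟨k, hk⟩ := exists_new_index [a, b] (by simp; omega)
  obtain ⟨l, hl⟩ := exists_new_index [a, b, k] (by simp; omega)
  simp only [List.mem_cons, List.not_mem_nil, or_false, not_or] at hb hk hl
  have hab := Ne.symm hb
  have hbk := Ne.symm hk.2
  have hak := Ne.symm hk.1
  have hal := Ne.symm hl.1
  obtain ⟨s, t, hs, ht, hst⟩ := stab_two a b
  obtain ⟨s', t', hs', ht', hst'⟩ := stab_two a k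
  let U := jl (alternatingGroup (Fin (n + 1))) true a b
  let H := jl (alternatingGroup (Fin (n + 1))) false a k
  refine prs_SL_of (F := F) (by omega) sgn_alt hP hab hbk hak h2 _ (normalClosure_c3 hab hk.1 hk.2)
    (⁅jc s, lt _ true⁆ :: ⁅jc t, lt _ true⁆ :: ⁅jc s', lt _ false⁆ :: ⁅jc t', lt _ false⁆ ::
      H a b * H b k * (H a k)⁻¹ :: ⁅H a b, H a k⁆ ::
      H k b * U a b * (H k b)⁻¹ * (H a k * U a b * (H a k)⁻¹)⁻¹ :: ⁅U a b, U b k⁆ * (U a k)⁻¹ ::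
      ⁅U a b, U a k * U l b⁆ :: f4L U H a b k l) fun Q _ ν x => ?_
  simp only [List.forall_mem_cons, map_commutatorElement, U, map_mul, map_inv, mul_inv_eq_one,
    H, ev_inl, ev_lt, ev_jl, f4L_iff, commutatorElement_eq_one_iff_commute]
  refine ⟨fun h _ => have := h.fam.f3 hab hbk hak; ⟨h.su _ hs.1 hs.2, h.su _ ht.1 ht.2, h.sh _ hs'.1 hs'.2,
    h.sh _ ht'.1 ht'.2, this.mul, this.comm, this.uh, this.c4, this.c1.mul_right
      (h.fam.f3 hab (Ne.symm hl.2.1) hal).c2, h.fam.f4 hab (Ne.symm hl.2.2) hak hal hbk (Ne.symm hl.2.1)⟩,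
    fun ⟨h3, h4, h5, h6, h7, h8, h9, h10, h11, h12⟩ => ?_⟩
  have hS := Stb.of_two hst h3 h4
  have hS' := Stb.of_two hst' h5 h6
  have hU := tr_conj hS hab (h2 a b hab)
  have hH := tr_conj hS' hak (h2 a k hak)
  refine ⟨hS, hS', ?_⟩
  generalize tr ν (x true) a b = U, tr ν (x false) a k = H at *
  have T : ∀ {i j p q}, i ≠ j → p ≠ q → i ≠ p → i ≠ q → j ≠ p → j ≠ q → F4 U H i j p q ∧
      H i j * H j p = H i p ∧ Commute (H i j) (H i p) ∧
      H p j * U i j * (H p j)⁻¹ = H i p * U i j * (H i p)⁻¹ ∧ ⁅U i j, U j p⁆ = U i p ∧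
      Commute (U i j) (U i p * U q j) := fun e1 e2 e3 e4 e5 e6 => by
    obtain ⟨σ, h⟩ := exists_alt' (inj4 hab (Ne.symm hl.2.2) hak hal hbk (Ne.symm hl.2.1))
      (inj4 e1 e2 e3 e4 e5 e6) (by simp; omega)
    obtain ⟨rfl, rfl, rfl, rfl⟩ : σ.1 a = _ ∧ σ.1 b = _ ∧ σ.1 k = _ ∧ σ.1 l = _ := ⟨h 0, h 1, h 2, h 3⟩
    refine ⟨h12.map (hU σ) (hH σ), ?_⟩
    simp only [hU, hH, ← map_mul, ← map_inv, ← map_commutatorElement]
    exact ⟨congrArg _ h7, h8.map _, congrArg _ h9, congrArg _ h10, h11.map _⟩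
  have c2 : ∀ {i j k}, i ≠ j → j ≠ k → i ≠ k → Commute (U i j) (U k j) := fun {i j k} e1 e2 e3 => by
    obtain ⟨l, hl⟩ := exists_new_index [i, j, k] (by simp; omega)
    obtain ⟨m, hm⟩ := exists_new_index [i, j, k, l] (by simp; omega)
    obtain ⟨p, hp⟩ := exists_new_index [i, j, k, l, m] (by simp; omega)
    simp only [List.mem_cons, List.not_mem_nil, or_false, not_or] at hl hm hp
    have M : ∀ q, q ≠ i → q ≠ j → q ≠ p → Commute (U i j) ((U m j)⁻¹ * U q j) := fun q _ _ _ => by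
      have := (T (i := i) (j := j) (p := p) (q := m) e1 ?_ ?_ ?_ ?_ ?_).2.2.2.2.2.inv_right.mul_right
        (T (i := i) (j := j) (p := p) (q := q) e1 ?_ ?_ ?_ ?_ ?_).2.2.2.2.2
      · simpa [mul_assoc] using this
      all_goals grind
    have h1 := (T (i := i) (j := j) (p := l) (q := k) e1 ?_ ?_ ?_ ?_ ?_).1.c3
    have h2 := (T (i := l) (j := k) (p := m) (q := j) ?_ ?_ ?_ ?_ ?_ ?_).1.c3
    have h3 := (T (i := l) (j := k) (p := j) (q := m) ?_ ?_ ?_ ?_ ?_ ?_).2.2.2.2.1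
    have := (M l ?_ ?_ ?_).inv_right.mul_right ((h1.mul_right (M k ?_ ?_ ?_)).mul_right h1.inv_right)
    · rw [← mul_assoc (U l k), h2.inv_right.eq, ← h3] at this
      simpa [mul_assoc, commutatorElement_def] using this
    all_goals grind
  refine ⟨fun {i j k} e1 e2 e3 => ?_, fun e1 e2 e3 e4 e5 e6 => (T e1 e2 e3 e4 e5 e6).1,
    fun _ _ _ => .inr (ex4 (by simp; omega) _ _ _)⟩
  obtain ⟨l, h1, h2, h3⟩ := ex4 (ι := Fin (n + 1)) (by simp; omega) i j k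
  obtain ⟨-, t1, t2, t3, t4, t5⟩ := T e1 h3.symm e3 h1.symm e2 h2.symm
  exact ⟨t1, t2, t3, by simpa using t5.mul_right (c2 e1 h2.symm h1.symm).inv_right, c2 e1 e2 e3, t4⟩

end Cfsg.Lib.Pres
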