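import Cfsg.Agent.Lib.Pres.B2
import Cfsg.Agent.Lib.Linear.MultBD
import Cfsg.Agent.S2290

/-!
Bounded presentations: the Levi subgroup `SL_n` of the symplectic and orthogonal groups.
-/

set_option autoImplicit false

namespace Cfsg.Lib.Pres

open Cfsg.Lib.Linear Cfsg.Lib.Chev Cfsg.Lib.Chev.PreSys Cfsg.Lib.Forms WtData Subgroup Monoid Matrix B2
open scoped commutatorElement

universe u v w

variable {F : Type u} [Field F]

section blk

variable {ι κ : Type} [Fintype ι] [DecidableEq ι] [Fintype κ] [DecidableEq κ] (f : κ ↪ ι)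

variable (F) in
/-- The matrix of an injection of index sets. -/
def bm : Matrix ι κ F := of fun a k => if a = f k then 1 else 0

theorem bm_mul : (bm F f)ᵀ * bm F f = (1 : Matrix κ κ F) := by
  ext k l; simp [bm, Matrix.mul_apply, one_apply, eq_comm]

/-- Block embeddings. -/
def blkE : SpecialLinearGroup κ F →* SpecialLinearGroup ι F := MonoidHom.mk' (fun A => ⟨1 + bm F f * ((A.1 - 1) * (bm F f)ᵀ), by
    rw [det_one_add_mul_comm, Matrix.mul_assoc, bm_mul]; simp⟩) fun A B => Subtype.ext (by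
  change 1 + bm F f * ((A.1 * B.1 - 1) * (bm F f)ᵀ) = (1 + bm F f * ((A.1 - 1) * (bm F f)ᵀ)) *
    (1 + bm F f * ((B.1 - 1) * (bm F f)ᵀ))
  generalize A.1 = A; generalize B.1 = B
  simp only [mul_add, add_mul, mul_one, one_mul, Matrix.mul_assoc]
  rw [← Matrix.mul_assoc (bm F f)ᵀ, bm_mul, Matrix.one_mul, add_assoc, ← Matrix.mul_add, ← Matrix.mul_add, ← Matrix.mul_assoc _ (B - 1),
    ← Matrix.add_mul, ← Matrix.add_mul]
  congr 3; noncomm_ring)

theorem blkE_tv (i j : κ) (t : F) : blkE f (tv i j t) = tv (f i) (f j) t := by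
  rcases eq_or_ne i j with rfl | h
  · simp [tv]
  refine Subtype.ext ?_
  rw [tv_val (f.injective.ne h)]
  change 1 + bm F f * (((tv i j t).1 - 1) * (bm F f)ᵀ) = _
  rw [tv_val h, add_sub_cancel_left]
  congr 1; ext a b
  rw [Matrix.mul_apply, Finset.sum_eq_single i (fun k _ hk => by simp [Matrix.mul_apply, hk.symm]) (by simp)]
  rw [Matrix.mul_apply, Finset.sum_eq_single j (fun k _ hk => by simp [hk.symm]) (by simp)]
  simp [bm, single_apply, ite_and, eq_comm]
  split_ifs <;> rfl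

end blk

theorem sl_top [Finite F] {n : ℕ} {H : Subgroup (SpecialLinearGroup (Fin (n + 1)) F)}
    (h : ∀ (k : Fin n) t, tv k.castSucc k.succ t ∈ H ∧ tv k.succ k.castSucc t ∈ H) : H = ⊤ := by
  have h1 : ∀ (r : PhiA n) t, (sysA n F).x r t = tv r.1.1 r.1.2 t := fun r t => (tv_eq r.2 t).symm
  exact top_le_iff.1 (sysA_gen.ge.trans (sysA_st.univ_le_of_simple (fun k => by
    simp only [PreSys.n, h1]; exact mul_mem (mul_mem (h k _).1 (h k _).2) (h k _).1) fun k t => h1 _ t ▸ (h k t).1))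

theorem gen3 [Finite F] {n : ℕ} (hn : 1 ≤ n) :
    ∃ a : Fin 3 → SpecialLinearGroup (Fin (n + 1)) F, closure (Set.range a) = ⊤ := by
  have := Fintype.ofFinite F
  obtain ⟨a, b, h⟩ := Agent.S2290.gen2 (F := F) n hn
  obtain ⟨z, hz⟩ := IsCyclic.exists_generator (α := center (SpecialLinearGroup (Fin (n + 1)) F))
  refine ⟨![a, b, z.1], top_le_iff.1 (h.ge.trans (sup_le (closure_mono (by simp [Set.insert_subset_iff])) fun y hy => ?_))⟩
  obtain ⟨k, hk⟩ := hz ⟨y, hy⟩
  rw [show y = z.1 ^ k from (congrArg Subtype.val hk).symm]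
  exact zpow_mem (subset_closure (by simp)) k

section cov

variable {I Φ : Type*} [Fintype I] [DecidableEq I] {R : RootSys I Φ} {G : Type w} [Group G] {S : PreSys R F G}

theorem exists_cov [Finite F] (hS : S.St) (r : Φ) {M : Type*} [Group M] {μ : M →* G} (hμ : Function.Injective μ)
    (h : ∀ t, S.x r t ∈ μ.range ∧ S.x (R.neg r) t ∈ μ.range) : ∃ A, Cov S r μ A := by
  obtain ⟨φ, h1, h2⟩ := hS.exists_sl2_hom hS.mult_of_finite r
  have h3 : φ.range ≤ μ.range := h1 ▸ sup_le (S.U_le_iff.2 fun s hs t => hs ▸ (h t).1) (S.U_le_iff.2 fun s hs t => hs ▸ (h t).2)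
  refine ⟨(MonoidHom.ofInjective hμ).symm.toMonoidHom.comp (φ.codRestrict _ fun g => h3 ⟨g, rfl⟩), fun b t => ?_,
    fun a _ e => (injective_iff_map_eq_one μ).1 hμ a e⟩
  refine (MonoidHom.apply_ofInjective_symm hμ _).trans ?_
  cases b; exacts [(h2 t).2, (h2 t).1]

theorem exists_cov_inj [Finite F] (hS : S.St) (hF : S.Sep) (hO : S.Opp) (hC : S.SC) {r : Φ} (hr : R.Pos r) :
    ∃ φ : SpecialLinearGroup (Fin 2) F →* G, Function.Injective φ ∧ ∀ b t, φ ((sl2 F).x b t) = (S.atRoot r).x b t := by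
  obtain ⟨φ, h1, h2, -⟩ := hS.exists_sl2_inj hS.mult_of_finite hF hO hC hr
  obtain ⟨ψ, h3, h4⟩ := hS.exists_sl2_hom hS.mult_of_finite r
  refine ⟨ψ, (MonoidHom.rangeRestrict_injective_iff).1 ((Nat.bijective_iff_surjective_and_card _).2
    ⟨ψ.rangeRestrict_surjective, ?_⟩).1, fun b t => by cases b; exacts [(h4 t).2, (h4 t).1]⟩
  rw [h3, ← S.U_union, Set.singleton_union, ← h2]
  exact Nat.card_congr (MonoidHom.ofInjective h1).toEquiv

theorem InjO.orth [Finite F] [Finite Φ] (hS : S.St) (hF : S.Sep) (hO : S.Opp) (hC : S.SC) {i j : I} (hij : i ≠ j) (h : R.A i j = 0)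
    {Q : Type*} [Group Q] {π : Q →* G} {A B : SpecialLinearGroup (Fin 2) F →* Q} (hA : Cov S (R.simple i) π A)
    (hB : Cov S (R.simple j) π B) (hc : ∀ x y, Commute (A x) (B y)) : InjO π (A.range ⊔ B.range) := by
  have key : ∀ {i : I} {A : SpecialLinearGroup (Fin 2) F →* Q}, Cov S (R.simple i) π A → ∀ a ∈ A.range,
      π a ∈ S.U {r | R.InSub ({i} : Finset I) r} := fun {i A} h a ha =>
    have : R.InSub ({i} : Finset I) (R.simple i) := RootSys.inSub_simple.2 (by simp)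
    sup_le (S.U_mono (by rintro _ rfl; exact this)) (S.U_mono (by rintro _ rfl; exact RootSys.inSub_neg.2 this))
      (h.range.le (mem_map_of_mem π ha))
  refine hA.inj.sup (by rintro _ ⟨x, rfl⟩ _ ⟨y, rfl⟩; exact hc x y) fun a ha b hb e _ => ?_
  rw [map_mul] at e
  have := hS.eq_one_of_orth hS.mult_of_finite hF hO hC hij h (key hA a ha)
    (eq_inv_of_mul_eq_one_left e ▸ inv_mem (key hB b hb))
  rw [this, one_mul] at e
  rw [hA.inj a ha this, hB.inj b hb e, mul_one]

end cov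

variable {Kd : Kind (RingHom.id F)} {ι : Type} [Fintype ι] [DecidableEq ι] {n : ℕ} {W : WtData ι (Fin (n + 1))}
  (P : W.Std) {D : Form Kd (ι → F)} (T : Frame W D) {Γ : Type*} [Group Γ] (S : EichSys D Γ)

theorem exists_emb [Finite F] (hn : 2 ≤ n) (hσ : ∀ k, T.σ (W.inv (P.p k)) = 1) :
    ∃ φ : SpecialLinearGroup (Fin (n + 1)) F →* Γ, Function.Injective φ ∧
      ∀ i j, i ≠ j → ∀ t, φ (tv i j t) = Frame.X W S (P.p i) (W.inv (P.p j)) t := by
  obtain ⟨φ, h⟩ := exists_hom_of_relA hn (fun r t => Frame.X W S (P.p r.1.1) (W.inv (P.p r.1.2)) t)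
    (fun r => T.X_add S (P.val_sub r.2)) (fun a b t u h h' => T.comm_eq_one S (P.val_sub a.2) (P.val_sub b.2) (P.ne_inv _ _)
      (by simpa [W.inv_inv] using P.p_inj.ne h) (.inr ⟨W.inv_inj.ne (P.p_inj.ne h'), W.inv_inj.ne (P.ne_inv _ _)⟩) t u)
    fun a b h t u e => by
      have := T.comm_short_short S (P.val_sub a.2) (P.ne_inv _ _).symm (e ▸ P.val_sub b.2)
        (by simpa [W.inv_inv] using P.p_inj.ne h) (P.ne_inv _ _).symm (W.inv_inj.ne (P.inv_ne _)) t u
      rw [← e, this, mul_assoc t, ← T.σ_inv, hσ, mul_one, Frame.X, Frame.zz, Frame.dd, if_neg (P.ne_inv _ _).symm,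
        if_neg (P.ne_inv _ _).symm, if_neg (W.inv_inj.ne (P.inv_ne _))]
  replace h : ∀ i j, i ≠ j → ∀ t, φ (tv i j t) = Frame.X W S (P.p i) (W.inv (P.p j)) t := fun i j e t =>
    tv_eq e t ▸ h ⟨(i, j), e⟩ t
  refine ⟨φ, (injective_iff_map_eq_one φ).2 fun g hg => ?_, h⟩
  let E := Fintype.linearCombination F fun i => bv F (P.p i)
  have h1 : ∀ v, (S.φ (φ g)).1 (E v) = E (g.1 *ᵥ v) := by
    clear hg
    induction (closure_tv (F := F)).ge (mem_top g) using closure_induction with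
    | mem g hg =>
      obtain ⟨⟨⟨i, j⟩, t⟩, rfl⟩ := hg
      rcases eq_or_ne i j with rfl | e
      · simp [tv]
      refine LinearMap.congr_fun (f := (S.φ (φ (tv i j t))).1.toLinearMap ∘ₗ E) (g := E ∘ₗ (tv i j t).1.mulVecLin)
        (LinearMap.pi_ext' fun k => LinearMap.ext_ring ?_)
      simp only [h i j e, tv_val e, LinearMap.comp_apply, LinearMap.single_apply, E, Fintype.linearCombination_apply_single,
        one_smul, LinearEquiv.coe_coe, mulVecLin_apply, add_mulVec, one_mulVec, map_add, single_mulVec_eq]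
      rcases eq_or_ne k j with rfl | e'
      · simpa [W.inv_inv, hσ, (P.inv_ne k).symm, Fintype.linearCombination_apply, ite_smul, add_smul,
          Finset.sum_add_distrib, single_apply, Pi.single_apply] using
          T.act_inv_right S (P.val_sub e) (P.ne_inv _ _).symm t
      · rw [T.act_fix S (P.val_sub e) t (P.ne_inv _ _) (by simpa [W.inv_inv] using P.p_inj.ne e')]
        simp [e'.symm, Fintype.linearCombination_apply]
    | one => simp
    | mul a b _ _ ha hb => intro v; simp [ha, hb]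
    | inv a _ ha =>
      intro v
      have := ha (a⁻¹.1 *ᵥ v)
      rw [mulVec_mulVec, sl_coe_mul_inv, one_mulVec] at this
      rw [← this]; simp
  refine Subtype.ext (ext_of_mulVec_single fun k => funext fun l => ?_)
  have := congrFun (h1 (Pi.single k 1)) (P.p l)
  simpa [hg, E, Fintype.linearCombination_apply, Pi.single_apply, P.p_inj.eq_iff, one_apply] using this.symm

theorem exists_levi [Finite F] (hσ : ∀ k, T.σ (W.inv (P.p k)) = 1) {φ : SpecialLinearGroup (Fin (n + 1)) F →* Γ}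
    (h1 : Function.Injective φ) (h2 : ∀ i j, i ≠ j → ∀ t, φ (tv i j t) = Frame.X W S (P.p i) (W.inv (P.p j)) t)
    {I : Type*} [Fintype I] [DecidableEq I] (β : W.Base I) {i j : Fin (n + 1)} (h : i ≠ j) :
    ∃ A, Cov (T.sys S β) (rt _ _ (P.val_sub h)) φ A ∧ ∀ H, A.range ≤ H ↔ ∀ t, tv i j t ∈ H ∧ tv j i t ∈ H := by
  obtain ⟨θ, a, b, c, -⟩ := T.exists_x S β (P.val_sub h)
  have b' : ∀ t, (T.sys S β).x (rt _ _ (P.val_sub h)) t = φ (tv i j (θ * t)) := fun t => by rw [b, h2 _ _ h]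
  have c' : ∀ t, (T.sys S β).x (β.R.neg (rt _ _ (P.val_sub h))) t = φ (tv j i (θ * t)) := fun t => by
    have := T.σ_inv (P.p i)
    rw [β.neg_eq, c, h2 _ _ h.symm, W.inv_inv, T.X_swap S (P.val_sub h.symm) (by simpa only [W.inv_inv] using (P.val_sub h).inv)
      (P.ne_inv _ _).symm, hσ, show -Kd.ε * (-(T.σ (P.p i) * 1) * θ * t) = θ * t by
        rw [hσ] at this; linear_combination (-θ * t) * this]
  obtain ⟨A, hA⟩ := exists_cov (T.st S β) (rt _ _ (P.val_sub h)) h1 fun t => ⟨⟨_, (b' t).symm⟩, ⟨_, (c' t).symm⟩⟩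
  have d : ∀ t, A ((sl2 F).x true t) = tv i j (θ * t) ∧ A ((sl2 F).x false t) = tv j i (θ * t) := fun t =>
    ⟨h1 ((hA.map true t).trans (b' t)), h1 ((hA.map false t).trans (c' t))⟩
  refine ⟨A, hA, fun H => ⟨fun e t => ?_, fun e => ?_⟩⟩
  · rw [← one_mul t, ← a, mul_assoc, ← (d _).1, ← (d _).2]; exact ⟨e ⟨_, rfl⟩, e ⟨_, rfl⟩⟩
  rw [MonoidHom.range_eq_map, ← sl2_gen, map_le_iff_le_comap, U_le_iff]
  rintro (_ | _) - t
  exacts [mem_comap.2 ((d t).2 ▸ (e _).2), mem_comap.2 ((d t).1 ▸ (e _).1)]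

theorem comm_of_gen {M M' Q : Type*} [Group M] [Group M'] [Group Q] {s : Set M} {s' : Set M'} (h : closure s = ⊤)
    (h' : closure s' = ⊤) {A : M →* Q} {B : M' →* Q} (e : ∀ x ∈ s, ∀ y ∈ s', Commute (A x) (B y)) (x : M) (y : M') :
    Commute (A x) (B y) :=
  (closure_le (K := (centralizer {B y}).comap A)).2 (fun x hx _ hy => hy ▸ ((closure_le (K := (centralizer {A x}).comap B)).2
    (fun y hy _ hz => hz ▸ (e x hx y hy).eq) (h'.ge (mem_top y)) _ rfl).symm) (h.ge (mem_top x)) _ rfl |>.symm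

end Cfsg.Lib.Pres
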