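import Cfsg.Agent.Lib.Pres.SLb
import Cfsg.Agent.Lib.Chev.CT
import Cfsg.Agent.Lib.Chev.G2SL

/-!
Bounded presentations: a calculus of consequences of boundedly many relators.
-/

set_option autoImplicit false

namespace Cfsg.Lib.Pres

open Cfsg.Lib.Linear Cfsg.Lib.Chev Subgroup Monoid
open scoped commutatorElement

universe v w

variable {J : Type v} {G : Type w} [Group J] [Group G]

/-- At most `k` relators valid under `μ` force the property `P`. -/
def Rel (μ : J →* G) (k : ℕ) (P : ∀ (Q : Type v) [Group Q], (J →* Q) → (Q →* G) → Prop) : Prop :=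
  ∃ L : List J, L.length ≤ k ∧ (∀ s ∈ L, μ s = 1) ∧ ∀ (Q : Type v) [Group Q] (ν : J →* Q) (π : Q →* G),
    (∀ a, π (ν a) = μ a) → (∀ s ∈ L, ν s = 1) → P Q ν π

namespace Rel

variable {μ : J →* G} {k l : ℕ} {P P' : ∀ (Q : Type v) [Group Q], (J →* Q) → (Q →* G) → Prop}

theorem and (h : Rel μ k P) (h' : Rel μ l P') : Rel μ (k + l) fun Q _ ν π => P Q ν π ∧ P' Q ν π := by
  obtain ⟨L, a, b, c⟩ := h
  obtain ⟨L', a', b', c'⟩ := h'
  refine ⟨L ++ L', by simpa using add_le_add a a', List.forall_mem_append.2 ⟨b, b'⟩, fun Q _ ν π e h => ?_⟩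
  rw [List.forall_mem_append] at h
  exact ⟨c Q ν π e h.1, c' Q ν π e h.2⟩

theorem mono (h : Rel μ k P) (hk : k ≤ l) (h' : ∀ (Q : Type v) [Group Q] (ν : J →* Q) (π : Q →* G),
    (∀ a, π (ν a) = μ a) → P Q ν π → P' Q ν π) : Rel μ l P' :=
  let ⟨L, a, b, c⟩ := h; ⟨L, a.trans hk, b, fun Q _ ν π e h => h' Q ν π e (c Q ν π e h)⟩

theorem triv (h : ∀ (Q : Type v) [Group Q] (ν : J →* Q) (π : Q →* G), (∀ a, π (ν a) = μ a) → P Q ν π) :
    Rel μ 0 P := ⟨[], le_rfl, by simp, fun Q _ ν π e _ => h Q ν π e⟩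

theorem eq {a b : J} (h : μ a = μ b) : Rel μ 1 fun _ _ ν _ => ν a = ν b :=
  ⟨[a * b⁻¹], le_rfl, by simp [h], fun Q _ ν π _ h => by simpa [mul_inv_eq_one] using h⟩

theorem mem {a : J} {K : Subgroup J} (h : μ a ∈ K.map μ) : Rel μ 1 fun _ _ ν _ => ν a ∈ K.map ν :=
  let ⟨b, hb, e⟩ := h; (eq e.symm).mono le_rfl fun _ _ _ _ _ h => ⟨b, hb, h.symm⟩

theorem all {m : ℕ} {P : Fin m → ∀ (Q : Type v) [Group Q], (J →* Q) → (Q →* G) → Prop}
    (h : ∀ i, Rel μ k (P i)) : Rel μ (m * k) fun Q _ ν π => ∀ i, P i Q ν π := by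
  induction m with
  | zero => exact (triv fun _ _ _ _ _ i => i.elim0).mono (by simp) fun _ _ _ _ _ h => h
  | succ m ih =>
    exact ((h 0).and (ih fun i => h i.succ)).mono (by rw [add_mul]; omega) fun _ _ _ _ _ h =>
      Fin.forall_fin_succ.2 h

theorem prs {g r : ℕ} (hJ : Prs J g r)
    (h : Rel μ k fun _ _ ν π => Function.Surjective ν → ∀ a, π a = 1 → a = 1) : Prs μ.range g (r + k) := by
  obtain ⟨L, a, b, c⟩ := h
  have h1 : normalClosure {s | s ∈ L} ≤ μ.ker := normalClosure_le_normal b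
  refine (hJ.quot _ μ.rangeRestrict_surjective L (μ.ker_rangeRestrict.trans (le_antisymm (fun m hm => ?_) h1))).mono
    (by omega)
  exact (QuotientGroup.eq_one_iff m).1 (c _ (QuotientGroup.mk' _) (QuotientGroup.lift _ μ h1) (fun _ => rfl)
    (fun s hs => (QuotientGroup.eq_one_iff s).2 (subset_normalClosure hs)) (QuotientGroup.mk'_surjective _) _ hm)

variable {M M' : Type*} [Group M] [Group M'] {m m' : ℕ} {a : Fin m → M} {a' : Fin m' → M'}

theorem conj (ha : closure (Set.range a) = ⊤) (A : M →* J) (g : J) {K : Subgroup J}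
    (h : ∀ i, μ (g * A (a i) * g⁻¹) ∈ K.map μ) :
    Rel μ m fun _ _ ν _ => ∀ x, ν (g * A x * g⁻¹) ∈ K.map ν :=
  (all fun i => mem (h i)).mono (by simp) fun _ _ ν _ _ h x =>
    (closure_le (K := (K.map ν).comap (ν.comp ((MulAut.conj g).toMonoidHom.comp A)))).2
      (by rintro _ ⟨i, rfl⟩; exact h i) (ha ▸ mem_top x)

theorem comm (ha : closure (Set.range a) = ⊤) (ha' : closure (Set.range a') = ⊤) (A : M →* J) (A' : M' →* J)
    (h : ∀ x y, Commute (μ (A x)) (μ (A' y))) :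
    Rel μ (m * m') fun _ _ ν _ => ∀ x y, Commute (ν (A x)) (ν (A' y)) := by
  refine (all fun i => all fun j => eq (a := A (a i) * A' (a' j)) (b := A' (a' j) * A (a i))
    (by simpa using (h _ _).eq)).mono (by simp) fun _ _ ν _ _ h x y => ?_
  induction (ha ▸ mem_top x : x ∈ closure (Set.range a)) using closure_induction with
  | mem x hx =>
    obtain ⟨i, rfl⟩ := hx
    induction (ha' ▸ mem_top y : y ∈ closure (Set.range a')) using closure_induction with
    | mem y hy => obtain ⟨j, rfl⟩ := hy; exact show _ * _ = _ * _ by simpa using h i j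
    | one => simp
    | mul _ _ _ _ h h' => simpa using h.mul_right h'
    | inv _ _ h => simpa using h.inv_right
  | one => simp
  | mul _ _ _ _ h h' => simpa using h.mul_left h'
  | inv _ _ h => simpa using h.inv_left

end Rel

theorem Prs.coprod' {M : Type v} {M' : Type v} [Group M] [Group M'] {g r g' r' : ℕ} (h : Prs M g r) (h' : Prs M' g' r') :
    Prs (Coprod M M') (g + g') (r + r') := by
  obtain ⟨a, R, h1, h2⟩ := h'
  have e : ∀ {Q : Type v} [Group Q] (ν : M →* Q) (x : Fin g' → Q) (s : FreeGroup (Fin g')),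
      ev ν x (Coprod.inr s) = FreeGroup.lift x s := fun ν x s => by simp [ev]
  simpa using (h.ext (Coprod.inl : M →* Coprod M M') (fun i => Coprod.inr (a i)) (by
    rw [eq_top_iff, ← Coprod.range_inl_sup_range_inr, sup_le_iff]
    refine ⟨fun _ h => subset_closure (Or.inl h), ?_⟩
    rw [MonoidHom.range_eq_map, ← h2.closure_eq, MonoidHom.map_closure, ← Set.range_comp]
    exact closure_mono Set.subset_union_right) (R.toList.map Coprod.inr) (by
      simp only [List.forall_mem_map, e, Finset.mem_toList]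
      intro s hs
      rw [← hom_lift_apply, h2.rel hs, map_one]) fun Q _ ν x _ _ _ _ h => by
      simp only [List.forall_mem_map, e, Finset.mem_toList] at h
      obtain ⟨φ, hφ⟩ := h2.exists_hom (g := x) h
      exact ⟨Coprod.lift ν φ, by simp, by simpa using hφ⟩).mono (r' := r + r') (by simpa using h1)

section lift

variable {Q : Type*} [Group Q] (π : Q →* G)

open Classical in
/-- The element of `K` over `g`. -/
noncomputable def lf (K : Subgroup Q) (g : G) : Q := if h : g ∈ K.map π then h.choose else 1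

/-- `π` is injective on `K`. -/
def InjO (K : Subgroup Q) : Prop := ∀ a ∈ K, π a = 1 → a = 1

variable {π} {K K' : Subgroup Q} {g : G}

theorem lf_mem (K : Subgroup Q) (g : G) : lf π K g ∈ K := by
  rw [lf]; split_ifs with h; exacts [h.choose_spec.1, one_mem _]

theorem map_lf (h : g ∈ K.map π) : π (lf π K g) = g := by rw [lf, dif_pos h]; exact h.choose_spec.2

theorem InjO.eq (h : InjO π K) {a b : Q} (ha : a ∈ K) (hb : b ∈ K) (e : π a = π b) : a = b :=
  mul_inv_eq_one.1 (h _ (mul_mem ha (inv_mem hb)) (by simp [e]))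

theorem InjO.eq_lf (h : InjO π K) {a : Q} (ha : a ∈ K) (e : π a = g) : a = lf π K g :=
  h.eq ha (lf_mem _ _) (e.trans (map_lf ⟨a, ha, e⟩).symm)

theorem InjO.mono (h : InjO π K) (h' : K' ≤ K) : InjO π K' := fun a ha => h a (h' ha)

theorem InjO.conj (h : InjO π K) (y : Q) (h' : ∀ a ∈ K', y * a * y⁻¹ ∈ K) : InjO π K' := fun a ha e =>
  conj_eq_one_iff.1 (h _ (h' a ha) (by simp [e]))

theorem injO_range {M : Type*} [Group M] {ν : M →* Q} {μ : M →* G} (h : ∀ a, π (ν a) = μ a)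
    (hμ : Function.Injective μ) : InjO π ν.range := by
  rintro _ ⟨a, rfl⟩ e
  rw [(injective_iff_map_eq_one μ).1 hμ a (h a ▸ e), map_one]

theorem InjO.sup (h : InjO π K) (hc : ∀ a ∈ K, ∀ b ∈ K', Commute a b)
    (h' : ∀ a ∈ K, ∀ b ∈ K', π (a * b) = 1 → (∀ c ∈ K, Commute a c) → a * b = 1) : InjO π (K ⊔ K') := fun g hg e => by
  obtain ⟨⟨a, b⟩, rfl⟩ := (sup_le (c := (K.subtype.noncommCoprod K'.subtype fun a b => hc _ a.2 _ b.2).range)
    (fun g hg => ⟨(⟨g, hg⟩, 1), mul_one g⟩) fun g hg => ⟨(1, ⟨g, hg⟩), one_mul g⟩) hg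
  refine h' a a.2 b b.2 e fun c hc' => h.eq (mul_mem a.2 hc') (mul_mem hc' a.2) ?_
  replace e : π a * π b = 1 := (map_mul π _ _).symm.trans e
  rw [map_mul, map_mul, eq_inv_of_mul_eq_one_left e]
  exact ((hc c hc' b b.2).map π).inv_right.eq.symm

variable {I Φ : Type*} [Fintype I] [DecidableEq I] [Finite Φ] {R : RootSys I Φ} {F : Type*} [Field F] [Finite F]
  {S : PreSys R F G}

/-- The Curtis–Tits theorem for subgroups. -/
theorem ct_inj (hS : S.St) (hF : S.Sep) (hO : S.Opp) {i₀ j₀ : I}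
    (hC : ∀ c, S.hprod Finset.univ.toList c = 1 → ∃ a b, c = Pi.mulSingle i₀ a * Pi.mulSingle j₀ b)
    (K : I → Subgroup Q) (hK : ∀ i, (K i).map π = S.U {R.simple i} ⊔ S.U {R.neg (R.simple i)})
    (h : ∀ i j, InjO π (K i ⊔ K j)) : InjO π (⨆ i, K i) := by
  have h1 : ∀ i t, S.x (R.simple i) t ∈ (K i).map π := fun i t => (hK i).ge (mem_sup_left (S.x_mem_U (Set.mem_singleton _) t))
  have h2 : ∀ i t, S.x (R.neg (R.simple i)) t ∈ (K i).map π := fun i t => (hK i).ge (mem_sup_right (S.x_mem_U (Set.mem_singleton _) t))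
  obtain ⟨T, a, b, c, -⟩ := PreSys.CT.exists_sys (S := S) (π := π) ⟨fun i t => lf π (K i) (S.x (R.simple i) t),
    fun i t => lf π (K i) (S.x (R.neg (R.simple i)) t), fun i t => map_lf (π := π) (K := K i) (h1 i t),
    fun i t => map_lf (π := π) (K := K i) (h2 i t),
    fun i j => (h i j).mono ((closure_le _).2 (by
      rintro _ ⟨k, hk, t, e⟩
      have : K k ≤ K i ⊔ K j := by
        rcases (by simpa using hk : k = i ∨ k = j) with rfl | rfl
        exacts [le_sup_left, le_sup_right]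
      rcases e with rfl | rfl <;> exact this (lf_mem _ _)))⟩ hS hF
  have h3 : ∀ i, T.U {R.simple i} ⊔ T.U {R.neg (R.simple i)} ≤ K i := fun i =>
    sup_le (T.U_le_iff.2 fun r hr t => by rw [hr, (b i t).1]; exact lf_mem _ _)
      (T.U_le_iff.2 fun r hr t => by rw [hr, (b i t).2]; exact lf_mem _ _)
  have h4 : ∀ i t, T.h (R.simple i) t ∈ K i := fun i t =>
    h3 i ((T.U_union _ _).le (T.h_mem_U (.inl (Set.mem_singleton _)) (.inr (Set.mem_singleton _)) t))
  intro g hg e
  have h5 : g ∈ T.U Set.univ := iSup_le (a := T.U Set.univ) (fun i y hy => by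
    obtain ⟨z, hz, e⟩ : π y ∈ (T.U {R.simple i} ⊔ T.U {R.neg (R.simple i)}).map π := by
      rw [Subgroup.map_sup, T.map_U a, T.map_U a, ← hK]; exact mem_map_of_mem π hy
    rw [← (h i i).eq (mem_sup_left (h3 i hz)) (mem_sup_left hy) e]
    exact sup_le (T.U_le_univ _) (T.U_le_univ _) hz) hg
  obtain ⟨d, rfl⟩ := (c.mem_H_iff c.mult_of_finite).1 (c.ker_le hF hO a h5 e).1
  obtain ⟨x, y, rfl⟩ := hC d ((PreSys.map_hprod a _ d).symm.trans e)
  refine h i₀ j₀ _ ?_ e
  rw [map_mul, c.tor_single, c.tor_single]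
  exact mul_mem (mem_sup_left (h4 _ _)) (mem_sup_right (h4 _ _))

end lift

end Cfsg.Lib.Pres
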