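import Cfsg.Agent.Lib.Pres.SLb
import Cfsg.Agent.Lib.Linear.SymPres

/-!
A bounded presentation of `SL₃(q)`.
-/

set_option autoImplicit false

namespace Cfsg.Lib.Pres

open Cfsg.Lib.Linear Matrix Equiv Subgroup Monoid
open scoped commutatorElement

universe u

variable {ι : Type} [DecidableEq ι] {A : Subgroup (Perm ι)} {J Q : Type*} [Group J] [Group Q]

/-- Relators on three indices. -/
def f3L (U H : ι → ι → J) (i j k : ι) : List J :=
  [H i j * H j k * (H i k)⁻¹, ⁅H i j, H i k⁆, H k j * U i j * (H k j)⁻¹ * (H i k * U i j * (H i k)⁻¹)⁻¹,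
    ⁅U i j, U i k⁆, ⁅U i j, U k j⁆, ⁅U i j, U j k⁆ * (U i k)⁻¹]

/-- Relators on four indices. -/
def f4L (U H : ι → ι → J) (i j k l : ι) : List J := [⁅H k l, U i j⁆, ⁅U i j, U k l⁆]

variable (A) in
/-- The transported letters. -/
noncomputable def jl (e : Bool) (a b : ι) : ι → ι → Coprod A (FreeGroup Bool) :=
  tr Coprod.inl (lt A e) a b

variable (ν : A →* Q) (x : Bool → Q) (a b k i j l m : ι)

theorem ev_jl (e : Bool) : ev ν x (jl A e a b i j) = tr ν (x e) a b i j := by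
  rw [jl, ev_tr, ev_lt]

theorem f3L_iff : (∀ s ∈ f3L (jl A true a b) (jl A false a k) i j l, ev ν x s = 1) ↔
    F3 (tr ν (x true) a b) (tr ν (x false) a k) i j l := by
  simp only [f3L, List.forall_mem_cons, map_mul, map_inv, map_commutatorElement, ev_jl, mul_inv_eq_one,
    commutatorElement_eq_one_iff_commute, List.not_mem_nil, false_imp_iff, implies_true, and_true]
  exact ⟨fun ⟨h1, h2, h3, h4, h5, h6⟩ => ⟨h1, h2, h3, h4, h5, h6⟩,
    fun ⟨h1, h2, h3, h4, h5, h6⟩ => ⟨h1, h2, h3, h4, h5, h6⟩⟩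

theorem f4L_iff : (∀ s ∈ f4L (jl A true a b) (jl A false a k) i j l m, ev ν x s = 1) ↔
    F4 (tr ν (x true) a b) (tr ν (x false) a k) i j l m := by
  simp only [f4L, List.forall_mem_cons, map_commutatorElement, ev_jl,
    commutatorElement_eq_one_iff_commute, List.not_mem_nil, false_imp_iff, implies_true, and_true]
  exact ⟨fun ⟨h1, h2⟩ => ⟨h1, h2⟩, fun ⟨h1, h2⟩ => ⟨h1, h2⟩⟩

theorem prs_S3 : Prs (Perm (Fin 3)) 2 2 := by
  refine prs_free_univ (adjSwap 2) (closure_adjSwap 2) [.of 0 * .of 0, (.of 0 * .of 1) ^ 3 * (.of 1 ^ 2)⁻¹]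
    (by simp only [List.forall_mem_cons, map_mul, map_inv, map_pow, FreeGroup.lift_apply_of]; decide)
    fun Q _ x h => ?_
  simp only [List.forall_mem_cons, map_mul, map_inv, map_pow, FreeGroup.lift_apply_of, mul_inv_eq_one] at h
  have h1 := (braid_of_cube h.1 h.2.1).1
  obtain ⟨φ, hφ⟩ := CoxA.exists_hom (s := extFin x) (n := 2) ⟨fun i hi => by
    interval_cases i; exacts [h.1, h1], fun i hi => by
    obtain rfl : i = 0 := by omega
    exact h.2.1.trans ((sq _).trans h1), fun i j h h' => by omega⟩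
  exact ⟨φ, fun i => (hφ i).trans (extFin_val x i)⟩

theorem prs_SL3 {F : Type u} [Field F] [Finite F] : Prs (SpecialLinearGroup (Fin 3) F) 4 14 := by
  have h2 : ∀ a b : Fin 3, a ≠ b → ∀ i j, i ≠ j → ∃ σ : (⊤ : Subgroup (Perm (Fin 3))),
      σ.1 a = i ∧ σ.1 b = j := by simpa using by decide
  have h3 : ∀ i j k : Fin 3, i ≠ j → j ≠ k → i ≠ k → ∃ σ : (⊤ : Subgroup (Perm (Fin 3))),
      σ.1 0 = i ∧ σ.1 1 = j ∧ σ.1 2 = k := by simpa using by decide
  let U := jl (⊤ : Subgroup (Perm (Fin 3))) true 0 1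
  let H := jl (⊤ : Subgroup (Perm (Fin 3))) false 0 2
  refine prs_SL_of (F := F) le_rfl (A := ⊤) (fun σ => by revert σ; simpa using by decide)
    (prs_S3.map topEquiv.symm) (a := 0) (b := 1) (k := 2) (by decide) (by decide) (by decide) h2
    ⟨swap 0 1, trivial⟩ ?_ (⁅U 0 1, H 0 2 * U 1 2 * (H 0 2)⁻¹⁆ * (H 0 1 * U 0 2 * (H 0 1)⁻¹)⁻¹ ::
      f3L U H 0 1 2) fun Q _ ν x => ?_
  · rw [eq_top_iff, ← closure_range_eq_top_of_le (K := ⊤) (fun i => ⟨adjSwap 2 i, trivial⟩)
      (closure_adjSwap 2).ge, closure_le]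
    rintro _ ⟨i, rfl⟩
    refine subset_closure (Group.mem_conjugatesOfSet_iff.2 ⟨_, rfl, isConj_iff.2 ?_⟩)
    revert i; simp only [Subtype.exists, Subtype.ext_iff, mem_top, exists_true_left]; decide
  simp only [List.forall_mem_cons, map_mul, map_inv, map_commutatorElement, U, H, ev_jl,
    mul_inv_eq_one, f3L_iff]
  refine ⟨fun h h' => ⟨h' (by decide) (by decide) (by decide), h.fam.f3 (by decide) (by decide)
    (by decide)⟩, fun h => ?_⟩
  have hs : ∀ a b : Fin 3, a ≠ b → ∀ u, Stb ν u a b := fun a b h u σ h1 h2 => by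
    rw [show σ = 1 from Subtype.ext (by revert h1 h2 h a b; generalize σ.1 = σ; revert σ; decide), map_one]
    exact Commute.one_left u
  have hU := tr_conj (hs 0 1 (by decide) (x true)) (by decide) (h2 0 1 (by decide))
  have hH := tr_conj (hs 0 2 (by decide) (x false)) (by decide) (h2 0 2 (by decide))
  refine ⟨hs _ _ (by decide) _, hs _ _ (by decide) _, fun {i j k} a b c => ?_, by omega,
    fun {i j k} a b c => .inl ?_⟩ <;> obtain ⟨σ, rfl, rfl, rfl⟩ := h3 i j k a b c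
  exacts [h.2.map (hU σ) (hH σ), C5.map (hU σ) (hH σ) h.1]

end Cfsg.Lib.Pres
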