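import Cfsg.Agent.Lib.Pres.Span
import Cfsg.Agent.Lib.Linear.SteinA

/-!
Bounded presentations of `SL_n(q)`: the Steinberg relations from relations between the elements
`U i j = x_ij(1)` and `H i j = h_ij(c)`.
-/

set_option autoImplicit false

namespace Cfsg.Lib.Pres

open Cfsg.Lib.Linear Matrix
open scoped commutatorElement

variable {ι : Type*} {F : Type*} [Field F] {Q Q' : Type*} [Group Q] [Group Q'] {c : F}

/-- The relations on three indices. -/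
structure F3 (U H : ι → ι → Q) (i j k : ι) : Prop where
  mul : H i j * H j k = H i k
  comm : Commute (H i j) (H i k)
  uh : H k j * U i j * (H k j)⁻¹ = H i k * U i j * (H i k)⁻¹
  c1 : Commute (U i j) (U i k)
  c2 : Commute (U i j) (U k j)
  c4 : ⁅U i j, U j k⁆ = U i k

/-- The relations on four indices. -/
structure F4 (U H : ι → ι → Q) (i j k l : ι) : Prop where
  uh : Commute (H k l) (U i j)
  c3 : Commute (U i j) (U k l)

/-- The twisted commutator relation. -/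
def C5 (U H : ι → ι → Q) (i j k : ι) : Prop :=
  ⁅U i j, H i k * U j k * (H i k)⁻¹⁆ = H i j * U i k * (H i j)⁻¹

/-- All the relations. -/
structure Fam (U H : ι → ι → Q) : Prop where
  f3 : ∀ {i j k}, i ≠ j → j ≠ k → i ≠ k → F3 U H i j k
  f4 : ∀ {i j k l}, i ≠ j → k ≠ l → i ≠ k → i ≠ l → j ≠ k → j ≠ l → F4 U H i j k l
  c5 : ∀ {i j k}, i ≠ j → j ≠ k → i ≠ k → C5 U H i j k ∨ ∃ l, l ≠ i ∧ l ≠ j ∧ l ≠ k

section map

variable {U H : ι → ι → Q} {U' H' : ι → ι → Q'} {φ : Q →* Q'} {σ : ι → ι}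
  (hU : ∀ i j, U' (σ i) (σ j) = φ (U i j)) (hH : ∀ i j, H' (σ i) (σ j) = φ (H i j)) {i j k l : ι}
include hU hH

theorem F3.map (h : F3 U H i j k) : F3 U' H' (σ i) (σ j) (σ k) := by
  constructor <;> simp only [hU, hH, ← map_mul, ← map_inv, ← map_commutatorElement]
  exacts [congrArg φ h.mul, h.comm.map φ, congrArg φ h.uh, h.c1.map φ, h.c2.map φ, congrArg φ h.c4]

theorem F4.map (h : F4 U H i j k l) : F4 U' H' (σ i) (σ j) (σ k) (σ l) := by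
  constructor <;> simp only [hU, hH]
  exacts [h.uh.map φ, h.c3.map φ]

theorem C5.map (h : C5 U H i j k) : C5 U' H' (σ i) (σ j) (σ k) := by
  simpa only [C5, hU, hH, ← map_mul, ← map_inv, ← map_commutatorElement] using congrArg φ h

end map

/-- The relations together with the root subgroups. -/
structure Cor (c : F) (X : ι → ι → F → Q) (H : ι → ι → Q) : Prop extends
    Fam (fun i j => X i j 1) H where
  gen : Gen c
  ex : ∀ {i j}, i ≠ j → ∃ k, k ≠ i ∧ k ≠ j ∧ Act (X i j) (H i k) c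

namespace Cor

variable {X : ι → ι → F → Q} {H : ι → ι → Q} (C : Cor c X H) {i j k l : ι}
include C

theorem inv (h : i ≠ j) : H j i = (H i j)⁻¹ := by
  obtain ⟨k, h1, h2, -⟩ := C.ex h
  rw [eq_inv_iff_mul_eq_one, ← mul_right_inj (H k j), ← mul_assoc, (C.f3 h2 h.symm h1).mul,
    (C.f3 h1 h h2).mul, mul_one]

theorem eq_mul (h1 : i ≠ j) (h2 : j ≠ k) (h3 : i ≠ k) : H j k = (H i j)⁻¹ * H i k := by
  rw [← (C.f3 h1 h2 h3).mul, inv_mul_cancel_left]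

theorem a1 (h1 : i ≠ j) (h2 : j ≠ k) (h3 : i ≠ k) : Act (X i j) (H i k) c := by
  obtain ⟨l, h4, h5, A⟩ := C.ex h1
  rcases eq_or_ne l k with rfl | h
  · exact A
  refine (A.mul (A.of_conj C.gen (g := H l k) (d := 1) ?_ ?_)).cast (C.f3 h4.symm h h3).mul (mul_one c)
  · rw [C.eq_mul h4.symm h h3]
    exact (Commute.refl _).inv_left.mul_left (C.f3 h3 h.symm h4.symm).comm
  · exact (C.f4 h1 h h4.symm h3 h5.symm h2).uh.mul_inv_cancel

theorem a2 (h1 : i ≠ j) (h2 : j ≠ k) (h3 : i ≠ k) : Act (X i j) (H k j) c := by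
  refine (C.a1 h1 h2 h3).of_conj C.gen ?_ ?_
  · rw [C.eq_mul h3 h2.symm h1]
    exact (Commute.refl _).inv_left.mul_left (C.f3 h1 h2 h3).comm
  · rw [(C.f3 h1 h2 h3).uh, (C.a1 h1 h2 h3).conj, mul_one]

theorem a3 (h : i ≠ j) : Act (X i j) (H i j) (c ^ 2) := by
  obtain ⟨k, h1, h2, A⟩ := C.ex h
  exact (A.mul (C.a2 h h2.symm h1.symm)).cast (C.f3 h1.symm h2 h).mul (sq c).symm

theorem a1' (h1 : i ≠ j) (h2 : j ≠ k) (h3 : i ≠ k) : Act (X i j) (H k i) c⁻¹ :=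
  C.inv h3 ▸ (C.a1 h1 h2 h3).inv C.gen.1

theorem a2' (h1 : i ≠ j) (h2 : j ≠ k) (h3 : i ≠ k) : Act (X i j) (H j k) c⁻¹ :=
  C.inv h2.symm ▸ (C.a2 h1 h2 h3).inv C.gen.1

theorem a4 (h : i ≠ j) (h' : k ≠ l) (h1 : i ≠ k) (h2 : i ≠ l) (h3 : j ≠ k) (h4 : j ≠ l) :
    Act (X i j) (H k l) 1 :=
  (((C.a1 h h3 h1).inv C.gen.1).mul (C.a1 h h4 h2)).cast (C.eq_mul h1 h' h2).symm
    (inv_mul_cancel₀ C.gen.1)

theorem act (h : i ≠ j) (h' : k ≠ l) : ∃ d, Act (X i j) (H k l) d := by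
  have h1 : ∀ k, i ≠ k → ∃ d, d ≠ 0 ∧ Act (X i j) (H i k) d := fun k hk => by
    rcases eq_or_ne j k with rfl | h2
    exacts [⟨_, pow_ne_zero _ C.gen.1, C.a3 h⟩, ⟨_, C.gen.1, C.a1 h h2 hk⟩]
  rcases eq_or_ne i k with rfl | h2
  · exact (h1 l h').imp fun _ h => h.2
  obtain ⟨d, hd, A⟩ := h1 k h2
  rcases eq_or_ne i l with rfl | h3
  · exact ⟨_, C.inv h2 ▸ A.inv hd⟩
  obtain ⟨e, -, B⟩ := h1 l h3
  exact ⟨_, C.eq_mul h2 h' h3 ▸ (A.inv hd).mul B⟩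

theorem p5 (h1 : i ≠ j) (h2 : j ≠ k) (h3 : i ≠ k) : ⁅X i j 1, X j k c⁆ = X i k c := by
  rcases C.c5 h1 h2 h3 with h | ⟨l, h4, h5, h6⟩
  · simpa only [C5, (C.a2 h2 h3.symm h1.symm).conj, (C.a1 h3 h2.symm h1).conj, mul_one] using h
  · simpa using (C.a4 h1 h6 h4.symm h3 h5.symm h2).comp (C.a2 h2 h6.symm h5.symm)
      (C.a2 h3 h6.symm h4.symm) (C.f3 h1 h2 h3).c4

variable [Finite F]

theorem dih (h0 : (2 : F) = 0) (h1 : i ≠ j) (h2 : j ≠ k) (h3 : i ≠ k) :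
    Commute (X i j 1) (X i k c) ∧ Commute (X j k c) (X i k c) := by
  have : ∀ {i j} t, i ≠ j → X i j t * X i j t = 1 := fun t h => by
    rw [← sq, Act.pow_char (C.a3 h).add (p := 2) (by simpa using h0)]
  exact dihedral_comm (this _ h1) (this _ h2) (this _ h3) (C.p5 h1 h2 h3)

theorem r1 (h1 : i ≠ j) (h2 : j ≠ k) (h3 : i ≠ k) (a b : F) : Commute (X i j a) (X i k b) :=
  have := C.gen.1
  comm3 C.gen (C.a2 h1 h2 h3) (C.a2' h3 h2.symm h1) (inv_ne_zero this)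
    (((C.a1 h1 h2 h3).mul (C.a2' h1 h2 h3)).cast rfl (mul_inv_cancel₀ this))
    (((C.a3 h3).mul (C.a2 h3 h2.symm h1)).cast rfl (by ring)) (C.f3 h1 h2 h3).c1
    (fun h0 => .inl (C.dih h0 h1 h2 h3).1) a b

theorem r2 (h1 : i ≠ j) (h2 : j ≠ k) (h3 : i ≠ k) (a b : F) : Commute (X i j a) (X k j b) :=
  have := C.gen.1
  comm3 C.gen (C.a1 h1 h2 h3) (C.a1' h2.symm h1.symm h3.symm) (inv_ne_zero this)
    (((C.a2 h1 h2 h3).mul (C.a1' h1 h2 h3)).cast rfl (mul_inv_cancel₀ this))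
    (((C.a3 h2.symm).mul (C.a1 h2.symm h1.symm h3.symm)).cast rfl (by ring)) (C.f3 h1 h2 h3).c2
    (fun h0 => .inr (by
      simpa [sq, this] using (C.a1' h1 h2 h3).comm (C.a1 h2.symm h1.symm h3.symm)
        (C.dih h0 h3.symm h1 h2.symm).2)) a b

theorem r3 (h : i ≠ j) (h' : k ≠ l) (h1 : i ≠ k) (h2 : i ≠ l) (h3 : j ≠ k) (h4 : j ≠ l) (a b : F) :
    Commute (X i j a) (X k l b) :=
  comm2 C.gen (C.a1 h h3 h1) (C.a1' h' h2.symm h1.symm) (inv_ne_zero C.gen.1) (C.a4 h h' h1 h2 h3 h4)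
    (C.a3 h') (C.f4 h h' h1 h2 h3 h4).c3 a b

theorem r4 (h1 : i ≠ j) (h2 : j ≠ k) (h3 : i ≠ k) (a b : F) : ⁅X i j a, X j k b⁆ = X i k (a * b) :=
  have := C.gen.1
  comp3 C.gen (C.a1 h1 h2 h3) (C.a2 h2 h3.symm h1.symm) ((C.a3 h3).cast rfl (sq c)) this
    (((C.a2' h1 h2 h3).mul (C.a1 h1 h2 h3)).cast rfl (inv_mul_cancel₀ this))
    (((C.a3 h2).mul (C.a2 h2 h3.symm h1.symm)).cast rfl (by ring))
    (((C.a2 h3 h2.symm h1).mul (C.a3 h3)).cast rfl (by ring)) (C.r2 h2 h3.symm h1.symm)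
    (C.f3 h1 h2 h3).c4 (C.p5 h1 h2 h3) a b

theorem rel (h : i ≠ j) (h' : k ≠ l) (h1 : i ≠ l) (h2 : j ≠ k) (a b : F) :
    Commute (X i j a) (X k l b) := by
  rcases eq_or_ne i k with rfl | h3 <;> rcases eq_or_ne j l with rfl | h4
  · rw [Commute, SemiconjBy, ← (C.a3 h).add, ← (C.a3 h).add, add_comm]
  exacts [C.r1 h h4 h1 a b, C.r2 h h2 h3 a b, C.r3 h h' h3 h1 h2 h4 a b]

end Cor

theorem Cor.exists_hom [Finite F] {n : ℕ} (hn : 2 ≤ n) {X : Fin (n + 1) → Fin (n + 1) → F → Q}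
    {H : Fin (n + 1) → Fin (n + 1) → Q} (C : Cor c X H) : ∃ φ : SpecialLinearGroup (Fin (n + 1)) F →* Q,
      ∀ i j (h : i ≠ j) t, φ (SpecialLinearGroup.transvection h t) = X i j t := by
  obtain ⟨φ, hφ⟩ := exists_hom_of_relA hn (fun r => X r.1.1 r.1.2) (fun r => (C.a3 r.2).add)
    (fun a b t u h h' => commutatorElement_eq_one_iff_commute.2 (C.rel a.2 b.2 h h' t u))
    fun a b h t u e => e ▸ C.r4 a.2 (e ▸ b.2) h t u
  exact ⟨φ, fun i j h => hφ ⟨(i, j), h⟩⟩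

end Cfsg.Lib.Pres
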