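import Cfsg.Agent.Lib.Pres.SLa
import Mathlib.LinearAlgebra.Matrix.Permutation

/-!
Bounded presentations of `SL_n(q)` over a group of permutation matrices.
-/

set_option autoImplicit false

namespace Cfsg.Lib.Pres

open Cfsg.Lib.Linear Matrix Equiv Subgroup Monoid
open scoped commutatorElement

universe u

section tr

variable {ι : Type*} [DecidableEq ι] {A : Subgroup (Perm ι)} {Q Q' : Type*} [Group Q] [Group Q']

open Classical in
/-- An element of `A` mapping `(a, b)` to `(i, j)`. -/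
noncomputable def sg (A : Subgroup (Perm ι)) (a b i j : ι) : A :=
  if h : ∃ σ : A, σ.1 a = i ∧ σ.1 b = j then h.choose else 1

/-- Transport of `u` from `(a, b)` to `(i, j)`. -/
noncomputable def tr (ν : A →* Q) (u : Q) (a b i j : ι) : Q :=
  if i = j then 1 else MulAut.conj (ν (sg A a b i j)) u

theorem map_tr (φ : Q →* Q') (ν : A →* Q) (u : Q) (a b i j : ι) :
    φ (tr ν u a b i j) = tr (φ.comp ν) (φ u) a b i j := by
  unfold tr; split_ifs <;> simp

omit [DecidableEq ι] in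
theorem sg_spec {a b i j : ι} (h : ∃ σ : A, σ.1 a = i ∧ σ.1 b = j) :
    (sg A a b i j).1 a = i ∧ (sg A a b i j).1 b = j := by
  rw [sg, dif_pos h]; exact h.choose_spec

/-- The stabiliser of `a` and `b` centralises `u`. -/
def Stb (ν : A →* Q) (u : Q) (a b : ι) : Prop := ∀ σ : A, σ.1 a = a → σ.1 b = b → Commute (ν σ) u

variable {ν : A →* Q} {u : Q} {a b : ι}

theorem tr_eq (hu : Stb ν u a b) (hab : a ≠ b) (σ : A) :
    tr ν u a b (σ.1 a) (σ.1 b) = MulAut.conj (ν σ) u := by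
  obtain ⟨h1, h2⟩ := sg_spec (A := A) ⟨σ, rfl, rfl⟩ (a := a) (b := b)
  have := (hu (σ⁻¹ * sg A a b (σ.1 a) (σ.1 b)) (by simp [h1]) (by simp [h2])).mul_inv_cancel
  rw [tr, if_neg (σ.1.injective.ne hab)]
  nth_rewrite 2 [← this]
  simp [mul_assoc]

theorem tr_conj (hu : Stb ν u a b) (hab : a ≠ b) (h2 : ∀ i j, i ≠ j → ∃ σ : A, σ.1 a = i ∧ σ.1 b = j)
    (σ : A) (i j : ι) :
    tr ν u a b (σ.1 i) (σ.1 j) = (MulAut.conj (ν σ)).toMonoidHom (tr ν u a b i j) := by
  rcases eq_or_ne i j with rfl | h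
  · simp [tr]
  obtain ⟨τ, rfl, rfl⟩ := h2 i j h
  rw [tr_eq hu hab]
  simpa [mul_assoc] using tr_eq hu hab (σ * τ)

end tr

variable {F : Type u} [Field F] {c : F} {ι : Type} [Fintype ι] [DecidableEq ι]

/-- Transvections. -/
def tv (i j : ι) (t : F) : SpecialLinearGroup ι F :=
  if h : i = j then 1 else SpecialLinearGroup.transvection h t

theorem tv_eq {i j : ι} (h : i ≠ j) (t : F) : tv i j t = SpecialLinearGroup.transvection h t :=
  dif_neg h

theorem tv_val {i j : ι} (h : i ≠ j) (t : F) : (tv i j t).1 = 1 + single i j t := by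
  rw [tv_eq h]; rfl

/-- Diagonal entries of `dg`. -/
def dv (c : F) (i j k : ι) : F := (if k = i then c else 1) * if k = j then c⁻¹ else 1

/-- Diagonal matrices. -/
def dg (hc : c ≠ 0) (i j : ι) : SpecialLinearGroup ι F :=
  ⟨diagonal (dv c i j), by simp only [det_diagonal, dv, Finset.prod_mul_distrib]; simp [hc]⟩

theorem dg_val (hc : c ≠ 0) (i j : ι) : (dg hc i j).1 = diagonal (dv c i j) := rfl

theorem act_tv (hc : c ≠ 0) {i j : ι} (h : i ≠ j) (k l : ι) :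
    Act (tv i j) (dg hc k l) (dv c k l i / dv c k l j) := ⟨fun t s => by
  simp only [tv_eq h, SpecialLinearGroup.transvection_add], fun t => by
  have : dv c k l j ≠ 0 := by unfold dv; split_ifs <;> simp [hc]
  rw [mul_inv_eq_iff_eq_mul]
  ext a b
  simp only [Matrix.SpecialLinearGroup.coe_mul, tv_val h, dg_val, diagonal_mul, mul_diagonal, Matrix.add_apply,
    one_apply, single_apply]
  split_ifs with h1 h2 h2
  · exact absurd (h2.1.trans (h1.trans h2.2.symm)) h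
  · simp [h1]
  · rw [← h2.1, ← h2.2]; field_simp; simp
  · simp⟩

theorem tv_comm {i j k l : ι} (h : i ≠ j) (h' : k ≠ l) (h1 : i ≠ l) (h2 : j ≠ k) (t s : F) :
    Commute (tv i j t) (tv k l s) := Subtype.ext <| by
  simp [tv_val, h, h', mul_add, add_mul, single_mul_single_of_ne, h1.symm, h2, add_right_comm]

theorem tv_comp {i j k : ι} (h1 : i ≠ j) (h2 : j ≠ k) (h3 : i ≠ k) (t s : F) :
    ⁅tv i j t, tv j k s⁆ = tv i k (t * s) := by
  rw [tv_eq h1, tv_eq h2, tv_eq h3]; exact sl_commutator_transvection h3 h1 h2 t s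

theorem f3_SL (hc : c ≠ 0) {i j k : ι} (h1 : i ≠ j) (h2 : j ≠ k) (h3 : i ≠ k) :
    F3 (fun i j => tv i j (1 : F)) (dg hc) i j k where
  mul := Subtype.ext <| by
    simp only [Matrix.SpecialLinearGroup.coe_mul, dg_val, diagonal_mul_diagonal]
    congr 1; ext a; simp only [dv]; split_ifs <;> simp_all
  comm := Subtype.ext <| by simp [dg_val, mul_comm]
  uh := by simp [(act_tv hc h1 _ _).conj, dv, h1, h2, h3, h1.symm]
  c1 := tv_comm h1 h3 h3 h1.symm _ _
  c2 := tv_comm h1 h2.symm h1 h2 _ _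
  c4 := by rw [tv_comp h1 h2 h3, mul_one]

theorem f4_SL (hc : c ≠ 0) {i j k l : ι} (h : i ≠ j) (h' : k ≠ l) (h1 : i ≠ k) (h2 : i ≠ l)
    (h3 : j ≠ k) (h4 : j ≠ l) : F4 (fun i j => tv i j (1 : F)) (dg hc) i j k l where
  uh := show _ * _ = _ * _ by simpa [dv, h1, h2, h3, h4, mul_inv_eq_iff_eq_mul] using (act_tv hc h k l).conj 1
  c3 := tv_comm h h' h2 h3 _ _

theorem c5_SL (hc : c ≠ 0) {i j k : ι} (h1 : i ≠ j) (h2 : j ≠ k) (h3 : i ≠ k) :
    C5 (fun i j => tv i j (1 : F)) (dg hc) i j k := by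
  simp [C5, (act_tv hc h2 _ _).conj, (act_tv hc h3 _ _).conj, tv_comp h1 h2 h3, dv, h1, h2, h3, h1.symm,
    h2.symm, h3.symm]

/-- The condition for signed permutation matrices to have determinant one. -/
def Sgn (A : Subgroup (Perm ι)) : Prop := ∀ σ : A, Perm.sign σ.1 ^ (Fintype.card ι + 1) = 1

variable {A : Subgroup (Perm ι)}

variable (F) in
/-- Signed permutation matrices. -/
def pm (hA : Sgn A) : A →* SpecialLinearGroup ι F where
  toFun σ := ⟨((Perm.sign σ.1 : ℤ) : F) • permMatrixHom σ.1, by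
    have := congrArg (fun u : ℤˣ => ((u : ℤ) : F)) (hA σ)
    simpa [pow_succ] using this⟩
  map_one' := Subtype.ext (by simp)
  map_mul' σ τ := Subtype.ext (show _ • _ = (_ • _) * (_ • _) by simp [smul_smul, mul_comm])

theorem pm_conj (hA : Sgn A) (σ : A) {M N : SpecialLinearGroup ι F}
    (h : ∀ a b, N.1 (σ.1 a) (σ.1 b) = M.1 a b) : MulAut.conj (pm F hA σ) M = N := by
  rw [MulAut.conj_apply, mul_inv_eq_iff_eq_mul]
  apply Subtype.ext
  change (_ • _) * _ = _ * (_ • _)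
  rw [smul_mul_assoc, mul_smul_comm, permMatrixHom_apply, PEquiv.toMatrix_toPEquiv_mul,
    PEquiv.mul_toMatrix_toPEquiv]
  congr 1; ext a b
  simp [← h, Perm.inv_def]

theorem pm_tv (hA : Sgn A) (σ : A) (i j : ι) (t : F) :
    MulAut.conj (pm F hA σ) (tv i j t) = tv (σ.1 i) (σ.1 j) t := by
  rcases eq_or_ne i j with rfl | h
  · simp [tv]
  exact pm_conj hA σ fun a b => by simp [tv_val, h, one_apply, single_apply]

theorem pm_dg (hA : Sgn A) (hc : c ≠ 0) (σ : A) (i j : ι) :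
    MulAut.conj (pm F hA σ) (dg hc i j) = dg hc (σ.1 i) (σ.1 j) :=
  pm_conj hA σ fun a b => by simp [dg_val, dv, diagonal_apply]

theorem tr_tv (hA : Sgn A) {a b : ι} (h2 : ∀ i j, i ≠ j → ∃ σ : A, σ.1 a = i ∧ σ.1 b = j) (t : F) :
    tr (pm F hA) (tv a b t) a b = fun i j => tv i j t := by
  ext1 i; ext1 j
  rcases eq_or_ne i j with rfl | h
  · simp [tr, tv]
  rw [tr, if_neg h, pm_tv, (sg_spec (h2 i j h)).1, (sg_spec (h2 i j h)).2]

theorem tr_dg (hA : Sgn A) (hc : c ≠ 0) {a b : ι} (h2 : ∀ i j, i ≠ j → ∃ σ : A, σ.1 a = i ∧ σ.1 b = j) :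
    tr (pm F hA) (dg hc a b) a b = dg hc := by
  ext1 i; ext1 j
  rcases eq_or_ne i j with rfl | h
  · refine Subtype.ext (by simp [tr, dg_val, show dv c i i = fun _ => 1 by ext; unfold dv; split_ifs <;> simp [hc]])
  rw [tr, if_neg h, pm_dg, (sg_spec (h2 i j h)).1, (sg_spec (h2 i j h)).2]

theorem closure_tv : closure (Set.range fun r : (ι × ι) × F => tv r.1.1 r.1.2 r.2) = ⊤ :=
  sl_eq_top_of_transvection_mem _ fun i j h t => subset_closure ⟨((i, j), t), tv_eq h t⟩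

theorem ev_mem {M Q κ : Type*} [Group M] [Group Q] (ν : M →* Q) (x : κ → Q)
    (s : Coprod M (FreeGroup κ)) : ev ν x s ∈ closure (Set.range ν ∪ Set.range x) := by
  have := mem_map_of_mem (ev ν x) (closure_coprod (M := M) (κ := κ) ▸ mem_top s)
  rw [MonoidHom.map_closure] at this
  refine closure_mono ?_ this
  rintro _ ⟨_, ⟨m, rfl⟩ | ⟨k, rfl⟩, rfl⟩ <;> simp

theorem normal_of_range {G Q : Type*} [Group G] [Group Q] (π : Q →* G) (φ : G →* Q) {T : Set Q}
    {T' : Set G} (hT : closure T = ⊤) (hT' : closure T' = ⊤) (hπ : ∀ g ∈ T', π (φ g) = g)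
    (h : ∀ y ∈ T, ∀ g ∈ T', y * φ g * y⁻¹ ∈ φ.range) :
    ((φ.comp π).eqLocus (MonoidHom.id Q)).Normal := by
  have h1 : ∀ g, π (φ g) = g :=
    DFunLike.congr_fun (MonoidHom.eq_of_eqOn_dense hT' (f := π.comp φ) (g := .id G) hπ)
  refine normal_eqLocus π φ hT hT' fun y hy g hg => ?_
  obtain ⟨g', e⟩ := h y hy g hg
  rw [← e, ← h1 g', e]; simp [h1]

omit [Fintype ι] in
theorem ev_tr {Q : Type*} [Group Q] (ν : A →* Q) (x : Bool → Q) (s : Coprod A (FreeGroup Bool))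
    (a b i j : ι) : ev ν x (tr Coprod.inl s a b i j) = tr ν (ev ν x s) a b i j := by
  rw [map_tr]; congr 1

/-- The relations between the transported elements. -/
structure Full {Q : Type*} [Group Q] (ν : A →* Q) (x : Bool → Q) (a b k : ι) : Prop where
  su : Stb ν (x true) a b
  sh : Stb ν (x false) a k
  fam : Fam (tr ν (x true) a b) (tr ν (x false) a k)

theorem prs_SL_of [Finite F] {n : ℕ} (hn : 2 ≤ n) {A : Subgroup (Perm (Fin (n + 1)))} (hA : Sgn A)
    {g r : ℕ} (hP : Prs A g r) {a b k : Fin (n + 1)} (hab : a ≠ b) (hbk : b ≠ k) (hak : a ≠ k)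
    (h2 : ∀ a b, a ≠ b → ∀ i j, i ≠ j → ∃ σ : A, σ.1 a = i ∧ σ.1 b = j) (σ₀ : A)
    (hσ : normalClosure {σ₀} = ⊤) (S : List (Coprod A (FreeGroup Bool)))
    (H : ∀ (Q : Type u) [Group Q] (ν : A →* Q) (x : Bool → Q), (Full ν x a b k →
      (∀ {i j l}, i ≠ j → j ≠ l → i ≠ l → C5 (tr ν (x true) a b) (tr ν (x false) a k) i j l) →
      ∀ s ∈ S, ev ν x s = 1) ∧ ((∀ s ∈ S, ev ν x s = 1) → Full ν x a b k)) :
    Prs (SpecialLinearGroup (Fin (n + 1)) F) (g + 2) (r + (S.length + 5)) := by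
  obtain ⟨c, hc⟩ := exists_gen F
  obtain ⟨p, _⟩ := CharP.exists F
  have := Fact.mk (CharP.char_is_prime F p)
  obtain ⟨L, w, W, h1, hs, hx⟩ := (hc.upres.{u} p).1
  let y : Bool → SpecialLinearGroup (Fin (n + 1)) F := fun e => cond e (tv a b 1) (dg hc.1 a k)
  let e := e2 (lt A true) (lt A false)
  let X := fun r : (Fin (n + 1) × Fin (n + 1)) × F => tr Coprod.inl (e (W r.2)) a b r.1.1 r.1.2
  have hT : ∀ {i j l : Fin (n + 1)}, i ≠ j → j ≠ l → i ≠ l → Act (tv i j) (dg hc.1 i l) c :=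
    fun h1 h2 h3 => (act_tv hc.1 h1 _ _).cast rfl (by simp [dv, h1.symm, h2, h3])
  have h3 := hs _ _ _ (hT hab hbk hak)
  have h4 : ∀ r, tv r.1.1 r.1.2 r.2 = ev (pm F hA) y (X r) := fun r => by
    simp [X, e, y, ev_tr, map_e2, h3.2.2, tr_tv hA (h2 a b hab)]
  refine (hP.ext (pm F hA) y ?_ (word closure_tv X (pm F hA σ₀) * (Coprod.inl σ₀)⁻¹ :: e w ::
    (L.map e ++ S)) ?_ fun Q _ ν x π hQ hν hπ hS => ?_).mono (by simp; omega)
  · rw [eq_top_iff, ← closure_tv, closure_le]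
    rintro _ ⟨r, rfl⟩
    simp only [h4]; exact ev_mem _ _ _
  · simp only [List.forall_mem_cons, List.forall_mem_append, List.forall_mem_map, map_mul, map_inv,
      map_word closure_tv _ (MonoidHom.id _) h4, e, map_e2, ev_lt, ev_inl]
    refine ⟨by simp, h3.2.1, h3.1, (H _ _ _).1 ⟨fun σ h h' => ?_, fun σ h h' => ?_, ?_⟩ ?_⟩
    · exact mul_inv_eq_iff_eq_mul.1 (by simpa [h, h', y] using pm_tv hA σ a b (1 : F))
    · exact mul_inv_eq_iff_eq_mul.1 (by simpa [h, h', y] using pm_dg hA hc.1 σ a k)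
    all_goals simp only [y, cond, tr_tv hA (h2 a b hab), tr_dg hA hc.1 (h2 a k hak)]
    exacts [⟨f3_SL hc.1, f4_SL hc.1, fun h h' h'' => .inl (c5_SL hc.1 h h' h'')⟩, c5_SL hc.1]
  simp only [List.forall_mem_cons, List.forall_mem_append, List.forall_mem_map, map_mul, map_inv,
    e, map_e2, ev_lt, ev_inl, mul_inv_eq_one] at hS
  obtain ⟨z, Z, hz⟩ := hx Q _ _ hS.2.2.1 (hS.2.1 ▸ Commute.one_right _)
  have Φ := (H Q ν x).2 hS.2.2.2
  have C : Cor c (fun i j t => tr ν (z t) a b i j) (tr ν (x false) a k) :=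
    ⟨hz ▸ Φ.fam, hc, fun {i j} h => by
      obtain ⟨h5, h6⟩ := sg_spec (h2 a b hab i j h)
      refine ⟨(sg A a b i j).1 k, fun e => hak (Equiv.injective _ (h5.trans e.symm)),
        fun e => hbk (Equiv.injective _ (h6.trans e.symm)), ?_⟩
      nth_rewrite 2 [← h5]
      simp only [tr_eq Φ.sh hak]
      simp only [tr, if_neg h]
      exact Z.map (MulAut.conj (ν (sg A a b i j))).toMonoidHom⟩
  obtain ⟨φ, hφ⟩ := C.exists_hom hn
  replace hφ : ∀ i j t, φ (tv i j t) = tr ν (z t) a b i j := fun i j t => by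
    rcases eq_or_ne i j with rfl | h
    exacts [by simp [tv, tr], by rw [tv_eq h, hφ]]
  have hu : φ (tv a b 1) = x true := by simpa [hφ, hz] using tr_eq Φ.su hab 1
  have hh : tr ν (x false) a k a k = x false := by simpa using tr_eq Φ.sh hak 1
  have hπν : π.comp ν = pm F hA := MonoidHom.ext hν
  have hN := normal_of_range π φ hQ closure_tv (by
    rintro _ ⟨⟨⟨i, j⟩, t⟩, rfl⟩
    simp only [hφ, map_tr, hπν]
    rw [(Z.map π).unique hc ((hT hab hbk hak).cast (hπ false).symm rfl) (by rw [hz, hπ]; rfl),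
      tr_tv hA (h2 a b hab)]) (by
    rintro _ h _ ⟨⟨⟨i, j⟩, t⟩, rfl⟩
    rcases eq_or_ne i j with rfl | hij
    · simp [tv]
    rcases h with ⟨σ, rfl⟩ | ⟨_ | _, rfl⟩
    · obtain ⟨l, h5, h6, h7⟩ := C.ex hij
      refine ⟨tv (σ.1 i) (σ.1 j) t, ?_⟩
      rw [hφ, hφ]
      exact (C.a1 (σ.1.injective.ne hij) (σ.1.injective.ne h6.symm) (σ.1.injective.ne h5.symm)).unique
        hc (tr_conj Φ.sh hak (h2 a k hak) σ i l ▸ h7.map _) (hz ▸ tr_conj Φ.su hab (h2 a b hab) σ i j) t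
    · obtain ⟨d, h⟩ := C.act hij hak
      exact ⟨tv i j (d * t), by rw [hφ, hφ, ← hh, h.conj]⟩
    · exact ⟨tv a b 1 * tv i j t * (tv a b 1)⁻¹, by simp only [map_mul, map_inv, hu]⟩)
  have h5 : ∀ σ, ν σ ∈ (φ.comp π).eqLocus (MonoidHom.id Q) := fun σ =>
    normalClosure_le_normal (N := comap ν ((φ.comp π).eqLocus (MonoidHom.id Q))) (s := {σ₀}) (by
      rintro _ rfl
      change φ (π (ν _)) = ν _
      rw [hν, ← hS.1, map_word closure_tv _ φ fun r => by
        simp [X, e, ev_tr, map_e2, hφ, ← hz, (hs Q _ _ Z).2.2]]) (hσ ▸ mem_top σ)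
  refine ⟨φ, fun σ => hν σ ▸ h5 σ, ?_⟩
  rintro (_ | _)
  · have h6 := congrArg (QuotientGroup.mk' ((φ.comp π).eqLocus (MonoidHom.id Q)))
      (Φ.fam.f3 hab hbk hak).mul
    have h7 : (QuotientGroup.mk' _).comp ν = 1 := MonoidHom.ext fun σ =>
      (QuotientGroup.eq_one_iff _).2 (h5 σ)
    simp only [map_mul, map_tr, h7] at h6
    exact hπ false ▸ show x false ∈ (φ.comp π).eqLocus (.id Q) by simpa [tr, hab, hbk, hak] using h6
  · exact hu

end Cfsg.Lib.Pres
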