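import Cfsg.Agent.Lib.Pres.TwoBCD
import Cfsg.Agent.Lib.Linear.SUGen3
import Cfsg.Agent.Lib.Forms.Levi
import Cfsg.Agent.Lib.Forms.Ext
import Cfsg.Agent.Lib.Known.FExt

/-!
The special unitary groups and the orthogonal groups of minus type are generated by two elements.
-/

set_option autoImplicit false

namespace Cfsg.Lib.Pres

open Cfsg.Lib.Linear.EG Cfsg.Lib.Forms Cfsg.Lib.Forms.Form Subgroup Module

universe u

variable {F : Type*} [Field F] {σ : F →+* F} {K : Kind σ} {V : Type*} [AddCommGroup V] [Module F V] {D : Form K V}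
  {H : Subgroup D.isom}

/-- `y` is an Eichler element with centre `e` and vector `z`. -/
def Ez (e : V) (y : D.isom) (z : V) : Prop := ∃ d h, D.eich e z d h = y

theorem Ez.mul {e z z' : V} {y y' : D.isom} (h : Ez e y z) (h' : Ez e y' z') : Ez e (y * y') (z + z') := by
  obtain ⟨d, h, rfl⟩ := h
  obtain ⟨d', h', rfl⟩ := h'
  exact ⟨_, _, (D.eich_mul h h').symm⟩

theorem Ez.inv {e z : V} {y : D.isom} (h : Ez e y z) : Ez e y⁻¹ (-z) := by
  obtain ⟨d, h, rfl⟩ := h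
  exact ⟨_, _, (D.eich_inv h).symm⟩

theorem Ez.conj {e z : V} {y g : D.isom} (h : Ez e y z) {t : F} (hg : g.1 e = t • e) :
    Ez e (g * y * g⁻¹) (σ t • g.1 z) := by
  obtain ⟨d, h, rfl⟩ := h
  have h1 : D.IsEich (t • e) (g.1 z) d := hg ▸ h.isom g
  by_cases ht : t = 0
  · obtain rfl : e = 0 := g.1.injective (by simp [hg, ht])
    exact ⟨0, ⟨by simp, by simp, by simp [ht]⟩, by simp [eich_zero_left]⟩
  have h2 : D.IsEich e (g.1 z) d := by simpa [smul_smul, ht] using h1.smul_left t⁻¹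
  exact ⟨t * σ t * d, by simpa [K.σσ, mul_comm] using h2.smul (σ t), by
    rw [D.conj_eich, ← D.eich_smul_left t _ h1]; exact D.eich_congr _ _ hg.symm rfl rfl⟩

theorem stageW {L : Type*} [Field L] [Finite L] (μ : L →+ V) {e : V} (he : D.Q e = 0) {c a b : L} (hc : Gen c)
    (ha : a = c ∨ a = c ^ 2) (ha1 : a ≠ 1) (hb : b ≠ 1) {h n x : D.isom} {t t' : F} (ht : t ≠ 0) (h1 : h.1 e = t • e)
    (h2 : ∀ s, σ t • h.1 (μ s) = μ (a * s)) (g1 : (n * h * n⁻¹).1 e = t' • e)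
    (g2 : ∀ s, σ t' • (n * h * n⁻¹).1 (μ s) = μ (b * s)) (hg : Commute h (n * h * n⁻¹)) (hx : Ez e x (μ 1))
    (h3 : h ∈ H) (h4 : x * n ∈ H) (s : L) : μ s ∈ A H e he := by
  have h5 := mul_mem (conj_mem' h3 (conj_mem' h4 h3)) (inv_mem (conj_mem' h4 h3))
  generalize hk : n * h * n⁻¹ = g at *
  rw [show ∀ y : D.isom, x * n * y * (x * n)⁻¹ = x * (n * y * n⁻¹) * x⁻¹ from fun y => by group, hk,
    show h * (x * g * x⁻¹) * h⁻¹ * (x * g * x⁻¹)⁻¹ = h * x * h⁻¹ * (h * g * h⁻¹ * ((h * x * h⁻¹)⁻¹ * x) * g⁻¹) * x⁻¹ by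
      group, hg.mul_inv_cancel] at h5
  obtain ⟨d, h6, h7⟩ := ((hx.conj h1).mul (((hx.conj h1).inv.mul hx).conj g1)).mul hx.inv
  have h8 : μ ((a - 1) * (1 - b)) ∈ A H e he := by
    refine ⟨d, In.congr ⟨h6, h7 ▸ h5⟩ rfl ?_ rfl⟩
    rw [h2, ← map_neg, ← map_add, g2, ← map_neg, ← map_add, ← map_add]; congr 1; ring
  have h9 : ∀ s, μ s ∈ A H e he → μ (a * s) ∈ A H e he := fun s e => h2 s ▸ A_map_smul e h3 ht h1
  have h0 := mul_ne_zero (sub_ne_zero.2 ha1) (sub_ne_zero.2 hb.symm)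
  generalize (a - 1) * (1 - b) = r at h8 h0
  have := span2 hc (K := ⟨⟨{t | μ (t * r) ∈ A H e he}, fun {u v} hu hv => by
    rw [Set.mem_ofPred_eq, add_mul, map_add]; exact add_mem hu hv⟩, by simp⟩) (by simpa using h8)
    (fun t ht => by
      rcases ha with rfl | rfl
      · simpa [sq, mul_assoc] using h9 _ (h9 _ ht)
      · simpa [mul_assoc] using h9 _ ht) (s * r⁻¹)
  rw [← inv_mul_cancel_right₀ h0 s]
  exact this

variable (D) in
/-- A cyclically indexed hyperbolic frame. -/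
structure Cyc (m : ℕ) (v : ZMod (2 * (m + 1)) → V) : Prop where
  Q : ∀ i, D.Q (v i) = 0
  B : ∀ i j, D.B (v i) (v j) = if j = i + (m + 1 : ℕ) then 1 else 0

theorem zm_add (m : ℕ) (i : ZMod (2 * (m + 1))) : i + (m + 1 : ℕ) + (m + 1 : ℕ) = i := by
  rw [add_assoc, ← Nat.cast_add, ← two_mul, ZMod.natCast_self, add_zero]

theorem zm_ne {m a b : ℕ} (ha : a < 2 * (m + 1)) (hb : b < 2 * (m + 1)) (h : a ≠ b) :
    (a : ZMod (2 * (m + 1))) ≠ b := fun e => h (by
  simpa [ZMod.val_natCast, Nat.mod_eq_of_lt ha, Nat.mod_eq_of_lt hb] using congrArg ZMod.val e)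

theorem exists_cyc [FiniteDimensional F V] (hD : D.Nondeg) (hε : K.ε = 1) {m : ℕ} (h : D.HasTS (m + 1)) :
    ∃ v, Cyc D m v := by
  obtain ⟨U, h1, h2⟩ := h
  let b := finBasisOfFinrankEq F U h1
  obtain ⟨f, f1, f2, f3⟩ := hD.exists_dual_family (b.linearIndependent.map' U.subtype (by simp))
    (fun i => h2.Q_eq _ (b i).2) fun i j => h2.B_eq _ (b i).2 _ (b j).2
  have hv := fun i : ZMod (2 * (m + 1)) => ZMod.val_lt i
  refine ⟨fun i => if h : i.val < m + 1 then b ⟨_, h⟩ else f ⟨i.val - (m + 1), by have := hv i; omega⟩, fun i => ?_,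
    fun i j => ?_⟩
  · split_ifs
    exacts [h2.Q_eq _ (b _).2, f1 _]
  have h3 : j = i + (m + 1 : ℕ) ↔ j.val = i.val + (m + 1) ∨ i.val = j.val + (m + 1) := by
    have := hv i
    have := hv j
    rw [← (ZMod.val_injective _).eq_iff, ZMod.val_add, ZMod.val_natCast, Nat.mod_eq_of_lt (a := m + 1) (by omega)]
    rcases lt_or_ge i.val (m + 1) with e | e
    · rw [Nat.mod_eq_of_lt (by omega)]; omega
    · rw [Nat.mod_eq_sub_mod (by omega), Nat.mod_eq_of_lt (by omega)]; omega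
  have := hv i
  have := hv j
  simp only [h3]
  split_ifs <;> first | omega | exact h2.B_eq _ (b _).2 _ (b _).2 | exact f2 _ _ | skip
  · exact (f3 _ _).trans (if_pos (Fin.ext (by simp; omega)))
  · exact (f3 _ _).trans (if_neg fun e => by simp [Fin.ext_iff] at e; omega)
  · exact (D.symm _ _).trans (by rw [show D.B (b _ : V) _ = _ from (f3 _ _).trans (if_pos (Fin.ext (by simp; omega)))]; simp [hε])
  · exact D.eq_zero_symm ((f3 _ _).trans (if_neg fun e => by simp [Fin.ext_iff] at e; omega))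

variable {m : ℕ} {v : ZMod (2 * (m + 1)) → V}

variable (D v) in
/-- The orthogonal complement of the frame. -/
def Wv : Submodule F V := D.perp (Submodule.span F (Set.range v))

theorem mem_Wv {w : V} : w ∈ Wv D v ↔ ∀ i, D.B (v i) w = 0 := by simp [Wv, mem_perp_span]

variable (v) in
/-- Isometries which shift the lines of the frame. -/
def Sh (k : ZMod (2 * (m + 1))) (g : D.isom) : Prop := ∀ i, ∃ c : F, c ≠ 0 ∧ g.1 (v i) = c • v (i + k)

theorem Sh.mul {k l} {g g' : D.isom} (h : Sh v k g) (h' : Sh v l g') : Sh v (l + k) (g * g') := fun i => by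
  obtain ⟨c, a, b⟩ := h' i
  obtain ⟨c', a', b'⟩ := h (i + l)
  exact ⟨c * c', mul_ne_zero a a', by rw [isom_mul_apply, b, map_smul, b', smul_smul, add_assoc]⟩

theorem Sh.inv {k} {g : D.isom} (h : Sh v k g) : Sh v (-k) g⁻¹ := fun i => by
  obtain ⟨c, a, b⟩ := h (i + -k)
  exact ⟨c⁻¹, inv_ne_zero a, isom_inv_apply_eq.2 (by simp [b, smul_smul, a])⟩

theorem Sh.pow {g : D.isom} (h : Sh v 1 g) (k : ℕ) : Sh v k (g ^ k) := by
  induction k with
  | zero => exact fun i => ⟨1, one_ne_zero, by simp [isom_one_apply]⟩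
  | succ k ih => rw [pow_succ', Nat.cast_succ]; exact h.mul ih

theorem Sh.mem {k} {g : D.isom} (h : Sh v k g) {w : V} (hw : w ∈ Wv D v) : g.1 w ∈ Wv D v := mem_Wv.2 fun i => by
  obtain ⟨c, -, b⟩ := h.inv i
  rw [B_isom_right, b, B_smul_left, mem_Wv.1 hw, mul_zero]

theorem Sh.conj {k} {g h : D.isom} (hg : Sh v k g) {i} {t : F} (hh : h.1 (v i) = t • v i) :
    (g * h * g⁻¹).1 (v (i + k)) = t • v (i + k) := by
  obtain ⟨c, a, b⟩ := hg i
  have : (g⁻¹).1 (v (i + k)) = c⁻¹ • v i := isom_inv_apply_eq.2 (by simp [b, smul_smul, a])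
  rw [isom_mul_apply, isom_mul_apply, this]
  simp [hh, b, smul_smul, a, mul_right_comm _ t]

namespace Cyc

variable (C : Cyc D m v)
include C

theorem hyp (i) : D.IsHyp (v i) (v (i + (m + 1 : ℕ))) := ⟨C.Q _, C.Q _, by simp [C.B]⟩

theorem B0 {i j : ZMod (2 * (m + 1))} (h : j ≠ i + (m + 1 : ℕ)) : D.B (v i) (v j) = 0 := by rw [C.B, if_neg h]

theorem dec (x : V) : x - ∑ i, D.B (v (i + (m + 1 : ℕ))) x • v i ∈ Wv D v := mem_Wv.2 fun j => by
  simp [C.B, zm_add, -Nat.cast_add]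

theorem ext {g g' : D.isom} (h : ∀ i, g.1 (v i) = g'.1 (v i)) (h' : ∀ w ∈ Wv D v, g.1 w = g'.1 w) : g = g' :=
  isom_ext fun x => by simpa [h] using h' _ (C.dec x)

theorem comm {g g' : D.isom} (h : Sh v 0 g) (h' : Sh v 0 g') (e : ∀ w ∈ Wv D v, g.1 (g'.1 w) = g'.1 (g.1 w)) :
    Commute g g' := C.ext (fun i => by
  obtain ⟨c, -, a⟩ := h i
  obtain ⟨c', -, a'⟩ := h' i
  rw [add_zero] at a a'
  simp [isom_mul_apply, a, a', smul_smul, mul_comm]) e

theorem exists_shift [FiniteDimensional F V] (hD : D.Nondeg) :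
    ∃ g : D.isom, Sh v 1 g ∧ ∀ w ∈ Wv D v, g.1 w = w := by
  let f : V →ₗ[F] V := LinearMap.id + ∑ i, (D.B (v (i + (m + 1 : ℕ)))).smulRight (v (i + 1) - v i)
  have h1 : ∀ j, f (v j) = v (j + 1) := fun j => by simp [f, C.B, zm_add, -Nat.cast_add]
  have h2 : ∀ w ∈ Wv D v, f w = w := fun w hw => by simp [f, mem_Wv.1 hw]
  refine ⟨D.mkIsom hD f (isIsometry_of_span (s := Set.range v ∪ Wv D v) (top_unique fun x _ => ?_) ?_ ?_),
    fun i => ⟨1, one_ne_zero, by simp [h1]⟩, h2⟩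
  · rw [← sub_add_cancel x (∑ i, D.B (v (i + (m + 1 : ℕ))) x • v i)]
    exact add_mem (Submodule.subset_span (.inr (C.dec x)))
      (sum_mem fun i _ => Submodule.smul_mem _ _ (Submodule.subset_span (.inl ⟨i, rfl⟩)))
  · rintro x (⟨i, rfl⟩ | hx) y (⟨j, rfl⟩ | hy)
    · simp only [h1, C.B, add_right_comm i, add_left_inj]
    · rw [h1, h2 y hy, mem_Wv.1 hy, mem_Wv.1 hy]
    · rw [h1, h2 x hx, D.eq_zero_symm (mem_Wv.1 hx _), D.eq_zero_symm (mem_Wv.1 hx _)]
    · rw [h2 x hx, h2 y hy]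
  · rintro x (⟨i, rfl⟩ | hx)
    · rw [h1, C.Q, C.Q]
    · rw [h2 x hx]

theorem exists_tor [FiniteDimensional F V] (hD : D.Nondeg) (i) {c : F} (hc : c ≠ 0) : ∃ g : D.isom, Sh v 0 g ∧
    g.1 (v i) = c • v i ∧ g.1 (v (i + (m + 1 : ℕ))) = (σ c)⁻¹ • v (i + (m + 1 : ℕ)) ∧
    (∀ w ∈ D.hp (v i) (v (i + (m + 1 : ℕ))), g.1 w = w) ∧ (∀ j, j ≠ i → j ≠ i + (m + 1 : ℕ) → g.1 (v j) = v j) ∧
    ∀ w ∈ Wv D v, g.1 w = w := by
  obtain ⟨g, h1, h2, h3⟩ := (C.hyp i).exists_torus hD hc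
  have h4 : ∀ j, j ≠ i → j ≠ i + (m + 1 : ℕ) → g.1 (v j) = v j := fun j a b =>
    h3 _ (D.mem_hp.2 ⟨C.B0 b, C.B0 (by rwa [zm_add])⟩)
  refine ⟨g, fun j => ?_, h1, h2, h3, h4, fun w hw => h3 _ (D.mem_hp.2 ⟨mem_Wv.1 hw _, mem_Wv.1 hw _⟩)⟩
  rw [add_zero]
  by_cases a : j = i
  · exact ⟨c, hc, a ▸ h1⟩
  by_cases b : j = i + (m + 1 : ℕ)
  · exact ⟨_, inv_ne_zero (K.σ_eq_zero.ne.2 hc), b ▸ h2⟩
  · exact ⟨1, one_ne_zero, by rw [h4 j a b, one_smul]⟩

theorem fin (h : ∀ k : ZMod (2 * (m + 1)), k ≠ (m + 1 : ℕ) → ∀ t : F, t • v k ∈ A H (v 0) (C.Q 0)) (h' : ∀ w ∈ Wv D v, w ∈ A H (v 0) (C.Q 0))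
    (z : V) (hz : D.B (v 0) z = 0) : z ∈ A H (v 0) (C.Q 0) := by
  rw [← sub_add_cancel z (∑ i, D.B (v (i + (m + 1 : ℕ))) z • v i)]
  refine add_mem (h' _ (C.dec z)) (sum_mem fun i _ => ?_)
  by_cases e : i = (m + 1 : ℕ)
  · rw [show i + (m + 1 : ℕ) = 0 by simpa [e, -Nat.cast_add] using zm_add m 0, hz, zero_smul]; exact zero_mem _
  · exact h i e _

theorem opp {n : D.isom} (h : Sh v 1 n) : D.B (v 0) ((n ^ (m + 1)).1 (v 0)) ≠ 0 := by
  obtain ⟨c, a, b⟩ := h.pow (m + 1) 0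
  rwa [b, B_smul_right, (C.hyp 0).B_ef, mul_one]

theorem all_of_W {n : D.isom} (h : Sh v 1 n) (hn : n ∈ H) (h' : ∀ w ∈ Wv D v, w ∈ A H (v 0) (C.Q 0)) {w w' : V}
    (hw : w ∈ Wv D v) (hw' : w' ∈ Wv D v) (hB : D.B w' w ≠ 0) : ∀ z, D.B (v 0) z = 0 → z ∈ A H (v 0) (C.Q 0) := by
  refine C.fin (fun k hk t => ?_) h'
  obtain ⟨c, a, b⟩ := h.pow k.val 0
  rw [zero_add, ZMod.natCast_zmod_val] at b
  obtain ⟨d, e⟩ := h' _ ((h.pow k.val).inv.mem (Submodule.smul_mem _ (σ c)⁻¹ hw'))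
  obtain ⟨h1, h2⟩ := ((e.map (pow_mem hn k.val)).congr b (isom_apply_inv _ _) rfl).of_smul a
  have h3 := Submodule.smul_mem _ (t / D.B w' w) hw
  have h4 := sub_mem (A_map (h' _ h3) h2 (D.eich_apply_of_perp_perp h1 (D.eq_zero_symm (C.B0 (by simpa using hk)))
    (by simp [D.eq_zero_symm (mem_Wv.1 hw' 0)]))) (h' _ h3)
  rwa [D.eich_apply_of_perp h1 (mem_Wv.1 h3 _), add_sub_cancel_left, smul_smul,
    mul_inv_cancel₀ (K.σ_eq_zero.ne.2 a), one_smul, B_smul_right, div_mul_cancel₀ _ hB] at h4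

theorem finrank_Wv [FiniteDimensional F V] (hD : D.Nondeg) : 2 * (m + 1) + finrank F (Wv D v) = finrank F V := by
  have : LinearIndependent F v := Fintype.linearIndependent_iff.2 fun g e i => by
    simpa [C.B, zm_add, -Nat.cast_add] using congrArg (D.B (v (i + (m + 1 : ℕ)))) e
  rw [← hD.finrank_perp (Submodule.span F (Set.range v)), finrank_span_eq_card this, ZMod.card]; rfl

/-- All Eichler elements attached to the pair of frame vectors lie in `H`. -/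
def RelV (H : Subgroup D.isom) (v : ZMod (2 * (m + 1)) → V) (i j : ZMod (2 * (m + 1))) : Prop :=
  ∀ t : F, In H (v i) (t • v j) 0

omit C in
theorem RelV.shift {i j k} (h : RelV H v i j) {g : D.isom} (hg : Sh v k g) (hg' : g ∈ H) : RelV H v (i + k) (j + k) :=
  fun t => by
    obtain ⟨c, a, b⟩ := hg i
    obtain ⟨c', a', b'⟩ := hg j
    have := K.σ_eq_zero.ne.2 a
    exact ((((h (t / (σ c * c'))).map hg').congr b rfl rfl).of_smul a).congr rfl
      (by rw [map_smul, b', smul_smul, smul_smul]; congr 1; field_simp) (mul_zero _)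

theorem symm (hε : K.ε = 1) {i j} (h : RelV H v i j) : RelV H v j i := fun t => by
  rcases eq_or_ne t 0 with rfl | ht
  · simpa using In.zero (C.Q j)
  obtain ⟨h1, h2⟩ := h (-σ t)
  have h3 : D.IsEich ((-σ t) • v j) (-v i) 0 :=
    ⟨D.Q_smul_of_Q (C.Q _) _, by rw [B_neg_right, D.eq_zero_symm h1.B_ez, neg_zero], by simp [C.Q]⟩
  refine (In.of_smul (neg_ne_zero.2 (K.σ_eq_zero.ne.2 ht)) ⟨h3, ?_⟩).congr rfl (by simp [K.σσ]) (mul_zero _)
  convert h2 using 1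
  exact isom_ext fun x => by simp [eich_apply, hε]; abel

theorem sum (hε : K.ε = 1) {i j k} (h : RelV H v i j) (h' : RelV H v (j + (m + 1 : ℕ)) k) (h1 : j ≠ i)
    (h2 : k ≠ i + (m + 1 : ℕ)) (h3 : j ≠ k + (m + 1 : ℕ)) : RelV H v i k := fun t => by
  obtain ⟨h4, h5⟩ := h' (-t)
  have h6 := (((h 1).map h5).congr (D.eich_apply_of_perp_perp h4 (D.eq_zero_symm (C.B0 (by simpa)))
    (by rw [B_smul_left, D.eq_zero_symm (C.B0 h2), mul_zero])) rfl rfl).mul (h 1).inv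
  have h7 : D.B (v j) (v j) = 0 := (C.hyp j).B_ee
  have h8 : D.B (v (j + (m + 1 : ℕ))) (v j) = 1 := by rw [(C.hyp j).B_fe, hε]
  have h9 : D.B (v k) (v j) = 0 := C.B0 h3
  exact h6.congr rfl (by simp [eich_apply, h8, h9, hε, -Nat.cast_add]) (by simp [eich_apply, h7, h8, h9, hε, -Nat.cast_add])

theorem all_of_rel (hε : K.ε = 1) (hm : 1 ≤ m) {n : D.isom} (h : Sh v 1 n) (hn : n ∈ H) (h' : RelV H v 0 m)
    (k : ZMod (2 * (m + 1))) (hk : k ≠ (m + 1 : ℕ)) (t : F) : t • v k ∈ A H (v 0) (C.Q 0) := by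
  have h1 : ∀ i, RelV H v i (i + (m + 1 : ℕ) + -1) := fun i => by
    convert h'.shift (h.pow i.val) (pow_mem hn _) using 1 <;> simp [add_comm, add_assoc]
  have h2 : ∀ i, RelV H v i (i + (m + 1 : ℕ) + 1) := fun i => by
    convert C.symm hε (h1 (i + (m + 1 : ℕ) + 1)) using 1
    rw [add_right_comm _ 1, zm_add, add_neg_cancel_right]
  have key : ∀ ε : ZMod (2 * (m + 1)), ε * ε = 1 → ((m + 1 : ℕ) : ZMod (2 * (m + 1))) * ε = (m + 1 : ℕ) →
      (∀ i, RelV H v i (i + (m + 1 : ℕ) + ε)) → ∀ r : ℕ, r < m → RelV H v 0 ((m + 1 : ℕ) + (r + 1 : ℕ) * ε) :=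
    fun ε e1 e2 e3 r hr => by
      have e4 : ∀ a b : ℕ, a < 2 * (m + 1) → b < 2 * (m + 1) → a ≠ b → (a : ZMod (2 * (m + 1))) * ε ≠ b * ε :=
        fun a b ha hb e e' => zm_ne ha hb e (by simpa [mul_assoc, e1] using congrArg (· * ε) e')
      induction r with
      | zero => simpa using e3 0
      | succ r ih =>
        have e5 := zm_add m ((r + 1 : ℕ) * ε)
        refine C.sum hε (ih (by omega)) (by convert e3 _ using 1; push_cast at e5 ⊢; linear_combination -e5) (fun e => ?_)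
          (fun e => ?_) fun e => ?_
        · exact e4 (r + 1) (m + 1) (by omega) (by omega) (by omega) (by linear_combination e - e5 - e2)
        · exact e4 (r + 1 + 1) 0 (by omega) (by omega) (by omega) (by push_cast at e ⊢; linear_combination e)
        · exact e4 (m + 1) 1 (by omega) (by omega) (by omega) (by push_cast at e e5 e2 ⊢; linear_combination e + e5 + e2)
  have h3 := ZMod.val_lt k
  rw [← ZMod.natCast_zmod_val k] at hk ⊢
  generalize k.val = r at *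
  rcases lt_trichotomy r (m + 1) with e | rfl | e
  · rcases r with _ | r
    · exact Nat.cast_zero (R := ZMod (2 * (m + 1))) ▸ smul_mem_A t
    · obtain ⟨s, rfl⟩ : ∃ s, m = r + 1 + s := ⟨m - (r + 1), by omega⟩
      have := key (-1) (by simp) (by linear_combination -zm_add _ 0) h1 s (by omega) t
      exact ⟨0, by convert this using 3; push_cast; ring⟩
  · exact absurd rfl hk
  · obtain ⟨s, rfl⟩ : ∃ s, r = m + 1 + (s + 1) := ⟨r - (m + 2), by omega⟩
    have := key 1 (by simp) (by simp) h2 s (by omega) t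
    exact ⟨0, by convert this using 3; push_cast; ring⟩

end Cyc

theorem Gen.map {c : F} (hc : Gen c) (h : ∀ a, σ (σ a) = a) : Gen (σ c) :=
  ⟨by simpa using hc.1, fun t ht => let ⟨n, e⟩ := hc.2 (σ t) (by simpa using ht); ⟨n, by rw [← map_pow, e, h]⟩⟩

section

variable {q : ℕ} {h : IsConj σ q} {D : Form h.kind V} [FiniteDimensional F V] (hD : D.Nondeg) (C : Cyc D m v)

omit [FiniteDimensional F V] in
theorem Gen.ne_conj (h : IsConj σ q) {c : F} (hc : Gen c) : σ c ≠ c := fun e => by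
  obtain ⟨x, hx⟩ := h.exists_not_fixed
  obtain ⟨n, rfl⟩ := hc.2 x (by rintro rfl; simp at hx)
  exact hx (by rw [map_pow, e])

include hD C

theorem Cyc.exists_h (hm : 1 ≤ m) {c : F} (hc : c ≠ 0) : ∃ g ∈ D.det.ker, Sh v 0 g ∧ g.1 (v 0) = c • v 0 ∧
    g.1 (v (-1)) = c⁻¹ • v (-1) ∧ g.1 (v m) = σ c • v m ∧ (∀ w ∈ Wv D v, g.1 w = w) ∧
      ∀ j : ZMod (2 * (m + 1)), j ≠ 0 → j ≠ (m + 1 : ℕ) → j ≠ -1 → j ≠ m → g.1 (v j) = v j := by
  obtain ⟨g, a1, a2, a3, a4, a5, a6⟩ := C.exists_tor hD 0 hc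
  obtain ⟨g', b1, b2, b3, b4, b5, b6⟩ := C.exists_tor hD (-1) (inv_ne_zero hc)
  have e : (-1 : ZMod (2 * (m + 1))) + (m + 1 : ℕ) = m := by simp
  have e' : (-1 : ZMod (2 * (m + 1))) = (2 * m + 1 : ℕ) := by linear_combination (norm := (push_cast; ring)) -zm_add m 0
  have d := Units.ext_iff.1 (map_mul D.det g g')
  rw [Units.val_mul, (C.hyp _).det_torus a2 a3 a4, (C.hyp _).det_torus b2 b3 b4] at d
  have := h.kind.σ_eq_zero.ne.2 hc
  rw [e] at b3 b5
  rw [zero_add] at a5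
  have n1 : (0 : ZMod (2 * (m + 1))) ≠ -1 := e' ▸ Nat.cast_zero (R := ZMod (2 * (m + 1))) ▸ zm_ne (by omega) (by omega) (by omega)
  have n2 : (0 : ZMod (2 * (m + 1))) ≠ m := Nat.cast_zero (R := ZMod (2 * (m + 1))) ▸ zm_ne (by omega) (by omega) (by omega)
  refine ⟨g * g', Units.ext (d.trans (by simp only [map_inv₀, Units.val_one]; field_simp)), by simpa using a1.mul b1, ?_, ?_, ?_, fun w hw => ?_,
    fun j j1 j2 j3 j4 => ?_⟩ <;> rw [isom_mul_apply]
  · rw [b5 _ n1 n2, a2]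
  · rw [b2, map_smul, a5 _ n1.symm (e' ▸ zm_ne (by omega) (by omega) (by omega))]
  · rw [b3, map_smul, a5 _ n2.symm (zm_ne (by omega) (by omega) (by omega)), map_inv₀, inv_inv]
  · rw [b6 w hw, a6 w hw]
  · rw [b5 j j3 j4, a5 j j1 j2]

theorem Cyc.two_odd (hm : 1 ≤ m) (hn : finrank F V = 2 * (m + 1) + 1) : TwoG D.det.ker := by
  have := h.finite
  obtain ⟨c, hc⟩ := exists_gen F
  obtain ⟨z, z0, z1⟩ := finrank_eq_one_iff'.1 (show finrank F (Wv D v) = 1 by have := C.finrank_Wv hD; omega)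
  have z2 : D.B z z ≠ 0 := fun e => z0 (Subtype.ext (hD z fun y => by
    obtain ⟨t, e'⟩ := z1 ⟨_, C.dec y⟩
    rw [← sub_add_cancel y (∑ i, D.B (v (i + (m + 1 : ℕ))) y • v i), ← show t • (z : V) = y - _ from congrArg Subtype.val e']
    simp [e, D.eq_zero_symm (mem_Wv.1 z.2 _)]))
  obtain ⟨g, g1, g2, g3, g4, -, g5, -⟩ := C.exists_h hD hm hc.1
  obtain ⟨n0, n1, -⟩ := C.exists_shift hD
  obtain ⟨k, k1, k2⟩ := exists_det_fix h hD n0 (t := z) (by rwa [herm_Q])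
  have n2 : Sh v 1 (k * n0) := by
    simpa using Sh.mul (k := 0) (fun i => ⟨1, one_ne_zero, by simp [k2 _ (D.eq_zero_symm (mem_Wv.1 z.2 _))]⟩) n1
  obtain ⟨d, hd⟩ := exists_isEich (C.Q 0) (mem_Wv.1 z.2 0)
  refine .of g1 (mul_mem (E_le_ker_det (D.eich_mem_E _ _ _ hd)) k1) fun H a b => ?_
  generalize k * n0 = n at *
  have h1 : ∀ w ∈ Wv D v, (n * g * n⁻¹).1 w = w := fun w hw => by
    rw [isom_mul_apply, isom_mul_apply, g5 _ (n2.inv.mem hw), isom_apply_inv]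
  have h2 := stageW (LinearMap.toSpanSingleton F V z).toAddMonoidHom (C.Q 0) (hc.map h.σσ) (.inl rfl)
    (fun e => hc.ne_conj h (by rw [e]; simpa [h.σσ] using (congrArg σ e).symm)) (b := σ c⁻¹)
    (fun e => hc.inv.ne_conj h (by rw [e]; simpa [h.σσ] using (congrArg σ e).symm)) hc.1 g3
    (fun s => by simp [g5 _ z.2, smul_smul]) (by simpa using n2.conj g4) (fun s => (congrArg _ (h1 _ (Submodule.smul_mem _ s z.2))).trans (smul_smul ..))
    (C.comm g2 (by simpa using (n2.mul g2).mul n2.inv) fun w hw => by rw [h1 w hw, g5 w hw, h1 w hw])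
    ⟨d, by simpa using hd, by simp⟩ a b
  have h3 : ∀ w ∈ Wv D v, w ∈ A H (v 0) (C.Q 0) := fun w hw => by
    obtain ⟨t, e⟩ := z1 ⟨w, hw⟩
    exact (show t • (z : V) = w from congrArg Subtype.val e) ▸ h2 t
  have h4 : In H (v 0) z d := by
    obtain ⟨δ, e⟩ := h3 z z.2
    obtain ⟨b, hb⟩ := h.exists_trace_eq (a := 1) (map_one σ)
    obtain ⟨δ', e'⟩ := h3 _ (Submodule.smul_mem _ ((d - δ) * b / D.B z z) z.2)
    refine (e.mul (e.comm e')).congr rfl (add_zero _) ?_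
    have e1 := hd.tr_d.trans e.1.tr_d.symm
    rw [← herm_symm D z (_ • _), D.B_smul_right, div_mul_cancel₀ _ z2, map_mul, map_sub, map_zero]
    simp only [hermKind_tr] at e1
    linear_combination (d - δ) * hb - σ b * e1
  have h5 := (mul_mem_cancel_left h4.2).1 b
  exact herm_le hD (by omega) (C.Q 0) (C.all_of_W n2 h5 h3 z.2 z.2 z2) (mem_Wv.1 z.2 0) (mem_Wv.1 z.2 0) z2
    (pow_mem h5 _) (C.opp n2)

theorem Cyc.two_even (hm : 1 ≤ m) (hn : finrank F V = 2 * (m + 1)) : TwoG D.det.ker := by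
  have := h.finite
  obtain ⟨c, hc⟩ := exists_gen F
  have hW : ∀ w ∈ Wv D v, w = 0 := (Submodule.eq_bot_iff _).1 (Submodule.finrank_eq_zero.1 (by
    have := C.finrank_Wv hD; omega))
  obtain ⟨g, g1, g2, g3, g4, g5, -, g6⟩ := C.exists_h hD hm hc.1
  obtain ⟨n0, n1, -⟩ := C.exists_shift hD
  obtain ⟨u, u0, u1⟩ := h.exists_div_eq (hD.det_mul_σ_det n0⁻¹)
  obtain ⟨k, k1, k2, k3, k4, -⟩ := C.exists_tor hD 0 u0
  have n2 : Sh v 1 (k * n0) := by simpa using k1.mul n1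
  have n3 : k * n0 ∈ D.det.ker := by
    rw [MonoidHom.mem_ker, map_mul, Units.ext (((C.hyp _).det_torus k2 k3 k4).trans u1), ← map_mul, inv_mul_cancel, map_one]
  generalize k * n0 = n at *
  have ne : ∀ {a b : ℕ}, a < 2 * (m + 1) → b < 2 * (m + 1) → a ≠ b → (a : ZMod (2 * (m + 1))) ≠ b := zm_ne
  have h0 : D.B (v 0) (v m) = 0 := C.B0 (by rw [zero_add]; exact ne (by omega) (by omega) (by omega))
  have hx : ∀ t : F, D.IsEich (v 0) (t • v m) 0 := fun t => ⟨C.Q _, by simp [h0], by simp [D.Q_smul_of_Q (C.Q _)]⟩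
  have act : ∀ {y : D.isom} {α β : F}, y.1 (v 0) = α • v 0 → y.1 (v m) = β • v m →
      Act (fun t => D.eich _ _ _ (hx t)) y (σ α * β) := fun {y α β} e e' =>
    ⟨fun s t => by rw [eich_mul]; exact D.eich_congr _ _ rfl (add_smul ..) (by simp [(C.hyp _).B_ee]), fun t => by
      refine isom_ext fun x => ?_
      simp only [conj_eich, eich_apply, e, map_smul, e', smul_smul, B_smul_left, map_mul, h.σσ, zero_smul, add_zero]
      module⟩
  obtain ⟨s, rfl⟩ : ∃ s, m = s + 1 := ⟨m - 1, by omega⟩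
  obtain ⟨β, b1, b2⟩ : ∃ β, g.1 (v s) = β • v s ∧ σ c⁻¹ * β ≠ 1 := by
    rcases s with _ | s
    · exact ⟨c, by simpa using g3, fun e => hc.ne_conj h (by
        rw [map_inv₀, inv_mul_eq_one₀ (h.kind.σ_eq_zero.ne.2 hc.1)] at e; exact e)⟩
    · refine ⟨1, by rw [one_smul, g6 _ (fun e => ne (b := 0) (by omega) (by omega) (by omega) (e.trans Nat.cast_zero.symm))
        (ne (by omega) (by omega) (by omega)) (fun e => ne (a := s + 1 + 1) (b := 0) (by omega) (by omega) (by omega)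
          (by rw [Nat.cast_succ, e]; simp)) (ne (by omega) (by omega) (by omega))], fun e => hc.inv.ne_conj h ?_⟩
      rw [mul_one] at e
      rw [e]; simpa [h.σσ] using (congrArg σ e).symm
  refine .of g1 (mul_mem (mul_mem (E_le_ker_det (D.eich_mem_E _ _ _ (hx 1))) (one_mem _)) n3) fun H a b => ?_
  obtain ⟨c1, c2⟩ := stage1 (hc.map h.σσ) (act g3 g5) (.inr (sq _).symm)
    (act (by simpa using n2.conj g4) (by simpa using n2.conj b1))
    (C.comm g2 (by simpa using (n2.mul g2).mul n2.inv) fun w hw => by simp [hW w hw]) (Commute.one_left _)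
    (fun _ => Commute.one_left _) a b (fun e => hc.ne_conj h (by
      rcases mul_self_eq_one_iff.1 (show c * c = 1 by simpa [h.σσ] using congrArg σ e) with rfl | rfl <;> simp)) b2
  rw [one_mul] at c2
  have e1 : ((s + 1 : ℕ) : ZMod (2 * (s + 1 + 1))) ≠ 0 + (s + 1 + 1 : ℕ) := by
    rw [zero_add]; exact ne (by omega) (by omega) (by omega)
  refine herm_le hD (by omega) (C.Q 0) (C.fin (C.all_of_rel rfl hm n2 c2 fun t => ⟨_, c1 t⟩)
    fun w hw => (hW w hw).symm ▸ zero_mem _) h0 (C.B0 fun e => ?_) ((C.hyp _).B_ef.trans_ne one_ne_zero) (pow_mem c2 _)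
    (C.opp n2)
  exact ne (a := s + 1) (b := 0) (by omega) (by omega) (by omega) (by simpa using e)

end

theorem two_SU {q : ℕ} {h : IsConj σ q} {D : Form h.kind V} [FiniteDimensional F V] (hD : D.Nondeg)
    (hn : 4 ≤ finrank F V) : TwoG D.det.ker := by
  obtain ⟨m, e⟩ : ∃ m, finrank F V / 2 = m + 1 := ⟨finrank F V / 2 - 1, by omega⟩
  obtain ⟨v, C⟩ := exists_cyc hD rfl (Herm.hasTS hD (m := m + 1) (by omega))
  rcases Nat.mod_two_eq_zero_or_one (finrank F V) with e' | e'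
  exacts [C.two_even hD (by omega) (by omega), C.two_odd hD (by omega) (by omega)]

theorem Cyc.two_minus {F : Type*} [Field F] [Finite F] {V : Type u} [AddCommGroup V] [Module F V] [FiniteDimensional F V]
    {D : Form (quadKind F) V} (hD : D.Nondeg) {v : ZMod (2 * (m + 1)) → V} (C : Cyc D m v) (hm : 1 ≤ m) {L : Type*}
    [Field L] [Algebra F L] {τ : L →+* L} {q : ℕ} (h : IsConj τ q) (hF : Nat.card F = q) (μ : L →ₗ[F] V)
    (h1 : ∀ s, μ s ∈ Wv D v) (h2 : ∀ w ∈ Wv D v, ∃ s, μ s = w) (hQ : ∀ s, algebraMap F L (D.Q (μ s)) = τ s * s)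
    (hB : ∀ s t, algebraMap F L (D.B (μ s) (μ t)) = τ s * t + s * τ t) (hn : 5 ≤ finrank F V) : TwoG D.E := by
  have := h.finite
  have hG : D.Good := good_of_finrank (by omega)
  have inj := (algebraMap F L).injective
  have hτ : ∀ {w}, w ≠ 0 → τ w ≠ 0 := fun e => h.kind.σ_eq_zero.ne.2 e
  have hq : ∀ {w}, w ≠ 0 → D.Q (μ w) ≠ 0 := fun e e' => mul_ne_zero (hτ e) e (by rw [← hQ, e', map_zero])
  have r1 : ∀ {w}, w ≠ 0 → ∀ s, (D.refl (μ w)).1 (μ s) = μ (-(w / τ w) * τ s) := fun {w} e s => by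
    have := hτ e
    rw [refl_apply, ← map_smul, ← map_sub, Algebra.smul_def, map_mul, map_inv₀, hQ, hB]
    congr 1; field_simp; ring
  have r2 : ∀ w, Sh v 0 (D.refl (μ w)) := fun w i =>
    ⟨1, one_ne_zero, by rw [refl_apply_of_perp (D.eq_zero_symm (mem_Wv.1 (h1 w) _)), add_zero, one_smul]⟩
  have r3 : ∀ w i, (D.refl (μ w)).1 (v i) = v i := fun w i => refl_apply_of_perp (D.eq_zero_symm (mem_Wv.1 (h1 w) _))
  have q1 : D.Q (μ 1) = 1 := inj (by simp [hQ])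
  obtain ⟨c, hc⟩ := exists_gen L
  have c1 : c / τ c ≠ 1 := fun e => hc.ne_conj h (eq_of_div_eq_one e).symm
  obtain ⟨k, k1, k2, k3, k4, k5, k6⟩ := C.exists_tor hD 0 (hq hc.1)
  obtain ⟨g, g1, g2, g3, g4, g5⟩ : ∃ g ∈ D.E, Sh v 0 g ∧ g.1 (v 0) = D.Q (μ c) • v 0 ∧ g.1 (v (-1)) = (1 : F) • v (-1) ∧
      ∀ s, g.1 (μ s) = μ (c / τ c * s) := by
    refine ⟨k * (D.refl (μ c) * D.refl (μ 1)), ?_, by simpa using k1.mul ((r2 c).mul (r2 1)),
      by simp [isom_mul_apply, r3, k2], ?_, fun s => ?_⟩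
    · rw [← hD.commutator_eq_E hG (by omega), hD.mem_commutator_iff hG]
      simp [(C.hyp 0).dickson_torus hD (hq hc.1) k2 k3 k4, (C.hyp 0).spinor_torus hD (hq hc.1) k2 k3 k4,
        dickson_refl hD (hq hc.1), dickson_refl hD (hq one_ne_zero), spinor_refl hD (hq hc.1),
        spinor_refl hD (hq one_ne_zero), q1]
    · have e' : (-1 : ZMod (2 * (m + 1))) = (2 * m + 1 : ℕ) := by
        linear_combination (norm := (push_cast; ring)) -zm_add m 0
      rw [isom_mul_apply, isom_mul_apply, r3, r3, one_smul, e', k5 _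
        (fun e => zm_ne (b := 0) (by omega) (by omega) (by omega) (e.trans Nat.cast_zero.symm))
        (by rw [zero_add]; exact zm_ne (by omega) (by omega) (by omega))]
    · rw [isom_mul_apply, isom_mul_apply, r1 one_ne_zero, r1 hc.1, k6 _ (h1 _)]; simp [h.σσ]
  obtain ⟨n, n1, n2, b, b1, b2⟩ : ∃ n ∈ D.E, Sh v 1 n ∧ ∃ b, b ≠ 1 ∧ ∀ s, (n * g * n⁻¹).1 (μ s) = μ (b * s) := by
    obtain ⟨n0, n1, n2⟩ := C.exists_shift hD
    obtain ⟨a, a0, a1⟩ := exists_chi_eq hD n0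
    obtain ⟨w, hw⟩ := h.exists_norm_eq (h.map_algebraMap hF a)
    have w0 : w ≠ 0 := by rintro rfl; exact a0 (inj (by simpa using hw.symm))
    have w1 : D.Q (μ w) = a := inj (by rw [hQ, mul_comm, hw])
    have w2 := hτ w0
    rw [← hD.commutator_eq_E hG (by omega)]
    rcases Int.units_eq_one_or (dickson hD n0) with e | e
    · refine ⟨n0 * (D.refl (μ w) * D.refl (μ 1)), (hD.mem_commutator_iff hG).2 ?_,
        by simpa using n1.mul ((r2 w).mul (r2 1)), _, c1, fun s => ?_⟩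
      · simp [e, ← a1, dickson_refl hD (hq w0), dickson_refl hD (hq one_ne_zero), spinor_refl hD (hq w0),
          spinor_refl hD (hq one_ne_zero), q1, w1]
      · have e1 : ∀ s, (n0 * (D.refl (μ w) * D.refl (μ 1))).1 (μ s) = μ (w / τ w * s) := fun s => by
          rw [isom_mul_apply, isom_mul_apply, r1 one_ne_zero, r1 w0, n2 _ (h1 _)]; simp [h.σσ]
        rw [isom_mul_apply, isom_mul_apply, isom_inv_apply_eq.2 ((e1 (τ w / w * s)).trans (by congr 1; field_simp)), g5, e1]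
        congr 1; field_simp
    · refine ⟨n0 * D.refl (μ w), (hD.mem_commutator_iff hG).2 ?_, by simpa using n1.mul (r2 w), τ (c / τ c),
        fun e => c1 (by simpa [h.σσ] using congrArg τ e), fun s => ?_⟩
      · simp [e, ← a1, dickson_refl hD (hq w0), spinor_refl hD (hq w0), w1]
      · have e1 : ∀ s, (n0 * D.refl (μ w)).1 (μ s) = μ (-(w / τ w) * τ s) := fun s => by
          rw [isom_mul_apply, r1 w0, n2 _ (h1 _)]
        rw [isom_mul_apply, isom_mul_apply, isom_inv_apply_eq.2 ((e1 (-(w / τ w) * τ s)).trans (by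
          simp only [map_mul, map_neg, map_div₀, h.σσ]; congr 1; field_simp)), g5, e1]
        simp only [map_mul, map_neg, map_div₀, h.σσ]; congr 1; field_simp
  have hd := isEich_quad (C.Q 0) (mem_Wv.1 (h1 1) 0)
  refine .of g1 (mul_mem (D.eich_mem_E _ _ _ hd) n1) fun H a b => ?_
  have h3 := stageW μ.toAddMonoidHom (C.Q 0) hc (.inr rfl) (fun e => hc.ne_conj h (by
      rcases sq_eq_one_iff.1 e with rfl | rfl <;> simp)) b1 (hq hc.1) g3 (fun s => by
      have := hτ hc.1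
      change D.Q (μ c) • g.1 (μ s) = μ _
      rw [g5, ← map_smul, Algebra.smul_def, hQ]; congr 1; field_simp) (t' := 1) (by simpa using n2.conj g4)
    (fun s => (one_smul _ _).trans (b2 s)) (C.comm g2 (by simpa using (n2.mul g2).mul n2.inv) fun w hw => by
      obtain ⟨s, rfl⟩ := h2 w hw
      rw [b2, g5, g5, b2, mul_left_comm]) ⟨_, hd, rfl⟩ a b
  have h4 : D.eich _ _ _ hd ∈ H := by
    obtain ⟨δ, e, e'⟩ := h3 1
    obtain rfl := e.quad_eq
    exact e'
  have h5 := (mul_mem_cancel_left h4).1 b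
  have h6 : Linear.EG.Full H (v 0) := full_of (C.all_of_W n2 h5 (fun w hw => by obtain ⟨s, rfl⟩ := h2 w hw; exact h3 s)
    (h1 (c - τ c)) (h1 c) (fun e => ?_)) fun d e => (show d = 0 from e) ▸ In.zero (C.Q 0)
  · exact E_le_of_full hD (.inr (by omega)) (C.Q 0) ((Q_isom _ _).trans (C.Q 0)) h6 (h6.map (pow_mem h5 _)) (C.opp n2)
  · have := hB c (c - τ c)
    rw [e, map_zero, map_sub, h.σσ] at this
    exact hc.ne_conj h (sub_eq_zero.1 (pow_eq_zero_iff two_ne_zero |>.1 (by linear_combination this)))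

theorem two_minus {F : Type u} [Field F] [Fintype F] {m : ℕ} (hm : 1 ≤ m) {a b : F}
    (hab : ∀ z₁ z₂ : F, z₁ ^ 2 + a * z₁ * z₂ + b * z₂ ^ 2 = 0 → z₁ = 0 ∧ z₂ = 0) :
    ∃ x y : POmega F (quadFormMinus (m + 1) F a b), closure {x, y} = ⊤ := by
  have := Fintype.ofFinite (Known.FExt F 2)
  have h := isConj_frob (Known.card_FExt F 2)
  generalize frob (Known.card_FExt F 2) = τ at h
  obtain ⟨D0, d1, d2, d3⟩ := Herm.exists_resQuad (F := F) (h := h) (ofHerm h.σσ (.inl h.ne_id)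
    (LinearMap.mk₂'ₛₗ τ (RingHom.id _) (fun x y => τ x * y) (by simp [add_mul]) (by simp [mul_assoc]) (by simp [mul_add])
      (by simp [mul_left_comm])) ⟨fun x y => by simp [h.σσ, mul_comm]⟩) rfl
  have d4 : D0.Aniso := fun x e => by simpa [e] using (d1 x).symm
  have d5 := d4.nondeg (Known.finrank_FExt F 2).ge
  obtain ⟨v, C⟩ := exists_cyc (fPlus_nondeg (F := F) (m + 1)) rfl (fPlus_hasTS _)
  obtain ⟨e, he⟩ := (fMinus_iso (m + 1) a b).trans ((Iso.refl _).prod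
    (Quad.iso_of_aniso (fBin_aniso_iff.2 hab) d4 (by simp) (Known.finrank_FExt F 2)))
  have hW : ∀ w ∈ Wv (fPlus F (m + 1)) v, w = 0 := (Submodule.eq_bot_iff _).1 (Submodule.finrank_eq_zero.1 (by
    have := C.finrank_Wv (fPlus_nondeg _); rw [finrank_plus] at this; omega))
  have hD := (fPlus_nondeg (F := F) (m + 1)).prod d5
  have hn : 5 ≤ finrank F ((Fin (m + 1) ⊕ Fin (m + 1) → F) × Known.FExt F 2) := by
    rw [finrank_prod, finrank_plus, Known.finrank_FExt]; omega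
  exact (Cyc.two_minus hD (v := fun i => (v i, 0)) ⟨fun i => by simp [C.Q], fun i j => by simp [C.B]⟩ hm h rfl
    (LinearMap.inr F _ _) (fun s => mem_Wv.2 (by simp))
    (fun w hw => ⟨w.2, Prod.ext (hW _ (mem_Wv.2 (by simpa using mem_Wv.1 hw))).symm rfl⟩) (by simpa using d1)
    (by simpa [h.σσ] using d2) hn).quot (hD.commutator_eq_E (good_of_finrank (by omega)) (by omega))
    ((pOmegaIso _ (fMinus_Q a b)).trans (Linear.quotientCenterCongr (commutatorCongr (isomCongr e he))))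

end Cfsg.Lib.Pres
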