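import Cfsg.Agent.Lib.Pres.U43s
import Cfsg.Agent.Lib.Pres.SUc
import Cfsg.Agent.Lib.Pres.TwoU
import Cfsg.Agent.Lib.Comp.U43x.Mat
import Cfsg.Agent.Lib.Comp.P43u.Mat
import Cfsg.Agent.S2412

/-!
Short presentations of `SU₄(2)` and `SU₄(3)`.
-/

set_option autoImplicit false

namespace Cfsg.Lib.Pres

open Cfsg.Lib.Comp Cfsg.Lib.Forms Subgroup

/-- The letters of the presentation of `U₄(3)` as words in five of them. -/
def sb {Γ : Type*} [Group Γ] (x : Fin 5 → Γ) (k : ℕ) : Γ :=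
  let c := (x 0 * x 1 * x 2 * (x 0)⁻¹ * x 2)⁻¹
  let d := (x 0 * c)⁻¹ * (c * (x 2)⁻¹ * (x 2)⁻¹)⁻¹
  [1, x 0, (x 0)⁻¹, x 1, (x 1)⁻¹, c, d, (x 0 * x 2)⁻¹ * (d * (x 2)⁻¹ * (x 1)⁻¹)⁻¹, x 2, (x 2)⁻¹, x 3, x 4].getD k 1

open U43x U43s in
theorem prs_u43 : Prs (cl (gp nets) L) 5 20 := by
  refine prs_of_ord ord1 (nets_rel.mono (by decide +kernel)) card.ge ![1, 3, 8, 10, 11] (by decide) (sb .of)
    (by decide +kernel) (by unfold Rels; decide +kernel) rfl (by decide +kernel) (by decide +kernel) ?_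
  have h1 : gp nets 2 = (gp nets 1)⁻¹ := (nets_iv.2 1 (by omega)).2
  have h2 : gp nets 4 = (gp nets 3)⁻¹ := (nets_iv.2 3 (by omega)).2
  have h3 : gp nets 9 = (gp nets 8)⁻¹ := (nets_iv.2 8 (by omega)).2
  have h4 := nets_rel ([1, 3, 8, 2, 8, 5], 0) (by decide +kernel)
  have h5 := nets_rel ([1, 5, 6, 5, 9, 9], 0) (by decide +kernel)
  have h6 := nets_rel ([1, 8, 7, 6, 9, 4], 0) (by decide +kernel)
  generalize gp nets = γ at *
  simp only [Comp.ev, List.map, List.prod_cons, List.prod_nil, zero_add, pow_one, h1, h2, h3, mul_one] at h4 h5 h6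
  replace h4 : (γ 1 * γ 3 * γ 8 * (γ 1)⁻¹ * γ 8)⁻¹ = γ 5 := inv_eq_of_mul_eq_one_right (by rw [← h4]; group)
  replace h5 : (γ 1 * γ 5)⁻¹ * (γ 5 * (γ 8)⁻¹ * (γ 8)⁻¹)⁻¹ = γ 6 := by rw [← mul_one _⁻¹, ← h5]; group
  replace h6 : (γ 1 * γ 8)⁻¹ * (γ 6 * (γ 8)⁻¹ * (γ 3)⁻¹)⁻¹ = γ 7 := by rw [← mul_one _⁻¹, ← h6]; group
  simp [L, sb, h1, h2, h3, h4, h5, h6, -mul_inv_rev]

open P43x in
theorem prs_u42 : Prs (cl (gp nets) L) 5 17 :=
  prs_of_ord (R₀ := []) ((List.append_nil R).symm ▸ ord) nets_rel card.ge ![1, 2, 3, 4, 5] (by decide)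
    ([1, .of 0, .of 1, .of 2, .of 3, .of 4].getD · 1) (by decide +kernel) (fun _ h => absurd h List.not_mem_nil) rfl
    (by decide +kernel) (by decide +kernel) (by simp [L])

variable {F : Type*} [Field F] [Fintype F]

theorem prs_two {G : Type*} [Group G] {g r : ℕ} [NeZero g] (h : Prs G g r) (H : ∃ a b : G, closure {a, b} = ⊤) :
    Prs G 2 (r + 2) :=
  let ⟨a, b, e⟩ := H; prs_of (h.gens (b := ![a, b]) (by simpa [Set.pair_comm] using e))

theorem prs_su43 (hF : Fintype.card F = 3 ^ 2) : Prs (SU 4 F 3) 3 25 :=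
  let ⟨σ, h⟩ := isConj_of_card hF
  let ⟨e⟩ := U43x.iso hF
  have := isCyclic_center_su h (stdHerm_nondeg h (Fin 4)) (by simp)
  ((prs_two (prs_u43.map e) (Agent.S2412.result Nat.prime_three.isPrimePow hF 4 (by omega) (by omega))).map
    (psuEquiv h 4)).central.map (suEquiv h 4).symm

theorem prs_su42 (hF : Fintype.card F = 2 ^ 2) : Prs (SU 4 F 2) 2 19 :=
  let ⟨σ, h⟩ := isConj_of_card hF
  let ⟨e⟩ := P43u.iso hF
  have : center (stdHerm h (Fin 4)).det.ker = ⊥ :=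
    card_eq_one.1 ((Herm.card_center (stdHerm_nondeg h (Fin 4)) (by simp)).trans (by simp))
  (((prs_two (prs_u42.map e) (Agent.S2412.result Nat.prime_two.isPrimePow hF 4 (by omega) (by omega))).map
    (psuEquiv h 4)).map ((QuotientGroup.quotientMulEquivOfEq this).trans QuotientGroup.quotientBot)).map (suEquiv h 4).symm

end Cfsg.Lib.Pres
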