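import Cfsg.Agent.Lib.Pres.Rel
import Cfsg.Agent.Lib.Pres.Alt0
import Mathlib.GroupTheory.Perm.Fin
import Mathlib.GroupTheory.Perm.Closure

/-!
Even permutations of `Fin n` mapping intervals to intervals.
-/

set_option autoImplicit false

namespace Cfsg.Lib.Pres

open Equiv Subgroup Cfsg.Lib.Linear

theorem perm_two (β : Type*) [Finite β] : ∃ s t : Perm β, closure {s, t} = ⊤ := by
  obtain ⟨m, ⟨e⟩⟩ := Finite.exists_equiv_fin β
  obtain ⟨s, t, h⟩ : ∃ s t : Perm (Fin m), closure {s, t} = ⊤ := by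
    rcases m with _ | _ | m
    exacts [⟨1, 1, Subsingleton.elim _ _⟩, ⟨1, 1, (Subgroup.eq_top_iff' _).2 fun x =>
      (show 1 = x from Equiv.ext fun _ => Subsingleton.elim (α := Fin 1) _ _) ▸ one_mem _⟩,
      ⟨_, _, Perm.closure_cycle_adjacent_swap isCycle_finRotate support_finRotate 0⟩]
  refine ⟨e.symm.permCongrHom s, e.symm.permCongrHom t, ?_⟩
  rw [← Set.image_pair, ← MulEquiv.coe_toMonoidHom, ← MonoidHom.map_closure, h,
    map_top_of_surjective _ (MulEquiv.surjective _)]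

theorem eq_or_swap {α : Type*} [DecidableEq α] {a b : α} (hab : a ≠ b) {f : Perm α}
    (h : ∀ x, x ≠ a → x ≠ b → f x = x) : f = 1 ∨ f = swap a b := by
  have h3 : ∀ x, f x = x ∨ f x = a ∨ f x = b := fun x => by
    by_contra! H; exact H.1 (f.injective (h _ H.2.1 H.2.2))
  have h6 := f.injective.ne hab
  by_cases h4 : f a = a
  · have : f b = b := (h3 b).elim id fun e => e.resolve_left (h4 ▸ h6.symm)
    exact .inl (Equiv.ext fun x => by by_cases x = a <;> by_cases x = b <;> simp_all)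
  have h7 : f a = b := by simpa [h4] using h3 a
  have h8 : f b = a := by simpa [(h7 ▸ h6).symm] using h3 b
  exact .inr (Equiv.ext fun x => by rw [swap_apply_def]; split_ifs <;> simp_all)

theorem stab_set {α : Type*} [Fintype α] [DecidableEq α] {a b : α} (hab : a ≠ b) (p : α → Prop) (ha : ¬ p a)
    (hb : ¬ p b) (S : Subgroup (alternatingGroup α))
    (hS : ∀ g, g ∈ S ↔ ∀ x, (p (g.1 x) ↔ p x) ∧ (¬ p x → x ≠ a → x ≠ b → g.1 x = x)) :
    ∃ s ∈ S, ∃ t ∈ S, S ≤ closure {s, t} := by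
  classical
  obtain ⟨s, t, h⟩ := perm_two {x // p x}
  let ρ : S →* Perm {x // p x} := MonoidHom.mk' (fun g => g.1.1.subtypePerm fun x => (((hS _).1 g.2) x).1)
    fun _ _ => rfl
  have h1 : Function.Bijective ρ := ⟨(injective_iff_map_eq_one _).2 fun g e => ?_, fun τ => ?_⟩
  · let e := MulEquiv.ofBijective ρ h1
    refine ⟨_, (e.symm s).2, _, (e.symm t).2, fun g hg => ?_⟩
    have := mem_map_of_mem (S.subtype.comp e.symm.toMonoidHom) (h ▸ mem_top (e ⟨g, hg⟩))
    simpa [MonoidHom.map_closure, Set.image_pair] using this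
  · have h2 : ∀ x, x ≠ a → x ≠ b → g.1.1 x = x := fun x h1 h2 => by
      by_cases hx : p x
      exacts [congrArg Subtype.val (Equiv.congr_fun e ⟨x, hx⟩), (((hS _).1 g.2) x).2 hx h1 h2]
    rcases eq_or_swap hab h2 with h5 | h5
    · exact Subtype.ext (Subtype.ext h5)
    have := g.1.2
    simp [Perm.mem_alternatingGroup, h5, hab] at this
  · obtain ⟨d, ε, h2, h3⟩ := exists_even (σ := Perm.ofSubtype τ) hab (Perm.ofSubtype_apply_of_not_mem _ ha)
      (Perm.ofSubtype_apply_of_not_mem _ hb)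
    have h4 : ∀ x (hx : p x), d.1 x = τ ⟨x, hx⟩ := fun x hx =>
      (h3 x (by rintro rfl; exact ha hx) (by rintro rfl; exact hb hx)).trans (Perm.ofSubtype_apply_of_mem _ hx)
    have h5 : ∀ x, ¬ p x → x ≠ a → x ≠ b → d.1 x = x := fun x hx h h' =>
      (h3 x h h').trans (Perm.ofSubtype_apply_of_not_mem _ hx)
    refine ⟨⟨d, (hS _).2 fun x => ⟨?_, h5 x⟩⟩, Equiv.ext fun x => Subtype.ext (h4 x x.2)⟩
    by_cases hx : p x
    · simp [h4 x hx, hx, (τ ⟨x, hx⟩).2]
    · by_cases e : x = a ∨ x = b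
      · rcases e with rfl | rfl <;> rcases h2 with h2 | h2 <;> simp [h2, ha, hb]
      · rw [h5 x hx (not_or.1 e).1 (not_or.1 e).2]

variable {n a b i j k l : ℕ} {σ τ : alternatingGroup (Fin n)}

/-- `σ` maps the interval of length `k` at `a` onto the one at `i`. -/
def Mq (σ : alternatingGroup (Fin n)) (a k i : ℕ) : Prop :=
  ∀ m : Fin n, (a ≤ m ∧ m < a + k) ↔ (i ≤ σ.1 m ∧ σ.1 m < i + k)

theorem Mq.mul (h : Mq σ b k i) (h' : Mq τ a k b) : Mq (σ * τ) a k i := fun m => (h' m).trans (h _)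

theorem Mq.inv (h : Mq σ a k i) : Mq σ⁻¹ i k a := fun m => by simpa using (h (σ.1⁻¹ m)).symm

theorem Mq.one : Mq (1 : alternatingGroup (Fin n)) a k a := fun _ => Iff.rfl

theorem Mq.of (hk : a + k ≤ n) (h : ∀ m : Fin n, a ≤ m → m < a + k → i ≤ σ.1 m ∧ σ.1 m < i + k) : Mq σ a k i :=
  fun m => ⟨fun H => h m H.1 H.2, fun H => by
    have h1 : ∀ x : Fin k, i ≤ σ.1 ⟨a + x, by omega⟩ ∧ σ.1 ⟨a + x, by omega⟩ < i + k := fun x =>
      h _ (by simp) (by simp)
    obtain ⟨x, hx⟩ := Finite.injective_iff_surjective.1 (show Function.Injective fun x : Fin k =>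
      (⟨σ.1 ⟨a + x, by omega⟩ - i, by have := h1 x; omega⟩ : Fin k) from fun x y e => by
        have := σ.1.injective (Fin.ext (show (σ.1 ⟨a + x, by omega⟩ : ℕ) = σ.1 ⟨a + y, by omega⟩ by
          have := h1 x; have := h1 y; simp at e; omega))
        exact Fin.ext (by simpa using this)) ⟨σ.1 m - i, by omega⟩
    rw [← σ.1.injective (Fin.ext (show (σ.1 ⟨a + x, by omega⟩ : ℕ) = σ.1 m by
      have := h1 x; simp at hx; omega))]
    simp⟩

theorem exists_map (g : ℕ → ℕ) (ha : a + 2 ≤ k) (hk : k ≤ n) (h1 : ∀ m < k, g m < n)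
    (h2 : ∀ m < k, ∀ m' < k, g m = g m' → m = m') : ∃ σ : alternatingGroup (Fin n), ∀ m : Fin n, m < k →
      σ.1 m = g m ∨ m = a ∧ σ.1 m = g (a + 1) ∨ m = a + 1 ∧ σ.1 m = g a := by
  obtain ⟨σ, h | h⟩ := exists_alt (f := Fin.castLE hk) (g := fun m => (⟨g m, h1 m m.2⟩ : Fin n))
    (Fin.castLE_injective hk) (fun x y e => Fin.ext (h2 _ x.2 _ y.2 (congrArg Fin.val e)))
    (a := ⟨a, by omega⟩) (b := ⟨a + 1, by omega⟩) (by simp [Fin.ext_iff]) <;> refine ⟨σ, fun m hm => ?_⟩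
  · exact .inl (congrArg Fin.val (h ⟨m, hm⟩))
  by_cases e : m = a
  · exact .inr (.inl ⟨e, by simpa [← e] using congrArg Fin.val (h ⟨a + 1, by omega⟩)⟩)
  by_cases e' : m = a + 1
  · exact .inr (.inr ⟨e', by
      simpa [show m = ⟨a + 1, by omega⟩ from Fin.ext e', Fin.castLE] using congrArg Fin.val (h ⟨a, by omega⟩)⟩)
  exact .inl (by simpa [swap_apply_def, Fin.ext_iff, e, e'] using congrArg Fin.val (h ⟨m, hm⟩))

theorem exists_mq (hk : 2 ≤ k) (hi : i + k ≤ n) (hj : j + l ≤ n) (h : i + k ≤ j ∨ j + l ≤ i) :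
    ∃ σ : alternatingGroup (Fin n), Mq σ 0 k i ∧ Mq σ k l j := by
  obtain ⟨σ, H⟩ := exists_map (n := n) (a := 0) (k := k + l) (fun m => if m < k then i + m else j + (m - k))
    (by omega) (by omega) (by grind) (by grind)
  exact ⟨σ, .of (by omega) (by grind), .of (by omega) (by grind)⟩

theorem exists_mq4 (hi : i + 4 ≤ n) : ∃ σ : alternatingGroup (Fin n), Mq σ 0 3 i ∧ Mq σ 1 3 (i + 1) ∧ Mq σ 0 4 i := by
  obtain ⟨σ, H⟩ := exists_map (n := n) (a := 1) (k := 4) (i + ·) (by omega) (by omega) (by omega) (by omega)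
  exact ⟨σ, .of (by omega) (by grind), .of (by omega) (by grind), .of (by omega) (by grind)⟩

variable (n) in
/-- The three-cycle on `i, i + 1, i + 2`. -/
def cc (i : ℕ) : alternatingGroup (Fin n) :=
  if h : i + 3 ≤ n then c3 ⟨i, by omega⟩ ⟨i + 1, by omega⟩ ⟨i + 2, by omega⟩ else 1

theorem cc_val (h : i + 3 ≤ n) (m : Fin n) : ((cc n i).1 m : ℕ) =
    if m = i then i + 1 else if m = i + 1 then i + 2 else if m = i + 2 then i else m := by
  rw [cc, dif_pos h, c3_val (by simp) (by simp), cyc3, Perm.mul_apply, swap_apply_def, swap_apply_def]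
  grind

theorem closure_cc {H : Subgroup (alternatingGroup (Fin n))} (hn : 3 ≤ n) (h : ∀ i, cc n i ∈ H) : H = ⊤ := by
  refine alt_top (a := ⟨0, by omega⟩) (b := ⟨1, by omega⟩) (by simp) fun ⟨m, hm⟩ h0 h1 => ?_
  obtain ⟨m, rfl⟩ : ∃ k, m = k + 2 := ⟨m - 2, by simp at h0 h1; omega⟩
  clear h0 h1
  induction m with
  | zero => simpa [cc, hn] using h 0
  | succ m ih =>
    rcases m with _ | m
    · convert mul_mem (mul_mem (inv_mem (h 1)) (inv_mem (h 0))) (h 1) using 1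
      rw [mul_assoc, eq_inv_mul_iff_mul_eq, eq_inv_mul_iff_mul_eq]
      ext x
      rw [coe_mul, coe_mul, Perm.mul_apply, Perm.mul_apply, c3_val (by simp) (by simp), cyc3, Perm.mul_apply,
        swap_apply_def, swap_apply_def, cc_val hn, cc_val hm, cc_val hm]
      grind
    · have h2 := mul_mem (mul_mem (h (m + 2)) (ih (by omega))) (inv_mem (h (m + 2)))
      rw [← cj_coe, cj_c3] at h2
      convert h2 using 2 <;> ext <;> simp [cc_val (show m + 2 + 3 ≤ n by omega)]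

end Cfsg.Lib.Pres
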