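import Cfsg.Agent.Lib.Pres.SUa
import Cfsg.Agent.Lib.Pres.SUc
import Cfsg.Agent.Lib.Phan.Align

/-!
Phan systems obtained from `SU₃` and the alternating group.
-/

set_option autoImplicit false

namespace Cfsg.Lib.Pres

open Equiv Subgroup Cfsg.Lib.Forms Cfsg.Lib.Forms.Form Cfsg.Lib.Phan Matrix

universe u

variable {n a i j k l : ℕ} {r s : alternatingGroup (Fin n)}

theorem sgn_alt' : Sgn (alternatingGroup (Fin n)) := fun σ => by rw [show Perm.sign σ.1 = 1 from σ.2, one_pow]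

theorem mq_cc (h : i + 3 ≤ n) : Mq (cc n i) i 3 i := fun m => by rw [cc_val h]; grind

theorem exists_cc (hn : 3 ≤ n) (h : Mq s 0 3 0) : ∃ c ∈ zpowers (cc n 0), Mq (c * s) 0 2 0 ∧ Mq (c * s) 2 1 2 := by
  have h1 := cc_val (i := 0) hn
  have h2 := (h ⟨2, hn⟩).1 (by simp)
  have h3 : ∀ c : alternatingGroup (Fin n), Mq c 0 3 0 → (c.1 (s.1 ⟨2, hn⟩) : ℕ) = 2 →
      Mq (c * s) 0 2 0 ∧ Mq (c * s) 2 1 2 := fun c hc e => by
    have h4 : Mq (c * s) 2 1 2 := .of hn fun m _ _ => by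
      rw [show m = ⟨2, hn⟩ from Fin.ext (by simp; omega)]; exact ⟨e.ge, e.trans_lt (by omega)⟩
    exact ⟨fun m => by have := hc.mul h m; have := h4 m; omega, h4⟩
  obtain e | e | e : (s.1 ⟨2, hn⟩ : ℕ) = 0 ∨ (s.1 ⟨2, hn⟩ : ℕ) = 1 ∨ (s.1 ⟨2, hn⟩ : ℕ) = 2 := by omega
  · exact ⟨_, mul_mem (mem_zpowers _) (mem_zpowers _), h3 _ ((mq_cc hn).mul (mq_cc hn)) (by simp [h1, e])⟩
  · exact ⟨_, mem_zpowers _, h3 _ (mq_cc hn) (by simp [h1, e])⟩
  · exact ⟨1, one_mem _, h3 _ .one e⟩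

theorem mem_cc (hn : 3 ≤ n) (h : ∀ m : Fin n, 3 ≤ (m : ℕ) → s.1 m = m) : s ∈ zpowers (cc n 0) := by
  obtain ⟨c, hc, -, h1⟩ := exists_cc hn (s := s) (.of hn fun m _ h2 => ⟨Nat.zero_le _, not_le.1 fun h3 => by
    have := s.1.injective (h _ h3); grind⟩)
  have h2 : ∀ m : Fin n, 3 ≤ (m : ℕ) → c.1 m = m := fun m hm => (zpowers_le (H := (MulAction.stabilizer _ m).comap
    (alternatingGroup (Fin n)).subtype)).2 (Fin.ext ((cc_val (i := 0) hn m).trans (by grind))) hc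
  rcases eq_or_swap (a := (⟨0, by omega⟩ : Fin n)) (b := ⟨1, by omega⟩) (f := (c * s).1) (by simp) fun m h3 h4 => by
    by_cases h5 : 3 ≤ (m : ℕ)
    · simp [h m h5, h2 m h5]
    · have := h1 m; grind with e | e
  · rw [eq_inv_of_mul_eq_one_right (Subtype.ext e)]; exact inv_mem hc
  · have := (c * s).2
    rw [e, Perm.mem_alternatingGroup, Perm.sign_swap (by simp)] at this
    exact absurd this (by decide)

theorem stab_mq (hn : 2 ≤ k) (hk : k ≤ n) : ∃ s t : alternatingGroup (Fin n), (∀ g ∈ closure {s, t}, Mq g 0 2 0 ∧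
    ∀ m : Fin n, 2 ≤ (m : ℕ) → m < k → g.1 m = m) ∧ ∀ g, Mq g 0 2 0 →
      (∀ m : Fin n, 2 ≤ (m : ℕ) → m < k → g.1 m = m) → g ∈ closure {s, t} := by
  let S : Subgroup (alternatingGroup (Fin n)) := {
    carrier := {g | Mq g 0 2 0 ∧ ∀ m : Fin n, 2 ≤ (m : ℕ) → m < k → g.1 m = m}
    one_mem' := ⟨.one, fun _ _ _ => rfl⟩
    mul_mem' := fun h h' => ⟨h.1.mul h'.1, fun m a b => by simp [h.2 m a b, h'.2 m a b]⟩
    inv_mem' := fun h => ⟨h.1.inv, fun m a b => Perm.inv_eq_iff_eq.2 (h.2 m a b).symm⟩ }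
  obtain ⟨s, hs, t, ht, h⟩ := stab_set (a := (⟨0, by omega⟩ : Fin n)) (b := ⟨1, by omega⟩) (by simp)
    (fun m => k ≤ m) (by simp; omega) (by simp; omega) S fun g => ⟨fun H m => ⟨by
      have := H.1 m; have := H.2 m; have := H.2 (g.1 m); have := fun e : g.1 (g.1 m) = g.1 m => g.1.injective e; grind,
      fun _ _ _ => H.2 m (by grind) (by omega)⟩, fun H => ⟨.of (by omega) fun m _ _ => by
        have := H m; have := (H (g.1 m)).2; have := fun e : g.1 (g.1 m) = g.1 m => g.1.injective e; grind,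
        fun m _ _ => (H m).2 (by omega) (by grind) (by grind)⟩⟩
  exact ⟨s, t, (closure_le S).2 (Set.insert_subset hs (Set.singleton_subset_iff.2 ht)), fun g a b => h ⟨a, b⟩⟩

section

variable {Q : Type*} [Group Q] (α : alternatingGroup (Fin n) →* Q) (K : Subgroup Q)

/-- The conjugates of `K` attached to the interval at `i`. -/
def orb (k i : ℕ) : Subgroup Q := ⨆ s, ⨆ _ : Mq s 0 k i, K.map (MulAut.conj (α s)).toMonoidHom

/-- The stabiliser of the initial interval normalises `K`. -/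
def Nrm (k : ℕ) : Prop := ∀ s, Mq s 0 k 0 → α s ∈ normalizer (K : Set Q)

variable {α K} {K' : Subgroup Q} {x : Q}

theorem orb_conj (h : Mq r i k j) (hx : x ∈ orb α K k i) : α r * x * (α r)⁻¹ ∈ orb α K k j :=
  (iSup₂_le (a := (orb α K k j).comap (MulAut.conj (α r)).toMonoidHom) fun s hs => by
    rintro _ ⟨y, hy, rfl⟩
    exact mem_iSup_of_mem (r * s) (mem_iSup_of_mem (h.mul hs) ⟨y, hy, by simp [mul_assoc]⟩)) hx

theorem Nrm.zero (N : Nrm α K k) : orb α K k 0 = K :=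
  le_antisymm (iSup₂_le fun s hs => by rintro _ ⟨y, hy, rfl⟩; exact (mem_normalizer_iff.1 (N s hs) y).1 hy)
    fun y hy => mem_iSup_of_mem 1 (mem_iSup_of_mem .one ⟨y, hy, by simp⟩)

theorem Nrm.eq (N : Nrm α K k) (h : Mq s 0 k i) : orb α K k i = K.map (MulAut.conj (α s)).toMonoidHom :=
  le_antisymm (fun y hy => ⟨_, N.zero ▸ orb_conj h.inv hy, by simp [mul_assoc]⟩) (le_iSup₂_of_le s h le_rfl)

theorem Nrm.cm (N : Nrm α K k) (h : Cm K (orb α K' l k)) (hk : 2 ≤ k) (hi : i + k ≤ n) (hj : j + l ≤ n)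
    (hij : i + k ≤ j ∨ j + l ≤ i) : Cm (orb α K k i) (orb α K' l j) := by
  obtain ⟨s, h1, h2⟩ := exists_mq hk hi hj hij
  rw [N.eq h1]
  rintro _ ⟨x, hx, rfl⟩ y hy
  simpa [mul_assoc] using congrArg (MulAut.conj (α s)) (h x hx _ (orb_conj h2.inv hy))

end

variable {F : Type*} [Field F] {σ : F →+* F} {q : ℕ} {h : IsConj σ q} {V : Type u} [AddCommGroup V] [Module F V]
  {D : Form h.kind V} {e : ℕ → V}

variable (e) in
/-- Permutation isometries. -/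
structure Pm (P : alternatingGroup (Fin n) →* D.isom) : Prop where
  mem : ∀ s, P s ∈ SUb D (sp F e 0 n)
  app : ∀ s (m : Fin n), (P s).1 (e m) = e (s.1 m)

theorem exists_pm [FiniteDimensional F V] (hD : D.Nondeg) (hO : OnS D e n) :
    ∃ P : alternatingGroup (Fin n) →* D.isom, Pm e P := by
  obtain ⟨j, hj⟩ := hO.exists_equiv hD (i := 0) (m := n) (by omega)
  have h1 : ∀ s, (pm F sgn_alt' s).1 = permMatrixHom s.1 := fun s : alternatingGroup (Fin n) => by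
    change _ • _ = _; rw [show Perm.sign s.1 = 1 from s.2]; simp
  refine ⟨(Subgroup.subtype _).comp (j.toMonoidHom.comp ((pm F sgn_alt').codRestrict _ fun s => (mem_SU_iff h).2 ?_)),
    fun s => by simpa using (j _).2, fun s m => ?_⟩
  · rw [h1, permMatrixHom_apply]
    ext a b
    simp [Perm.permMatrix, PEquiv.toMatrix_apply, Matrix.mul_apply, apply_ite σ, Equiv.symm_apply_eq, Matrix.one_apply]
  · refine (by simpa using hj _ m : _ = ∑ l : Fin n, (pm F sgn_alt' s).1 l m • e l).trans ?_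
    simp [h1, permMatrixHom_apply, Perm.permMatrix, PEquiv.toMatrix_apply, Equiv.symm_apply_eq]

variable {P : alternatingGroup (Fin n) →* D.isom}

theorem Pm.conj (H : Pm e P) (hO : OnS D e n) (hs : Mq s a k i) (ha : a + k ≤ n) (hi : i + k ≤ n) {g : D.isom}
    (hg : g ∈ SUb D (sp F e a (a + k))) : P s * g * (P s)⁻¹ ∈ SUb D (sp F e i (i + k)) := by
  rw [hO.mem_iff (Nat.zero_le _) ha le_rfl] at hg
  refine (hO.mem_iff (Nat.zero_le _) hi le_rfl).2 ⟨mul_mem (mul_mem (H.mem s) hg.1) (inv_mem (H.mem s)),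
    fun m _ h1 h2 => ?_⟩
  have := hs.inv ⟨m, h1⟩
  rw [isom_mul_apply, isom_mul_apply, ← map_inv, H.app s⁻¹ ⟨m, h1⟩, hg.2 _ (Nat.zero_le _) (Fin.is_lt _) (by
    simp only at this; omega), H.app]
  simp

theorem Pm.mem' (H : Pm e P) (hO : OnS D e n) (hi : j ≤ n) (hs : ∀ m : Fin n, (m : ℕ) < i ∨ j ≤ m → s.1 m = m) :
    P s ∈ SUb D (sp F e i j) :=
  (hO.mem_iff (Nat.zero_le _) hi le_rfl).2 ⟨H.mem s, fun m _ h1 h2 => by rw [H.app s ⟨m, h1⟩, hs _ h2]⟩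

variable {Q : Type*} [Group Q] {π : Q →* D.isom} {α : alternatingGroup (Fin n) →* Q} {K Λ Γ : Subgroup Q}

theorem Pm.gr (H : Pm e (π.comp α)) (hO : OnS D e n) (hs : Mq s a k i) (ha : a + k ≤ n) (hi : i + k ≤ n)
    (g : Gr π K (SUb D (sp F e a (a + k)))) :
    Gr π (K.map (MulAut.conj (α s)).toMonoidHom) (SUb D (sp F e i (i + k))) := by
  refine ⟨?_, fun y hy => ?_, ?_⟩
  · rintro _ ⟨x, hx, rfl⟩; simpa using H.conj hO hs ha hi (g.mem x hx)
  · obtain ⟨x, hx, e⟩ := g.ex _ (H.conj hO hs.inv hi ha hy)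
    exact ⟨_, ⟨x, hx, rfl⟩, by simp [e, mul_assoc]⟩
  · rintro _ ⟨x, hx, rfl⟩ e
    rw [g.inj x hx (by simpa using e), map_one]

variable (e π α Λ Γ) in
/-- The data from which a Phan system is built. -/
structure Core : Prop where
  hO : OnS D e n
  hn : 4 ≤ n
  pm : Pm e (π.comp α)
  gΛ : Gr π Λ (SUb D (sp F e 0 2))
  gΓ : Gr π Γ (SUb D (sp F e 0 3))
  le : Λ ≤ Γ
  nΛ : Nrm α Λ 2
  nΓ : Nrm α Γ 3
  cm : Cm Λ (orb α Λ 2 2)
  cc : α (cc n 0) ∈ Γ

namespace Core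

variable (C : Core e π α Λ Γ)
include C

theorem le_orb (h1 : Mq s 0 2 i) (h2 : Mq s 0 3 j) : orb α Λ 2 i ≤ orb α Γ 3 j := by
  rw [C.nΛ.eq h1, C.nΓ.eq h2]; exact map_mono C.le

theorem sys : Sys π e n (orb α Λ 2) (orb α Γ 3) := by
  refine ⟨C.hO, fun i hi => ?_, fun i hi => ?_, fun i hi => ?_, fun i hi => ?_,
    fun i j h1 h2 => C.nΛ.cm C.cm le_rfl (by omega) h2 (.inl h1)⟩
  · obtain ⟨s, hs, -⟩ := exists_mq (j := 0) (l := 0) le_rfl hi (by omega) (by omega)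
    exact C.nΛ.eq hs ▸ C.pm.gr C.hO hs (by omega) hi C.gΛ
  · obtain ⟨s, hs, -⟩ := exists_mq (j := 0) (l := 0) (by omega) hi (by omega) (by omega)
    exact C.nΓ.eq hs ▸ C.pm.gr C.hO hs (by omega) hi C.gΓ
  · obtain ⟨s, h1, h2⟩ := exists_mq (n := n) (i := i) (j := i + 2) (l := 1) le_rfl (by omega) hi (by omega)
    exact C.le_orb h1 fun m => by have := h1 m; have := h2 m; omega
  · obtain ⟨s, h1, h2⟩ := exists_mq (n := n) (i := i + 1) (j := i) (l := 1) le_rfl hi (by omega) (by omega)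
    exact C.le_orb h1 fun m => by have := h1 m; have := h2 m; omega

theorem four (g4 : Gr π (orb α Γ 3 0 ⊔ orb α Γ 3 1) (SUb D (sp F e 0 4))) (i : ℕ) (hi : i + 4 ≤ n) :
    Gr π (orb α Γ 3 i ⊔ orb α Γ 3 (i + 1)) (SUb D (sp F e i (i + 4))) := by
  obtain ⟨s, h1, h2, h3⟩ := exists_mq4 hi
  obtain ⟨t, h4, -⟩ := exists_mq (n := n) (i := 1) (k := 3) (j := 0) (l := 0) (by omega) C.hn (by omega) (by omega)
  convert C.pm.gr C.hO h3 C.hn hi g4 using 1
  rw [Subgroup.map_sup, C.nΓ.zero, C.nΓ.eq h1, C.nΓ.eq h4, C.nΓ.eq (h2.mul h4), Subgroup.map_map]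
  congr 2; ext; simp

theorem inj (g : ∀ k, k + 2 ≤ n → Gr π (pj (orb α Λ 2) (orb α Γ 3) k) (SUb D (sp F e 0 (k + 2))))
    {K : Subgroup Q} (hK : K ≤ orb α Γ 3 0 ⊔ orb α Γ 3 1) (gen : K ⊔ α.range = ⊤) :
    (∀ x, π x = 1 → x = 1) ∧ π.range = SUb D (sp F e 0 n) := by
  have hn := C.hn
  have g := g (n - 2) (by omega)
  have : pj (orb α Λ 2) (orb α Γ 3) (n - 2) = ⊤ := top_unique (gen.ge.trans (sup_le (hK.trans (sup_le
    (le_pj (by omega)) (le_pj (by omega)))) (by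
      rintro _ ⟨s, rfl⟩
      refine (closure_cc (H := comap α _) (by omega) fun i => ?_).ge (mem_top s)
      by_cases hi : i + 3 ≤ n
      swap; · rw [Pres.cc, dif_neg hi]; exact one_mem _
      obtain ⟨s, hs, -⟩ := exists_mq (j := 0) (l := 0) (by omega) hi (by omega) (by omega)
      refine le_pj (i := i) (by omega) (C.nΓ.eq hs ▸ ⟨α (s⁻¹ * Pres.cc n i * s), (zpowers_le (H := comap α Γ)).2 C.cc
        (mem_cc (by omega) fun m hm => ?_), by simp [mul_assoc]⟩)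
      have := hs m
      rw [coe_mul, coe_mul, Perm.mul_apply, Perm.mul_apply, show (Pres.cc n i).1 (s.1 m) = s.1 m from
        Fin.ext (by rw [cc_val hi]; grind)]
      simp)))
  rw [this, Nat.sub_add_cancel (by omega)] at g
  exact ⟨fun x => g.inj x trivial, le_antisymm (by rintro _ ⟨x, rfl⟩; exact g.mem x trivial) fun y hy =>
    let ⟨x, _, e⟩ := g.ex y hy; ⟨x, e⟩⟩

end Core

end Cfsg.Lib.Pres
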