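import Cfsg.Agent.Lib.Pres.SUb
import Cfsg.Agent.Lib.Phan.Start

/-!
Construction of the Phan system from a lift of `SU₃` or `SU₄` and of the alternating group.
-/

set_option autoImplicit false

namespace Cfsg.Lib.Pres

open Equiv Subgroup Cfsg.Lib.Forms Cfsg.Lib.Forms.Form Cfsg.Lib.Phan

universe u

variable {n i j k l m : ℕ} {s : alternatingGroup (Fin n)}
  {F : Type*} [Field F] {σ : F →+* F} {q : ℕ} {h : IsConj σ q} {V : Type u} [AddCommGroup V] [Module F V]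
  {D : Form h.kind V} {e : ℕ → V} {Q : Type*} [Group Q] {π : Q →* D.isom} {α : alternatingGroup (Fin n) →* Q}
  {Δ : Subgroup Q} {X : Set Q}

variable (e π Δ) in
/-- The part of `Δ` over the first `k` coordinates. -/
noncomputable abbrev lv (k : ℕ) : Subgroup Q := Δ ⊓ (SUb D (sp F e 0 k)).comap π

variable (e π α Δ) in
/-- A lift of `SU_m` and of the alternating group. -/
structure Pre (m : ℕ) : Prop where
  hD : D.Nondeg
  hO : OnS D e n
  hn : 4 ≤ n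
  hm : 3 ≤ m
  pm : Pm e (π.comp α)
  g : Gr π Δ (SUb D (sp F e 0 m))
  cc : α (cc n 0) ∈ Δ

namespace Pre

variable [FiniteDimensional F V]

section

variable (C : Pre e π α Δ m)
include C

omit [FiniteDimensional F V] in
theorem gr (hk : k ≤ m) : Gr π (lv e π Δ k) (SUb D (sp F e 0 k)) := C.g.inf (SUb_mono (sp_mono e le_rfl hk))

omit [FiniteDimensional F V] in
theorem le_cl (hX : X ⊆ Δ) (gen : SUb D (sp F e 0 k) ≤ closure (π '' X)) : lv e π Δ k ≤ closure X := fun y hy => by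
  obtain ⟨x, hx, e⟩ := (MonoidHom.map_closure π X).ge (gen hy.2)
  exact C.g.eq ((closure_le _).2 hX hx) hy.1 e ▸ hx

theorem nrm (hk : k ≤ n) (hs : Mq s 0 k 0) (hX : lv e π Δ k ≤ closure X) (H : ∀ x ∈ X, α s * x * (α s)⁻¹ ∈ Δ) :
    α s ∈ normalizer (lv e π Δ k : Set Q) := by
  have := (C.hO.card C.hD (i := 0) (m := k) (by omega)).1
  have : Finite (lv e π Δ k) := Finite.of_injective (β := SUb D (sp F e 0 (0 + k)))
    (fun x => ⟨π x, by simpa using x.2.2⟩) fun x y e => Subtype.ext (C.g.eq x.2.1 y.2.1 (congrArg Subtype.val e))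
  exact mem_normalizer_fintype fun x hx => ⟨(closure_le (Δ.comap (MulAut.conj (α s)).toMonoidHom)).2 H (hX hx), by
    simpa using C.pm.conj C.hO hs (by omega) (by omega) (g := π x) (by simpa using hx.2)⟩

omit [FiniteDimensional F V] in
theorem cc_mem : α (Pres.cc n 0) ∈ lv e π Δ 3 :=
  ⟨C.cc, C.pm.mem' C.hO (by have := C.hn; omega) fun m _ => Fin.ext (by rw [cc_val (by have := C.hn; omega)]; grind)⟩

theorem nrm3 (hX : lv e π Δ 3 ≤ closure (insert (α (Pres.cc n 0)) X)) (hs : Mq s 0 3 0)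
    (H : ∀ x ∈ X, α s * x * (α s)⁻¹ ∈ Δ) : α s ∈ normalizer (lv e π Δ 3 : Set Q) := by
  have hn := C.hn
  refine C.nrm (by omega) hs hX (Set.forall_mem_insert.2 ⟨?_, H⟩)
  rw [← map_inv, ← map_mul, ← map_mul]
  refine (zpowers_le (H := Δ.comap α)).2 C.cc (mem_cc (by omega) fun m hm => ?_)
  have := hs.inv m
  rw [coe_mul, coe_mul, Perm.mul_apply, Perm.mul_apply, show (Pres.cc n 0).1 (s⁻¹.1 m) = s⁻¹.1 m from
    Fin.ext (by rw [cc_val (by omega)]; grind)]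
  simp

omit [FiniteDimensional F V] in
theorem nrm3' (H : ∀ s, Mq s 0 2 0 → (∀ m : Fin n, 2 ≤ (m : ℕ) → (m : ℕ) < 3 → s.1 m = m) →
    α s ∈ normalizer (lv e π Δ 3 : Set Q)) : Nrm α (lv e π Δ 3) 3 := fun s hs => by
  obtain ⟨c, hc, h1, h2⟩ := exists_cc (by have := C.hn; omega) hs
  have := H _ h1 fun m _ _ => Fin.ext (by have := h2 m; omega)
  rwa [map_mul, mul_mem_cancel_left (le_normalizer (show α c ∈ lv e π Δ 3 from
    (zpowers_le (H := comap α (lv e π Δ 3))).2 C.cc_mem hc))] at this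

theorem coreA (hq : 3 ≤ q) (N : Nrm α (lv e π Δ 2) 2) (cm : Cm (lv e π Δ 2) (orb α (lv e π Δ 2) 2 2)) :
    Core e π α (lv e π Δ 2) (lv e π Δ 3) := by
  have hn := C.hn
  have hm := C.hm
  refine ⟨C.hO, hn, C.pm, C.gr (by omega), C.gr hm, inf_le_inf_left _ (comap_mono (SUb_mono (sp_mono e le_rfl (by omega)))),
    N, C.nrm3' fun s h1 h2 => C.nrm3 (X := lv e π Δ 2) (C.le_cl (Set.insert_subset C.cc fun _ h => h.1) ?_)
      (fun m => by have := h1 m; have := h2 m; have := fun e : s.1 (s.1 m) = s.1 m => s.1.injective e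
                   have := h2 (s.1 m); grind)
      fun x hx => ((mem_normalizer_iff.1 (N s h1) x).1 hx).1, cm, C.cc_mem⟩
  refine gen C.hD (C.hO.nd (by omega)) (.inr ⟨by rw [C.hO.finrank_eq (by omega)], hq⟩) (mem_sp e (k := 2) (by omega) (by omega))
    (C.hO.unit _ (by omega)) (fun g h1 h2 => ?_) (subset_closure ⟨_, Set.mem_insert _ _, rfl⟩) C.cc_mem.2 ?_
  · obtain ⟨x, hx, rfl⟩ := (C.gr (k := 2) (by omega)).ex g ((C.hO.mem_last (by omega) (by omega) _).2 ⟨h1, h2⟩)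
    exact subset_closure ⟨x, Set.mem_insert_of_mem _ hx, rfl⟩
  · refine (congrArg _ (C.pm.app _ ⟨2, by omega⟩)).trans ?_
    rw [cc_val (by omega)]
    exact C.hO.orth _ (by omega) _ (by simp; omega) (by simp)

omit C in
theorem finA (C : Pre e π α Δ 3) (hq : 4 ≤ q) (N : Nrm α (lv e π Δ 2) 2) (cm : Cm (lv e π Δ 2) (orb α (lv e π Δ 2) 2 2))
    (gen : Δ ⊔ α.range = ⊤) : (∀ x, π x = 1 → x = 1) ∧ π.range = SUb D (sp F e 0 n) :=
  have K := C.coreA (by omega) N cm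
  K.inj (K.sys.glue3 C.hD (by omega) fun _ => K.sys.four C.hD hq)
    (fun x hx => mem_sup_left (K.nΓ.zero.ge ⟨hx, C.g.mem x hx⟩)) gen

theorem cm_fix (N : Nrm α (lv e π Δ k) k) (h2 : 2 ≤ k) (hk : k ≤ m) (hi : i + k ≤ n)
    (H : ∀ m : Fin n, i ≤ m → m < i + k → s.1 m = m) {y : Q} (hy : y ∈ orb α (lv e π Δ k) k i) : α s * y = y * α s := by
  obtain ⟨t, ht, -⟩ := exists_mq (j := 0) (l := 0) h2 hi (by omega) (by omega)
  obtain ⟨x, hx, rfl⟩ := (N.eq ht).le hy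
  have h1 : ∀ m : Fin n, (m : ℕ) < k → (t⁻¹ * s * t).1 m = m := fun m hm => by
    have := ht m
    rw [coe_mul, coe_mul, Perm.mul_apply, Perm.mul_apply, H _ (by omega) (by omega)]; simp
  have h3 := (C.gr hk).eq ((mem_normalizer_iff.1 (N _ (.of (by omega) fun m _ h => by
    rw [h1 m (by omega)]; omega)) x).1 hx) hx (by
      rw [map_mul, map_mul, map_inv, mul_inv_eq_iff_eq_mul]
      exact (C.hO.cm le_rfl le_rfl C.hD _ hx.2 _ (C.pm.mem' C.hO le_rfl fun m h => h1 m (by omega))).symm)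
  conv_rhs => rw [← h3]
  simp [mul_assoc]

theorem cmB (N3 : Nrm α (lv e π Δ 3) 3) (hX : lv e π Δ 3 ≤ closure (insert (α (Pres.cc n 0)) X))
    (N : Nrm α (lv e π Δ l) l) (h2 : 2 ≤ l) (hl : l ≤ m) (hn : 3 + l ≤ n) (hs : Mq s 0 l 3) {Y : Set Q}
    (hY : lv e π Δ l ≤ closure (Y ∪ α '' {t | ∀ m : Fin n, l ≤ m → t.1 m = m})) (hY' : Y ⊆ lv e π Δ l)
    (H : ∀ x ∈ X, ∀ y ∈ Y, α s * y * (α s)⁻¹ * x = x * (α s * y * (α s)⁻¹)) :
    Cm (lv e π Δ 3) (orb α (lv e π Δ l) l 3) := by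
  rw [N.eq hs, cm_iff, map_le_iff_le_comap]
  refine hY.trans ((closure_le _).2 (Set.union_subset (fun y hy x hx => ?_) ?_))
  · refine ((closure_le (centralizer {_})).2 (Set.insert_subset ?_ fun x hx _ e => e ▸ H x hx y hy) (hX hx) _ rfl).symm
    exact fun _ e => e ▸ (C.cm_fix N h2 hl hn (fun m _ _ => Fin.ext (by rw [cc_val (by omega)]; grind))
      ((N.eq hs).ge ⟨y, hY' hy, rfl⟩)).symm
  · rintro _ ⟨t, ht, rfl⟩ x hx
    have := C.cm_fix (s := s * t * s⁻¹) (i := 0) N3 (by omega) C.hm (by omega) (fun m _ _ => by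
      have := hs.inv m
      rw [coe_mul, coe_mul, Perm.mul_apply, Perm.mul_apply, ht _ (by omega)]; simp) (N3.zero.ge hx)
    simpa using this.symm

end

variable (C : Pre e π α Δ 4) (c1 : α (Pres.cc n 1) ∈ Δ) (N3 : Nrm α (lv e π Δ 3) 3)
include C c1 N3

theorem coreB : Core e π α (lv e π Δ 2) (lv e π Δ 3) := by
  have hn := C.hn
  have v0 := cc_val (n := n) (i := 0) (by omega)
  have v1 := cc_val (n := n) (i := 1) (by omega)
  have le : lv e π Δ 2 ≤ lv e π Δ 3 := inf_le_inf_left _ (comap_mono (SUb_mono (sp_mono e le_rfl (by omega))))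
  have a1 : ∀ s, Mq s 0 2 0 → (s.1 ⟨2, by omega⟩ : ℕ) = 2 → α s ∈ normalizer (lv e π Δ 2 : Set Q) := fun s h1 h2 =>
    C.nrm (by omega) h1 subset_closure fun x hx => ((mem_normalizer_iff.1 (N3 s (.of (by omega) fun m _ _ => by
      have := h1 m
      have : (m : ℕ) = 2 → (s.1 m : ℕ) = 2 := fun e => by rwa [show m = ⟨2, by omega⟩ from Fin.ext e]
      omega)) x).1 (le hx)).1
  have a2 : Mq (Pres.cc n 0 * Pres.cc n 1) 0 2 0 := fun m => by rw [coe_mul, Perm.mul_apply, v0, v1]; grind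
  have N : Nrm α (lv e π Δ 2) 2 := fun s hs => by
    by_cases h1 : (s.1 ⟨2, by omega⟩ : ℕ) = 2
    · exact a1 s hs h1
    have h2 := hs ⟨2, by omega⟩
    obtain ⟨t, ht⟩ := exists_map (n := n) (a := 0) (k := 4) (fun m => if m = 3 then s.1 ⟨2, by omega⟩ else m) (by omega)
      hn (by grind) (by grind)
    have h3 : Mq t 0 2 0 := .of (by omega) (by grind)
    have h4 := a1 _ ((a2.mul h3.inv).mul hs) (by
      rw [coe_mul, coe_mul, coe_mul, Perm.mul_apply, Perm.mul_apply, Perm.mul_apply, v0, v1,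
        show t⁻¹.1 (s.1 _) = ⟨3, hn⟩ from Perm.inv_eq_iff_eq.2 (Fin.ext (by have := ht ⟨3, hn⟩; grind))]; simp)
    rwa [map_mul, map_mul, map_inv, mul_mem_cancel_left (mul_mem (C.nrm (by omega) a2 subset_closure fun x hx => ?_)
      (inv_mem (a1 t h3 (by have := ht ⟨2, by omega⟩; grind))))] at h4
    rw [map_mul]
    exact mul_mem (mul_mem (mul_mem C.cc c1) hx.1) (inv_mem (mul_mem C.cc c1))
  have a3 : Mq (Pres.cc n 1 * Pres.cc n 0) 0 2 2 := fun m => by rw [coe_mul, Perm.mul_apply, v1, v0]; grind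
  refine ⟨C.hO, hn, C.pm, C.gr (k := 2) (by omega), C.gr (k := 3) (by omega), le, N, N3, ?_, C.cc_mem⟩
  rw [N.eq a3]
  rintro x hx _ ⟨y, hy, rfl⟩
  have : MulAut.conj (α (Pres.cc n 1 * Pres.cc n 0)) y ∈ Δ := by
    rw [map_mul]; exact mul_mem (mul_mem (mul_mem c1 C.cc) hy.1) (inv_mem (mul_mem c1 C.cc))
  refine C.g.eq (mul_mem hx.1 this) (mul_mem this hx.1) ?_
  rw [map_mul π, map_mul π]
  exact C.hO.cm le_rfl hn C.hD _ hx.2 _ ((C.pm.gr C.hO a3 (by omega) hn (C.gr (k := 2) (by decide))).mem _ ⟨y, hy, rfl⟩)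

theorem finB (H : 3 ≤ q ∨ Cm (lv e π Δ 3) (orb α (lv e π Δ 2) 2 3) ∧
    (6 ≤ n → Cm (lv e π Δ 3) (orb α (lv e π Δ 3) 3 3))) (gen' : Δ ⊔ α.range = ⊤) :
    (∀ x, π x = 1 → x = 1) ∧ π.range = SUb D (sp F e 0 n) := by
  have hn := C.hn
  have K := C.coreB c1 N3
  have v0 := cc_val (n := n) (i := 0) (by omega)
  have v1 := cc_val (n := n) (i := 1) (by omega)
  have a1 : Mq (Pres.cc n 0 * Pres.cc n 0 * Pres.cc n 1) 0 3 1 := .of (by omega) fun m _ _ => by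
    obtain e | e | e : (m : ℕ) = 0 ∨ (m : ℕ) = 1 ∨ (m : ℕ) = 2 := by omega
    all_goals simp [v0, v1, e]
  have a2 : orb α (lv e π Δ 3) 3 0 ⊔ orb α (lv e π Δ 3) 3 1 ≤ Δ := by
    rw [N3.zero, N3.eq a1]
    refine sup_le inf_le_left ?_
    have : α (Pres.cc n 0 * Pres.cc n 0 * Pres.cc n 1) ∈ Δ := by
      simp only [map_mul]; exact mul_mem (mul_mem C.cc C.cc) c1
    rintro _ ⟨y, hy, rfl⟩
    exact mul_mem (mul_mem this hy.1) (inv_mem this)
  have g4 : Gr π (orb α (lv e π Δ 3) 3 0 ⊔ orb α (lv e π Δ 3) 3 1) (SUb D (sp F e 0 4)) := by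
    have b1 : π.comp α (Pres.cc n 1) ∈ SUb D (sp F e 1 4) :=
      C.pm.mem' C.hO hn fun m _ => Fin.ext (by rw [v1]; grind)
    refine ⟨fun x hx => C.g.mem x (a2 hx), gen C.hD (C.hO.nd hn) (.inl (by rw [C.hO.finrank_eq hn]))
      (mem_sp e (k := 3) (by omega) (by omega)) (C.hO.unit _ hn) (K := map π _) (fun g h1 h2 => ?_)
      (map_mono le_sup_right ((K.sys.hΓ 1 hn).ex _ b1)) (SUb_mono (sp_mono e (by omega) le_rfl) b1) ?_,
      fun x hx => C.g.inj x (a2 hx)⟩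
    · exact map_mono le_sup_left ((K.sys.hΓ 0 (by omega)).ex _ ((C.hO.mem_last (by omega) hn _).2 ⟨h1, h2⟩))
    · rw [C.pm.app _ ⟨3, hn⟩, v1]
      exact C.hO.orth _ hn _ (by simp; omega) (by simp)
  refine K.inj ?_ (fun x hx => C.g.mem_of_le g4 a2 hx (C.g.mem x hx)) gen'
  rcases H with H | H
  · exact K.sys.glue3 C.hD H (K.four g4)
  exact K.sys.glue C.hD (K.four g4) (fun i j _ _ => N3.cm H.1 (by omega) (by omega) ‹_› (.inl ‹_›))
    (fun i j _ _ => (N3.cm H.1 (by omega) ‹_› (by omega) (.inr ‹_›)).symm)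
    fun i j _ _ => N3.cm (H.2 (by omega)) (by omega) (by omega) ‹_› (.inl ‹_›)

end Pre

end Cfsg.Lib.Pres
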