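import Cfsg.Agent.Lib.Pres.SUd
import Cfsg.Agent.Lib.Pres.TwoU
import Cfsg.Agent.Lib.Phan.Three
import Cfsg.Agent.Lib.Linear.PSL2Small
import Cfsg.Agent.Lib.Asch.MinNormal
import Cfsg.Agent.S2402

/-!
Generators of `SU₂` and `SU₃`.
-/

set_option autoImplicit false

namespace Cfsg.Lib.Pres

open Subgroup Cfsg.Lib.Forms Cfsg.Lib.Forms.Form Cfsg.Lib.Phan Cfsg.Lib.Linear Cfsg.Lib.Linear.EG Matrix

universe u

variable {F : Type*} [Field F] {σ : F →+* F} {q n : ℕ}

theorem gen_map {G H : Type*} [Group G] [Group H] (j : G ≃* H) {s : Set G} (h : closure s = ⊤) : closure (j '' s) = ⊤ := by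
  rw [← MulEquiv.coe_toMonoidHom, ← MonoidHom.map_closure, h, map_top_of_surjective _ j.surjective]

theorem two_su2 (h : IsConj σ q) (hq : q ≠ 3) : ∃ a b : SU 2 F q, closure {a, b} = ⊤ := by
  classical
  have := h.finite
  have := h.two_le
  obtain ⟨j⟩ := nonempty_sl2 h
  have hc := card_fix h
  suffices ∃ a b : SpecialLinearGroup (Fin 2) (σ.eqLocusField (RingHom.id F)), closure {a, b} = ⊤ from
    let ⟨a, b, e⟩ := this; ⟨_, _, Set.image_pair _ a b ▸ gen_map j.symm e⟩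
  by_cases h2 : q = 2
  · obtain ⟨k⟩ := sl2_two_equiv (hc.trans h2)
    obtain ⟨a, b, e⟩ := perm_two (Fin 3)
    exact ⟨_, _, Set.image_pair _ a b ▸ gen_map k.symm e⟩
  have := Fintype.ofFinite (σ.eqLocusField (RingHom.id F))
  obtain ⟨k, hk⟩ := IsCyclic.exists_generator (α := (σ.eqLocusField (RingHom.id F))ˣ)
  have H := Agent.S2402.result (by rw [← Nat.card_eq_fintype_card]; omega) 1 le_rfl k hk ⟨_, by simp [det_fin_two]⟩
    ⟨_, det_transvection_of_ne _ _ (by decide) _⟩ ⟨_, by simp [det_fin_two]⟩ rfl rfl rfl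
  have h3 := congrArg (map j.toMonoidHom) (su2_perfect h (by omega))
  rw [map_commutator_eq, map_top_of_surjective _ j.surjective, MonoidHom.range_eq_top.2 j.surjective] at h3
  have h4 := (Asch.commutator_sup_center le_rfl _ _).symm.trans (congrArg₂ Bracket.bracket H H)
  exact ⟨_, _, top_unique ((h4.trans h3).ge.trans (commutator_le_self _))⟩

theorem three_su3 (h : IsConj σ q) (c : SU 3 F q) (hc : c.1 0 0 + c.1 0 1 + (c.1 1 0 + c.1 1 1) ≠ 0) :
    ∃ a b : SU 3 F q, closure {c, a, b} = ⊤ := by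
  have := h.finite
  have := Fintype.ofFinite F
  by_cases hq : 3 ≤ q
  · obtain ⟨u, g, -, e⟩ := su3_gen h hq
    exact ⟨_, _, top_unique (e.ge.trans (closure_mono (Set.subset_insert _ _)))⟩
  obtain rfl : q = 2 := by have := h.two_le; omega
  have fx : ∀ x, σ x = x → x = 0 ∨ x = 1 := fun x hx => or_iff_not_imp_left.2 fun e => by simpa using (h.fixed_iff e).1 hx
  have c2 : (1 + 1 : F) = 0 := (fx _ (by simp)).resolve_right (by simp)
  obtain ⟨ω, hω⟩ := h.exists_not_fixed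
  obtain ⟨e, hO, -⟩ := exists_std h 3
  have hD := stdHerm_nondeg h (Fin 3)
  have hn : Module.finrank F (Fin 3 → F) = 3 := by simp
  generalize stdHerm h (Fin 3) = D at *
  obtain ⟨j, hj⟩ := hO.exists_equiv hD (i := 0) (m := 3) le_rfl
  have B : ∀ i < 3, ∀ j < 3, D.B (e i) (e j) = if i = j then 1 else 0 := fun i a j b => by
    split_ifs with c; exacts [c ▸ (Phan.B_self _).trans (hO.unit i a), hO.orth i a j b c]
  have he : D.Q (e 0 + e 1) = 0 := by simp [← Phan.B_self, D.B_lin, B, c2]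
  obtain ⟨d, hd⟩ := exists_isEich (z := e 2) he (by simp [D.B_lin, B])
  obtain ⟨d', hd'⟩ := exists_isEich (z := ω • e 2) he (by simp [D.B_lin, B])
  have m : ∀ {g}, g ∈ D.det.ker → g ∈ SUb D (sp F e 0 (0 + 3)) := fun hg => by
    rwa [hO.sp_top hD hn, mem_SUb_top hD]
  refine ⟨j.symm ⟨_, m (E_le_ker_det (D.eich_mem_E _ _ _ hd))⟩, j.symm ⟨_, m (E_le_ker_det (D.eich_mem_E _ _ _ hd'))⟩, ?_⟩
  refine (eq_top_iff' _).2 fun x => ?_
  refine (fun ⟨y, hy, e'⟩ => j.injective (Subtype.ext e') ▸ hy) (herm_le (H := map ((Subgroup.subtype _).comp j.toMonoidHom)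
    (closure _)) hD hn.ge he (fun z hz => mem_A.1 (show z ∈ A _ _ he from ?_)) (x := e 2) (y := e 2) (by simp [D.B_lin, B]) (by simp [D.B_lin, B])
    (by simp [B]) ⟨c, subset_closure (Set.mem_insert _ _), rfl⟩ (by
      have h0 := hj c 0
      have h1 := hj c 1
      simp only [Fin.sum_univ_three, Fin.val_zero, Fin.val_one, Fin.val_two, zero_add] at h0 h1
      simpa [h0, h1, D.B_lin, B] using hc) (j x).2.1)
  obtain ⟨a, b, t, rfl⟩ := Submodule.mem_span_triple.1 ((sp_three e 0).ge ((hO.sp_top hD hn).ge (Submodule.mem_top (x := z))))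
  obtain rfl : b = a := by simp [D.B_lin, B] at hz; linear_combination hz - a * c2
  have h0 := sub_ne_zero.2 hω
  suffices ∀ S : AddSubgroup (Fin 3 → F), e 2 ∈ S → ω • e 2 ∈ S → t • e 2 ∈ S from
    add_mem (smul_add b (e 0) (e 1) ▸ smul_mem_A b) (this _ (mem_A.2 ⟨d, hd, _, subset_closure (.inr (.inl rfl)), by simp⟩)
      (mem_A.2 ⟨d', hd', _, subset_closure (.inr (.inr rfl)), by simp⟩))
  intro S h1 h2
  have h3 : σ ((σ t - t) / (σ ω - ω)) = (σ t - t) / (σ ω - ω) := by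
    rw [map_div₀, map_sub, map_sub, h.σσ, h.σσ, ← neg_div_neg_eq, neg_sub, neg_sub]
  rw [← sub_add_cancel t ((σ t - t) / (σ ω - ω) * ω), add_smul]
  refine add_mem ?_ ?_
  · rcases fx (t - (σ t - t) / (σ ω - ω) * ω) (by rw [map_sub, map_mul, h3]; field_simp; ring) with e | e <;> simp [e, h1]
  · rcases fx _ h3 with e | e <;> simp [e, h2]

end Cfsg.Lib.Pres
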