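import Cfsg.Agent.Lib.Pres.SUe
import Cfsg.Agent.Lib.Pres.SU4s
import Cfsg.Agent.Lib.Pres.AltN
import Cfsg.Agent.Lib.Pres.SLc

/-!
Bounded presentations of the special unitary groups.
-/

set_option autoImplicit false

namespace Cfsg.Lib.Pres

open Subgroup Cfsg.Lib.Forms Cfsg.Lib.Forms.Form Cfsg.Lib.Phan Monoid

universe u

theorem Rel.prs' {J G : Type u} [Group J] [Group G] {μ : J →* G} {g r k : ℕ} {S : Subgroup G} (hJ : Prs J g r)
    (h : Rel μ k fun _ _ ν π => Function.Surjective ν → (∀ a, π a = 1 → a = 1) ∧ π.range = S) : Prs S g (r + k) :=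
  let ⟨_, _, b, c⟩ := h
  (Rel.prs hJ (h.mono le_rfl fun _ _ _ _ _ h e => (h e).1)).map (MulEquiv.subgroupCongr ((range_subtype _).symm.trans
    (c _ μ.rangeRestrict μ.range.subtype (fun _ => rfl) (fun s hs => Subtype.ext (b s hs)) μ.rangeRestrict_surjective).2))

theorem Prs.coprod0 {M : Type u} {M' : Type} [Group M] [Group M'] {g r g' r' : ℕ} (h : Prs M g r) (h' : Prs M' g' r') :
    Prs (Coprod M M') (g + g') (r + r') :=
  (h.coprod' (h'.map MulEquiv.ulift.{0, u}.symm)).map (MulEquiv.coprodCongr (.refl _) MulEquiv.ulift)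

variable {n m k g r g' r' : ℕ} {F : Type*} [Field F] {σ : F →+* F} {q : ℕ} {h : IsConj σ q} {V : Type u} [AddCommGroup V]
  [Module F V] {D : Form h.kind V} {e : ℕ → V} {P : alternatingGroup (Fin n) →* D.isom} {s : alternatingGroup (Fin n)}
  {M : Subgroup D.isom}

section

variable {Q : Type*} [Group Q] {ν : Coprod M (alternatingGroup (Fin n)) →* Q} {π : Q →* D.isom}
  (H : ∀ a, π (ν a) = Coprod.lift M.subtype P a)

theorem gen_top (hν : Function.Surjective ν) : Coprod.inl.range.map ν ⊔ (ν.comp Coprod.inr).range = ⊤ := by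
  rw [MonoidHom.range_comp, ← Subgroup.map_sup, Coprod.range_inl_sup_range_inr, map_top_of_surjective _ hν]

theorem sub_inl (x : Fin 2 → M) : (Set.range fun i => ν (.inl (x i))) ⊆ Coprod.inl.range.map ν := by
  rintro _ ⟨i, rfl⟩; exact ⟨_, ⟨_, rfl⟩, rfl⟩

include H

theorem im_inl (x : Fin 2 → M) : π '' (Set.range fun i => ν (.inl (x i))) = Set.range fun i => (x i).1 := by
  simp [← Set.range_comp', H]

theorem gr_inl : Gr π (Coprod.inl.range.map ν) M :=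
  ⟨by rintro _ ⟨_, ⟨x, rfl⟩, rfl⟩; simp [H], fun s hs => ⟨_, ⟨_, ⟨⟨s, hs⟩, rfl⟩, rfl⟩, by simp [H]⟩, by
    rintro _ ⟨_, ⟨x, rfl⟩, rfl⟩ e; rw [show x = 1 by simpa [H] using e]; simp⟩

theorem comp_inr : π.comp (ν.comp Coprod.inr) = P := by ext1; simp [H]

end

theorem rel_inr (hs : P s ∈ M) :
    Rel (Coprod.lift M.subtype P) 1 fun _ _ ν _ => ν.comp Coprod.inr s ∈ Coprod.inl.range.map ν :=
  Rel.mem ⟨_, ⟨⟨_, hs⟩, rfl⟩, by simp⟩

theorem rel_nrm (x : Fin 2 → M) (s t : alternatingGroup (Fin n)) (H : ∀ r ∈ closure {s, t}, ∀ i, P r * x i * (P r)⁻¹ ∈ M) :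
    Rel (Coprod.lift M.subtype P) 4 fun _ _ ν _ => ∀ r ∈ ({s, t} : Set _), ∀ y ∈ Set.range fun i => ν (.inl (x i)),
      ν.comp Coprod.inr r * y * (ν.comp Coprod.inr r)⁻¹ ∈ Coprod.inl.range.map ν :=
  (Rel.all fun j : Fin 2 => Rel.all fun i : Fin 2 => Rel.mem (K := Coprod.inl.range)
    (a := .inr (![s, t] j) * .inl (x i) * (Coprod.inr (![s, t] j))⁻¹)
    ⟨_, ⟨⟨_, H (![s, t] j) (subset_closure (by fin_cases j <;> simp)) i⟩, rfl⟩, by simp⟩).mono le_rfl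
    fun _ _ ν _ _ h => by
      rintro _ (rfl | rfl) _ ⟨i, rfl⟩
      exacts [by simpa only [map_mul, map_inv] using! h 0 i, by simpa only [map_mul, map_inv] using! h 1 i]

theorem rel_cm (x y : Fin 2 → M) (H : ∀ i j, P s * y j * (P s)⁻¹ * x i = x i * (P s * y j * (P s)⁻¹)) :
    Rel (Coprod.lift M.subtype P) 4 fun _ _ ν _ => ∀ a ∈ Set.range fun i => ν (.inl (x i)),
      ∀ b ∈ Set.range fun i => ν (.inl (y i)), ν.comp Coprod.inr s * b * (ν.comp Coprod.inr s)⁻¹ * a =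
        a * (ν.comp Coprod.inr s * b * (ν.comp Coprod.inr s)⁻¹) :=
  (Rel.all fun i : Fin 2 => Rel.all fun j : Fin 2 => Rel.eq
    (a := .inr s * .inl (y j) * (Coprod.inr s)⁻¹ * .inl (x i)) (b := .inl (x i) * (.inr s * .inl (y j) * (Coprod.inr s)⁻¹))
    (by simpa using H i j)).mono le_rfl fun _ _ ν _ _ h => by
      rintro _ ⟨i, rfl⟩ _ ⟨j, rfl⟩
      simpa only [map_mul, map_inv] using! h i j

variable [FiniteDimensional F V] (hD : D.Nondeg) (hO : OnS D e n) (hn : 4 ≤ n) (hP : Pm e P)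
include hD hO hn

theorem exists_two2 (hq : q ≠ 3) (hM : SUb D (sp F e 0 2) ≤ M) : ∃ x : Fin 2 → M, (∀ i, (x i).1 ∈ SUb D (sp F e 0 2)) ∧
    SUb D (sp F e 0 2) ≤ closure (Set.range fun i => (x i).1) := by
  obtain ⟨j, -⟩ := hO.exists_equiv hD (i := 0) (m := 2) (by omega)
  obtain ⟨a, b, H⟩ := two_su2 h hq
  refine ⟨fun i => ⟨j (![a, b] i), hM (j _).2⟩, fun i => (j _).2, fun y hy => ?_⟩
  have := mem_map_of_mem (Subgroup.subtype _) ((gen_map j H).ge (mem_top ⟨y, hy⟩))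
  rw [MonoidHom.map_closure] at this
  exact closure_mono (by simp [Set.image_pair, Set.insert_subset_iff]) this

include hP

theorem exists_two3 (hM : SUb D (sp F e 0 3) ≤ M) : ∃ x : Fin 2 → M, (∀ i, (x i).1 ∈ SUb D (sp F e 0 3)) ∧
    SUb D (sp F e 0 3) ≤ closure (insert (P (cc n 0)) (Set.range fun i => (x i).1)) := by
  obtain ⟨j, hj⟩ := hO.exists_equiv hD (i := 0) (m := 3) (by omega)
  have v0 := cc_val (n := n) (i := 0) (by omega)
  obtain ⟨c, hc⟩ := j.surjective ⟨P (cc n 0), hP.mem' hO (by omega) fun m _ => Fin.ext (by rw [v0]; grind)⟩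
  have B : ∀ i < 3, ∀ j < 3, D.B (e i) (e j) = if i = j then 1 else 0 := fun i a j b => by
    split_ifs with c; exacts [c ▸ (Phan.B_self _).trans (hO.unit i (by omega)), hO.orth i (by omega) j (by omega) c]
  obtain ⟨a, b, H⟩ := three_su3 h c (by
    have h0 := congrArg (D.B (e 0 + e 1)) ((hP.app _ ⟨0, by omega⟩).symm.trans (hc ▸ hj c 0))
    have h1 := congrArg (D.B (e 0 + e 1)) ((hP.app _ ⟨1, by omega⟩).symm.trans (hc ▸ hj c 1))
    simp [v0, Fin.sum_univ_three, D.B_lin, B] at h0 h1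
    rw [add_add_add_comm, ← h0, ← h1]; simp)
  refine ⟨fun i => ⟨j (![a, b] i), hM (j _).2⟩, fun i => (j _).2, fun y hy => ?_⟩
  have := mem_map_of_mem (Subgroup.subtype _) ((gen_map j H).ge (mem_top ⟨y, hy⟩))
  rw [MonoidHom.map_closure] at this
  exact closure_mono (by simp [Set.image_insert_eq, Set.insert_subset_iff, hc]) this

omit hD hn [FiniteDimensional F V] in
theorem cc_mem {i : ℕ} (hi : i + 3 ≤ m) (hm : m ≤ n) : P (cc n i) ∈ SUb D (sp F e 0 m) :=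
  hP.mem' hO hm fun _ _ => Fin.ext (by rw [cc_val (by omega)]; grind)

omit hn in
theorem cm_conj {l : ℕ} (hs : Mq s 0 l k) (hk : k + l ≤ n) {x y : D.isom} (hx : x ∈ SUb D (sp F e 0 k))
    (hy : y ∈ SUb D (sp F e 0 l)) : P s * y * (P s)⁻¹ * x = x * (P s * y * (P s)⁻¹) :=
  (hO.cm le_rfl hk hD _ hx _ (hP.conj hO hs (by omega) hk (by simpa))).symm

theorem prsA (hq : 4 ≤ q) (h1 : Prs (SUb D (sp F e 0 3)) g r) (h2 : Prs (alternatingGroup (Fin n)) g' r') :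
    Prs (SUb D (sp F e 0 n)) (g + g') (r + r' + 9) := by
  have le : SUb D (sp F e 0 2) ≤ SUb D (sp F e 0 3) := SUb_mono (sp_mono e le_rfl (by omega))
  obtain ⟨x, x1, x2⟩ := exists_two2 hD hO hn (by omega) le
  obtain ⟨s, t, s1, s2⟩ := stab_mq (n := n) le_rfl (by omega)
  obtain ⟨v, v1, -⟩ := exists_mq (n := n) (i := 2) (k := 2) (j := 0) (l := 0) le_rfl hn (by omega) (by omega)
  refine Rel.prs' (h1.coprod0 h2) ((((rel_inr (cc_mem hO hP le_rfl (by omega))).and (rel_nrm x s t fun r hr i =>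
    le (hP.conj hO (s1 r hr).1 (by omega) (by omega) (x1 i)))).and (rel_cm x x fun i j =>
      cm_conj hD hO hP v1 hn (x1 i) (x1 j))).mono le_rfl fun Q _ ν π H ⟨⟨r1, r2⟩, r3⟩ hν => ?_)
  have C : Pre e π (ν.comp Coprod.inr) _ 3 := ⟨hD, hO, hn, le_rfl, (comp_inr H).symm ▸ hP, gr_inl H, r1⟩
  have a1 := C.le_cl (sub_inl x) ((im_inl H x).symm ▸ x2)
  have N : Nrm (ν.comp Coprod.inr) (lv e π (Coprod.inl.range.map ν) 2) 2 := fun r hr =>
    (closure_le (comap (ν.comp Coprod.inr) (normalizer _))).2 (fun r hr => C.nrm (by omega) (s1 r (subset_closure hr)).1 a1 (r2 r hr))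
      (s2 r hr fun _ _ _ => by omega)
  refine C.finA hq N ?_ (gen_top hν)
  rw [N.eq v1, cm_iff, map_le_iff_le_comap]
  exact a1.trans ((closure_le _).2 fun y hy x hx =>
    ((closure_le (centralizer {_})).2 (fun x hx _ e => e ▸ r3 x hx y hy) (a1 hx) _ rfl).symm)

theorem relB : ∃ x : Fin 2 → SUb D (sp F e 0 4), (∀ i, (x i).1 ∈ SUb D (sp F e 0 3)) ∧
    Rel (Coprod.lift (SUb D (sp F e 0 4)).subtype P) 6 fun _ _ ν π => Pre e π (ν.comp Coprod.inr) (Coprod.inl.range.map ν) 4 ∧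
      ν.comp Coprod.inr (cc n 1) ∈ Coprod.inl.range.map ν ∧ Nrm (ν.comp Coprod.inr) (lv e π (Coprod.inl.range.map ν) 3) 3 ∧
      lv e π (Coprod.inl.range.map ν) 3 ≤ closure (insert (ν.comp Coprod.inr (cc n 0)) (Set.range fun i => ν (.inl (x i)))) := by
  have le : SUb D (sp F e 0 3) ≤ SUb D (sp F e 0 4) := SUb_mono (sp_mono e le_rfl (by omega))
  obtain ⟨x, x1, x2⟩ := exists_two3 hD hO hn hP le
  obtain ⟨s, t, s1, s2⟩ := stab_mq (n := n) (k := 3) (by omega) (by omega)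
  have s3 : ∀ r ∈ closure {s, t}, Mq r 0 3 0 := fun r hr => .of (by omega) fun m _ _ => by
    have := (s1 r hr).1 m; have := (s1 r hr).2 m; grind
  refine ⟨x, x1, (((rel_inr (cc_mem hO hP (i := 0) (by omega) hn)).and (rel_inr (cc_mem hO hP (i := 1) le_rfl hn))).and
    (rel_nrm x s t fun r hr i => le (hP.conj hO (s3 r hr) (by omega) (by omega) (x1 i)))).mono le_rfl
    fun Q _ ν π H ⟨⟨r1, r2⟩, r3⟩ => ?_⟩
  have C : Pre e π (ν.comp Coprod.inr) _ 4 := ⟨hD, hO, hn, by omega, (comp_inr H).symm ▸ hP, gr_inl H, r1⟩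
  have a1 := C.le_cl (k := 3) (Set.insert_subset r1 (sub_inl x)) (by
    rwa [Set.image_insert_eq, im_inl H, ← MonoidHom.comp_apply, comp_inr H])
  exact ⟨C, r2, C.nrm3' fun r h1 h2 => (closure_le (comap (ν.comp Coprod.inr) (normalizer _))).2
    (fun r hr => C.nrm3 a1 (s3 r (subset_closure hr)) (r3 r hr)) (s2 r h1 h2), a1⟩

theorem prsB (hq : 3 ≤ q) (h1 : Prs (SUb D (sp F e 0 4)) g r) (h2 : Prs (alternatingGroup (Fin n)) g' r') :
    Prs (SUb D (sp F e 0 n)) (g + g') (r + r' + 6) :=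
  let ⟨_, _, H⟩ := relB hD hO hn hP
  Rel.prs' (h1.coprod0 h2) (H.mono le_rfl fun _ _ _ _ _ ⟨C, c1, N, _⟩ hν => C.finB c1 N (.inl hq) (gen_top hν))

theorem prsC (hq : q ≠ 3) (h5 : 5 ≤ n) (h1 : Prs (SUb D (sp F e 0 4)) g r) (h2 : Prs (alternatingGroup (Fin n)) g' r') :
    Prs (SUb D (sp F e 0 n)) (g + g') (r + r' + 10) := by
  obtain ⟨x, x1, H⟩ := relB hD hO hn hP
  by_cases h6 : 6 ≤ n
  · obtain ⟨v, v1, -⟩ := exists_mq (n := n) (i := 3) (k := 3) (j := 0) (l := 0) (by omega) h6 (by omega) (by omega)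
    refine Rel.prs' (h1.coprod0 h2) ((H.and (rel_cm x x fun i j => cm_conj hD hO hP v1 h6 (x1 i) (x1 j))).mono le_rfl
      fun Q _ ν π E ⟨⟨C, c1, N, a1⟩, r⟩ hν => ?_)
    have := C.cmB N a1 N (by omega) (by omega) h6 v1 (a1.trans (closure_mono (Set.insert_subset (.inr ⟨_, fun m _ =>
      Fin.ext (by rw [cc_val (by omega)]; grind), rfl⟩) Set.subset_union_left))) (by
        rintro _ ⟨i, rfl⟩; exact ⟨sub_inl x ⟨i, rfl⟩, by simpa [E] using x1 i⟩) r
    exact C.finB c1 N (.inr ⟨this.mono le_rfl ((C.coreB c1 N).sys.le1 3 h6), fun _ => this⟩) (gen_top hν)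
  obtain ⟨y, y1, y2⟩ := exists_two2 hD hO hn hq (SUb_mono (sp_mono e le_rfl (show 2 ≤ 4 by omega)))
  obtain ⟨v, v1, -⟩ := exists_mq (n := n) (i := 3) (k := 2) (j := 0) (l := 0) le_rfl h5 (by omega) (by omega)
  refine Rel.prs' (h1.coprod0 h2) ((H.and (rel_cm x y fun i j => cm_conj hD hO hP v1 h5 (x1 i) (y1 j))).mono le_rfl
    fun Q _ ν π E ⟨⟨C, c1, N, a1⟩, r⟩ hν => C.finB c1 N (.inr ⟨?_, fun h => absurd h h6⟩) (gen_top hν))
  exact C.cmB N a1 (C.coreB c1 N).nΛ le_rfl (by omega) h5 v1 ((C.le_cl (sub_inl y) ((im_inl E y).symm ▸ y2)).trans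
    (closure_mono Set.subset_union_left)) (by rintro _ ⟨i, rfl⟩; exact ⟨sub_inl y ⟨i, rfl⟩, by simpa [E] using y1 i⟩) r

omit hD hO hn hP [FiniteDimensional F V]

theorem prs_SU [Fintype F] (hF : Fintype.card F = q ^ 2) (hn : 4 ≤ n) :
    Prs (SU n F q) 6 39 ∧ (n ≤ 5 → Prs (SU n F q) 6 35) := by
  obtain ⟨σ, h⟩ := isConj_of_card hF
  obtain ⟨e, hO, -⟩ := exists_std h n
  have hD := stdHerm_nondeg h (Fin n)
  obtain ⟨P, hP⟩ := exists_pm hD hO
  obtain ⟨j3, -⟩ := hO.exists_equiv hD (i := 0) (m := 3) (by omega)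
  obtain ⟨j4, -⟩ := hO.exists_equiv hD (i := 0) (m := 4) (by omega)
  obtain ⟨j, -⟩ := hO.exists_equiv hD (i := 0) (m := n) (by omega)
  rw [zero_add] at j
  have key : ∀ r, Prs (alternatingGroup (Fin n)) 2 r → Prs (SU n F q) 6 (r + 32) :=
    fun r H => by
      obtain rfl | rfl | hq : q = 2 ∨ q = 3 ∨ 4 ≤ q := by have := h.two_le; omega
      · rcases hn.eq_or_lt with rfl | h5
        · exact (prs_su42 hF).le (by omega) (by omega)
        exact ((prsC hD hO hn hP (by omega) h5 ((prs_su42 hF).map j4) H).map j.symm).le (by omega) (by omega)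
      · exact ((prsB hD hO hn hP le_rfl ((prs_su43 hF).map j4) H).map j.symm).le (by omega) (by omega)
      · exact ((prsA hD hO hn hP hq ((prs_SU_three h (by omega)).map j3) H).map j.symm).le (by omega) (by omega)
  have h5 : n ≤ 5 → Prs (SU n F q) 6 35 := fun h5 => by
    obtain rfl | rfl : n = 4 ∨ n = 5 := by omega
    exacts [key 3 prs_A4, key 3 prs_A5]
  by_cases h6 : n ≤ 5
  exacts [⟨(h5 h6).mono (by omega), h5⟩, ⟨(key 6 (prs_alt_sym (by omega)).1).mono (by omega), h5⟩]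

end Cfsg.Lib.Pres
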