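import Cfsg.Agent.Lib.Pres.Rel
import Cfsg.Agent.Lib.Forms.Symp

/-!
Covers of symplectic groups: pointwise stabilizers, and the graph of non-orthogonal vectors.
-/

set_option autoImplicit false

namespace Cfsg.Lib.Pres.Slim

open Subgroup Cfsg.Lib.Forms Form Symp

variable {F : Type*} [Field F] {V : Type*} [AddCommGroup V] [Module F V] (D : Form (altKind F) V)

/-- The pointwise stabilizer of a set of vectors. -/
def fx (A : Set V) : Subgroup D.isom where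
  carrier := {g | ∀ a ∈ A, g.1 a = a}
  mul_mem' h h' a ha := by rw [isom_mul_apply, h' a ha, h a ha]
  one_mem' _ _ := rfl
  inv_mem' h a ha := isom_inv_apply_eq.2 (h a ha)

/-- The orthogonal complement of a set of vectors. -/
def pp (A : Set V) : Submodule F V where
  carrier := {v | ∀ a ∈ A, D.B a v = 0}
  add_mem' h h' a ha := by rw [D.B_add_right, h a ha, h' a ha, add_zero]
  zero_mem' a _ := D.B_zero_right a
  smul_mem' c v h a ha := by rw [D.B_smul_right, h a ha, mul_zero]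

/-- The orthogonal complement of `A` is non-degenerate. -/
def ND (A : Set V) : Prop := ∀ v ∈ pp D A, v ≠ 0 → ∃ u ∈ pp D A, D.B v u ≠ 0

variable {D} {A A' : Set V} {a b c e f v w : V} {g : D.isom}

theorem fx_anti (h : A ⊆ A') : fx D A' ≤ fx D A := fun _ hg a ha => hg a (h ha)

theorem pp_anti (h : A ⊆ A') : pp D A' ≤ pp D A := fun _ hg a ha => hg a (h ha)

theorem fx_ins : g ∈ fx D (insert a A) ↔ g.1 a = a ∧ g ∈ fx D A := Set.forall_mem_insert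

theorem pp_ins : v ∈ pp D (insert a A) ↔ D.B a v = 0 ∧ v ∈ pp D A := Set.forall_mem_insert

theorem fx_pp (hg : g ∈ fx D A) (hv : v ∈ pp D A) : g.1 v ∈ pp D A := fun a ha => by
  rw [← hg a ha, B_isom, hv a ha]

theorem tv_mem (h : v ∈ pp D A) (t : F) : Symp.tv D v t ∈ fx D A := fun a ha => by
  rw [Symp.tv_apply, B_symm, h a ha]; simp

theorem eich_mem (he : e ∈ pp D A) (hv : v ∈ pp D A) {d : F} (h : D.IsEich e v d) :
    D.eich e v d h ∈ fx D A := fun a ha =>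
  D.eich_apply_of_perp_perp h (by rw [B_symm, he a ha, neg_zero]) (by rw [B_symm, hv a ha, neg_zero])

theorem ND.two (h : ND D A) (ha : a ∈ pp D A) (hb : b ∈ pp D A) (a0 : a ≠ 0) (b0 : b ≠ 0) :
    ∃ u ∈ pp D A, D.B a u ≠ 0 ∧ D.B b u ≠ 0 := by
  obtain ⟨u, hu, h1⟩ := h a ha a0
  obtain ⟨v, hv, h2⟩ := h b hb b0
  by_cases h3 : D.B b u = 0
  · by_cases h4 : D.B a v = 0
    · exact ⟨u + v, add_mem hu hv, by simpa [D.B_add_right, h4], by simpa [D.B_add_right, h3]⟩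
    · exact ⟨v, hv, h4, h2⟩
  · exact ⟨u, hu, h1, h3⟩

theorem ND.three (hF : ∃ t : F, t ≠ 0 ∧ t ≠ 1) (h : ND D A) (ha : a ∈ pp D A) (hb : b ∈ pp D A)
    (hc : c ∈ pp D A) (a0 : a ≠ 0) (b0 : b ≠ 0) (c0 : c ≠ 0) :
    ∃ u ∈ pp D A, D.B a u ≠ 0 ∧ D.B b u ≠ 0 ∧ D.B c u ≠ 0 := by
  obtain ⟨t, t0, t1⟩ := hF
  obtain ⟨u, hu, h1, h2⟩ := h.two ha hb a0 b0
  obtain ⟨v, hv, h3⟩ := h c hc c0
  by_cases h4 : D.B c u = 0
  swap; · exact ⟨u, hu, h1, h2, h4⟩
  by_cases h5 : D.B a v ≠ 0 ∧ D.B b v ≠ 0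
  · exact ⟨v, hv, h5.1, h5.2, h3⟩
  by_cases h6 : D.B a (u + v) ≠ 0 ∧ D.B b (u + v) ≠ 0
  · exact ⟨u + v, add_mem hu hv, h6.1, h6.2, by simpa [D.B_add_right, h4]⟩
  refine ⟨u + t • v, add_mem hu (Submodule.smul_mem _ _ hv), ?_, ?_,
    by simp [D.B_add_right, D.B_smul_right, h4, t0, h3]⟩ <;>
  simp only [D.B_add_right, D.B_smul_right, not_and_or, not_not] at * <;> grind

theorem map_one' (ha : a ∈ pp D A) (hb : b ∈ pp D A) (h : D.B b a ≠ 0) : ∃ g ∈ fx D A, g.1 a = b :=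
  ⟨_, tv_mem (sub_mem hb ha) (D.B b a)⁻¹, by
    rw [Symp.tv_apply, D.B_sub_left, Symp.B_self, sub_zero, inv_mul_cancel₀ h]; simp⟩

theorem ND.tr (h : ND D A) (ha : a ∈ pp D A) (hb : b ∈ pp D A) (a0 : a ≠ 0) (b0 : b ≠ 0) :
    ∃ g ∈ fx D A, g.1 a = b := by
  obtain ⟨u, hu, h1, h2⟩ := h.two ha hb a0 b0
  obtain ⟨g, hg, e⟩ := map_one' ha hu (by rwa [B_symm, neg_ne_zero])
  obtain ⟨g', hg', e'⟩ := map_one' hu hb h2
  exact ⟨g' * g, mul_mem hg' hg, by rw [isom_mul_apply, e, e']⟩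

theorem ei (he : e ∈ pp D A) (hf : f ∈ pp D A) (hw : w ∈ pp D A) (h : D.B e w = D.B e f)
    (h0 : D.B e f ≠ 0) : ∃ g ∈ fx D (insert e A), g.1 f = w := by
  have hz : D.B e ((D.B e f)⁻¹ • (w - f)) = 0 := by rw [D.B_smul_right, D.B_sub_right, h]; simp
  refine ⟨D.eich e _ (-(D.B ((D.B e f)⁻¹ • (w - f)) f * (D.B e f)⁻¹)) (isEich hz _),
    eich_mem (pp_ins.2 ⟨Symp.B_self _ _, he⟩) (pp_ins.2 ⟨hz, Submodule.smul_mem _ _ (sub_mem hw hf)⟩) _, ?_⟩
  rw [eich_apply, altKind_ε]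
  generalize D.B ((D.B e f)⁻¹ • (w - f)) f = s
  match_scalars <;> field_simp <;> ring

theorem ne_of_B (h : D.B a b ≠ 0) : a ≠ 0 := fun e => h (by rw [e, D.B_zero_left])

theorem ND.tr2 (h : ND D A) (ha : a ∈ pp D A) (hb : b ∈ pp D A) (hv : v ∈ pp D A) (hw : w ∈ pp D A)
    (h0 : D.B a b ≠ 0) (h1 : D.B v w = D.B a b) : ∃ g ∈ fx D A, g.1 a = v ∧ g.1 b = w := by
  obtain ⟨g, hg, e⟩ := h.tr ha hv (ne_of_B h0) (ne_of_B (h1 ▸ h0))
  obtain ⟨g', hg', e'⟩ := ei hv (fx_pp hg hb) hw (by rw [h1, ← e, B_isom]) (by rwa [← e, B_isom])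
  exact ⟨g' * g, mul_mem (fx_ins.1 hg').2 hg, by rw [isom_mul_apply, e, (fx_ins.1 hg').1],
    by rw [isom_mul_apply, e']⟩

variable {Q : Type*} [Group Q] (π : Q →* D.isom)

theorem mem_of_inj {K K' : Subgroup Q} {G : Type*} [Group G] {π : Q →* G} (h : InjO π K) (hK : K' ≤ K)
    {x : Q} (hx : x ∈ K) (h' : π x ∈ K'.map π) : x ∈ K' :=
  let ⟨y, hy, e⟩ := h'; h.eq (hK hy) hx e ▸ hy

theorem comm_of_inj {K : Subgroup Q} {G : Type*} [Group G] {π : Q →* G} (h : InjO π K) {x y : Q}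
    (hx : x ∈ K) (hy : y ∈ K) (h' : Commute (π x) (π y)) : Commute x y :=
  h.eq (mul_mem hx hy) (mul_mem hy hx) (by rw [map_mul, map_mul, h'.eq])

/-- The data of the step from the stabilizer of a vector to the whole group. -/
structure GS (A A₂ : Set V) (e f e' : V) (P S M : Subgroup Q) : Prop where
  sub : A ⊆ A₂
  he : e ∈ pp D (insert e' A₂)
  hf : f ∈ pp D (insert e' A₂)
  ef : D.B e f = 1
  he' : e' ∈ pp D A₂
  ne : e' ≠ 0
  nd : ND D A
  nd' : ND D (insert f (insert e A))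
  iP : InjO π P
  mP : P.map π = fx D (insert e A)
  iR : InjO π (M ⊔ S)
  mM : M.map π = fx D (insert e (insert e' A₂))
  MP : M ≤ P
  mS : S.map π ≤ fx D (insert e' A₂)
  ex : ∀ c : F, c ≠ 0 → ∃ s ∈ S, (π s).1 e = c • f
  cm : ∀ b ∈ P, (π b).1 f = f → ∀ s ∈ S, Commute b s
  nz : ∀ s ∈ S, D.B e ((π s).1 e) = 0 → D.B f ((π s).1 e) ≠ 0

/-- Adjacency of cosets of `P`. -/
def Ad (e f : V) (P S : Subgroup Q) (x y : Q) : Prop :=
  ∃ b ∈ P, ∃ s ∈ S, ∃ b' ∈ P, ∃ c : F, c ≠ 0 ∧ (π s).1 e = c • f ∧ y = x * b * s * b'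

variable {π} {A₂ : Set V} {e' : V} {P S M : Subgroup Q} {x y z : Q}

theorem Ad.left (h : Ad π e f P S x y) (g : Q) : Ad π e f P S (g * x) (g * y) :=
  let ⟨b, hb, s, hs, b', hb', c, hc, e1, e2⟩ := h
  ⟨b, hb, s, hs, b', hb', c, hc, e1, by rw [e2]; group⟩

theorem Ad.right (h : Ad π e f P S x y) {p q : Q} (hp : p ∈ P) (hq : q ∈ P) :
    Ad π e f P S (x * p) (y * q) :=
  let ⟨b, hb, s, hs, b', hb', c, hc, e1, e2⟩ := h
  ⟨_, mul_mem (inv_mem hp) hb, s, hs, _, mul_mem hb' hq, c, hc, e1, by rw [e2]; group⟩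

theorem Ad.mem (h : Ad π e f P S x y) (hx : x ∈ P ⊔ S) : y ∈ P ⊔ S := by
  obtain ⟨b, hb, s, hs, b', hb', c, hc, e1, rfl⟩ := h
  exact mul_mem (mul_mem (mul_mem hx (mem_sup_left hb)) (mem_sup_right hs)) (mem_sup_left hb')

namespace GS

variable (T : GS π A A₂ e f e' P S M)
include T

theorem sub' : A ⊆ insert e' A₂ := T.sub.trans (Set.subset_insert _ _)

theorem fix (h : x ∈ P) : (π x).1 e = e := (fx_ins.1 (T.mP.le (mem_map_of_mem π h))).1

theorem mR (h : x ∈ M ⊔ S) : π x ∈ fx D (insert e' A₂) :=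
  (sup_le (map_le_iff_le_comap.1 (T.mM.le.trans (fx_anti (Set.subset_insert _ _))))
    (map_le_iff_le_comap.1 T.mS) :) h

theorem mG (h : x ∈ P ⊔ S) : π x ∈ fx D A :=
  (sup_le (map_le_iff_le_comap.1 (T.mP.le.trans (fx_anti (Set.subset_insert _ _))))
    (map_le_iff_le_comap.1 (T.mS.trans (fx_anti T.sub'))) :) h

theorem memM (h : x ∈ M ⊔ S) (h' : (π x).1 e = e) : x ∈ M :=
  mem_of_inj T.iR le_sup_left h (T.mM ▸ fx_ins.2 ⟨h', T.mR h⟩)

theorem ex_ms (hw : w ∈ pp D (insert e' A₂)) (h : D.B e w ≠ 0) :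
    ∃ m ∈ M, ∃ s ∈ S, (π s).1 e = D.B e w • f ∧ (π (m * s)).1 e = w := by
  obtain ⟨g, hg, e1⟩ := ei T.he (Submodule.smul_mem _ (D.B e w) T.hf) hw
    (by rw [D.B_smul_right, T.ef, mul_one]) (by rwa [D.B_smul_right, T.ef, mul_one])
  obtain ⟨m, hm, rfl⟩ := T.mM.ge hg
  obtain ⟨s, hs, e2⟩ := T.ex _ h
  exact ⟨m, hm, s, hs, e2, by rw [map_mul, isom_mul_apply, e2, e1]⟩

theorem loc (h : x ∈ M ⊔ S) (h' : D.B e ((π x).1 e) ≠ 0) : Ad π e f P S 1 x := by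
  obtain ⟨m, hm, s, hs, e1, e2⟩ := T.ex_ms (fx_pp (T.mR h) T.he) h'
  exact ⟨m, T.MP hm, s, hs, (m * s)⁻¹ * x, T.MP (T.memM (mul_mem (inv_mem (mul_mem_sup hm hs)) h)
    (by rw [map_mul, isom_mul_apply, map_inv, isom_inv_apply_eq, e2])), _, h', e1, by group⟩

theorem ad_ne (h : Ad π e f P S x y) : D.B ((π x).1 e) ((π y).1 e) ≠ 0 := by
  obtain ⟨b, hb, s, hs, b', hb', c, hc, e1, rfl⟩ := h
  simp only [map_mul, isom_mul_apply, T.fix hb', B_isom, e1]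
  rw [← T.fix hb, B_isom, D.B_smul_right, T.ef, mul_one]
  exact hc

theorem ex_ad (hx : x ∈ P ⊔ S) (ha : a ∈ pp D A) (h : D.B ((π x).1 e) a ≠ 0) :
    ∃ y, Ad π e f P S x y ∧ (π y).1 e = a := by
  rw [B_isom_left] at h
  obtain ⟨g, hg, e1⟩ := ei (pp_anti T.sub' T.he) (Submodule.smul_mem _ _ (pp_anti T.sub' T.hf))
    (fx_pp (inv_mem (T.mG hx)) ha) (by rw [D.B_smul_right, T.ef, mul_one])
    (by rwa [D.B_smul_right, T.ef, mul_one])
  obtain ⟨m, hm, rfl⟩ := T.mP.ge hg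
  obtain ⟨s, hs, e2⟩ := T.ex _ h
  exact ⟨x * m * s * 1, ⟨m, hm, s, hs, 1, one_mem _, _, h, e2, rfl⟩, by
    simp only [map_mul, isom_mul_apply, mul_one, e2, e1, isom_apply_inv]⟩

theorem uniq (h : Ad π e f P S x y) (h' : Ad π e f P S x z) (e0 : (π y).1 e = (π z).1 e) : y⁻¹ * z ∈ P := by
  obtain ⟨b, hb, s, hs, b', hb', c, hc, e1, rfl⟩ := h
  obtain ⟨d, hd, t, ht, d', hd', c', hc', e2, rfl⟩ := h'
  simp only [map_mul, isom_mul_apply, T.fix hb', T.fix hd', e1, e2, EmbeddingLike.apply_eq_iff_eq] at e0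
  obtain rfl : c = c' := by
    have := congrArg (D.B e) e0
    nth_rw 1 [← T.fix hb] at this
    nth_rw 2 [← T.fix hd] at this
    simpa [D.B_smul_right, T.ef] using this
  have h1 := T.cm _ (mul_mem (inv_mem hb) hd) (by
    rw [map_mul, isom_mul_apply, map_inv, isom_inv_apply_eq]
    simpa [map_smul, smul_right_inj hc] using e0) _ (inv_mem hs)
  have h2 := T.MP (T.memM (mem_sup_right (mul_mem (inv_mem hs) ht)) (by
    rw [map_mul, isom_mul_apply, map_inv, isom_inv_apply_eq, e1, e2]))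
  convert mul_mem (mul_mem (mul_mem (inv_mem hb') (mul_mem (inv_mem hb) hd)) h2) hd' using 1
  rw [mul_assoc b'⁻¹, ← mul_assoc (b⁻¹ * d), h1.eq]; group

theorem symm (h : Ad π e f P S x y) : Ad π e f P S y x := by
  obtain ⟨b, hb, s, hs, b', hb', c, hc, e1, rfl⟩ := h
  have := ((T.loc (mem_sup_right (inv_mem hs)) (by
    rw [map_inv, ← B_isom_left, e1, D.B_smul_left, B_symm, T.ef]; simpa)).left (x * b * s)).right hb' (inv_mem hb)
  simpa using this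

theorem tri (hx : x ∈ P ⊔ S) (h : Ad π e f P S x y) (h' : Ad π e f P S x z)
    (h0 : D.B ((π y).1 e) ((π z).1 e) ≠ 0) : Ad π e f P S y z := by
  obtain ⟨b, hb, s, hs, b', hb', c, hc, e1, rfl⟩ := h
  obtain ⟨z, rfl⟩ : ∃ z', z = x * b * z' := ⟨(x * b)⁻¹ * z, by group⟩
  replace h' : Ad π e f P S 1 z := by
    simpa [mul_assoc] using (h'.left (x * b)⁻¹).right hb (one_mem _)
  simp only [map_mul, isom_mul_apply, T.fix hb', B_isom] at h0
  suffices Ad π e f P S s z by simpa [mul_assoc] using (this.left (x * b)).right hb' (one_mem _)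
  have hz := h'.mem (one_mem _)
  have he := pp_anti T.sub' T.he
  have hf := pp_anti T.sub' T.hf
  have hw := fx_pp (T.mG hz) he
  have h1 := T.ad_ne h'
  rw [map_one, isom_one_apply] at h1
  obtain ⟨k, hk, hkf, hu⟩ : ∃ k ∈ P, (π k).1 f = f ∧ (π (k * z)).1 e ∈ pp D (insert e' A₂) := by
    set w := (π z).1 e
    have hu : w - D.B e w • f + D.B f w • e ∈ pp D (insert f (insert e A)) := by
      refine pp_ins.2 ⟨?_, pp_ins.2 ⟨?_, add_mem (sub_mem hw (Submodule.smul_mem _ _ hf))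
        (Submodule.smul_mem _ _ he)⟩⟩ <;>
      simp [D.B_add_right, D.B_sub_right, D.B_smul_right, Symp.B_self, T.ef, B_symm D e f]
    by_cases u0 : w - D.B e w • f + D.B f w • e = 0
    · refine ⟨1, one_mem _, by simp [isom_one_apply], ?_⟩
      rw [one_mul, show (π z).1 e = D.B e w • f - D.B f w • e by
        rw [← sub_eq_zero, ← u0]; abel]
      exact sub_mem (Submodule.smul_mem _ _ T.hf) (Submodule.smul_mem _ _ T.he)
    · obtain ⟨g, hg, e2⟩ := T.nd'.tr hu (pp_ins.2 ⟨by rw [B_symm, (pp_ins.1 T.hf).1, neg_zero],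
        pp_ins.2 ⟨by rw [B_symm, (pp_ins.1 T.he).1, neg_zero], pp_anti T.sub T.he'⟩⟩) u0 T.ne
      obtain ⟨k, hk, rfl⟩ := T.mP.ge (fx_ins.1 hg).2
      refine ⟨k, hk, (fx_ins.1 hg).1, ?_⟩
      simp only [map_add, map_sub, map_smul, (fx_ins.1 hg).1, T.fix hk] at e2
      rw [map_mul, isom_mul_apply, show (π k).1 w = e' + D.B e w • f - D.B f w • e by rw [← e2]; abel]
      exact sub_mem (add_mem (pp_ins.2 ⟨Symp.B_self _ _, T.he'⟩) (Submodule.smul_mem _ _ T.hf))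
        (Submodule.smul_mem _ _ T.he)
  have h2 : Ad π e f P S 1 (k * z) := by simpa using (h'.left k).right (inv_mem hk) (one_mem _)
  have h3 := T.ad_ne h2
  rw [map_one, isom_one_apply] at h3
  obtain ⟨m, hm, t, ht, e2, e3⟩ := T.ex_ms hu h3
  have h4 := T.uniq ⟨m, T.MP hm, t, ht, 1, one_mem _, _, h3, e2, rfl⟩ h2 (by rw [← e3]; simp)
  have h5 := T.loc (mul_mem (mem_sup_right (inv_mem hs)) (mul_mem_sup hm ht)) (by
    rwa [map_mul, isom_mul_apply, map_inv, ← B_isom_left, e3, map_mul, isom_mul_apply, e1, ← hkf,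
      ← map_smul, B_isom, ← e1])
  have := (h5.left (k⁻¹ * s)).right hk h4
  rw [mul_one, mul_assoc k⁻¹, ← (T.cm k hk hkf s hs).eq] at this
  convert this using 1 <;> group

theorem quad {u : Q} (hx : x ∈ P ⊔ S) (h1 : Ad π e f P S x y) (h2 : Ad π e f P S y z)
    (h3 : Ad π e f P S z u) (h0 : D.B ((π x).1 e) ((π u).1 e) ≠ 0) : Ad π e f P S x u := by
  have hy := h1.mem hx
  have hz := h2.mem hy
  by_cases a : D.B ((π x).1 e) ((π z).1 e) = 0
  swap; · exact T.tri hz (T.symm (T.tri hy (T.symm h1) h2 a)) h3 h0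
  by_cases b : D.B ((π y).1 e) ((π u).1 e) = 0
  swap; · exact T.tri hy (T.symm h1) (T.tri hz (T.symm h2) h3 b) h0
  have he := pp_anti T.sub' T.he
  obtain ⟨v, hv, e1⟩ := T.ex_ad hy (add_mem (fx_pp (T.mG hx) he) (fx_pp (T.mG hy) he))
    (by simpa [D.B_add_right, Symp.B_self] using T.ad_ne (T.symm h1))
  have k1 := T.tri hy hv (T.symm h1) (by simpa [e1, D.B_add_left, Symp.B_self] using T.ad_ne (T.symm h1))
  have k2 := T.tri hy hv h2 (by simpa [e1, D.B_add_left, a] using T.ad_ne h2)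
  exact T.tri (hv.mem hy) k1 (T.tri hz (T.symm k2) h3 (by simpa [e1, D.B_add_left, b] using h0)) h0

theorem step (hF : ∃ t : F, t ≠ 0 ∧ t ≠ 1) (h1 : Ad π e f P S 1 x) (h2 : Ad π e f P S x y)
    (h3 : Ad π e f P S y z) : ∃ u, Ad π e f P S 1 u ∧ Ad π e f P S u z := by
  have hx := h1.mem (one_mem _)
  have hy := h2.mem hx
  have he := pp_anti T.sub' T.he
  obtain ⟨u, hu, a1, a2, a3⟩ := T.nd.three hF he (fx_pp (T.mG hy) he) (fx_pp (T.mG (h3.mem hy)) he)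
    (ne_of_B (T.ef ▸ one_ne_zero)) (ne_of_B (T.ad_ne h3)) (ne_of_B (T.ad_ne (T.symm h3)))
  obtain ⟨v, hv, rfl⟩ := T.ex_ad hy hu a2
  exact ⟨v, T.quad (one_mem _) h1 h2 hv (by simpa [isom_one_apply] using a1),
    T.symm (T.tri hy h3 hv a3)⟩

theorem main (hF : ∃ t : F, t ≠ 0 ∧ t ≠ 1) : InjO π (P ⊔ S) ∧ (P ⊔ S).map π = fx D A := by
  have he := pp_anti T.sub' T.he
  have e0 : e ≠ 0 := ne_of_B (T.ef ▸ one_ne_zero)
  obtain ⟨s, hs, es⟩ := T.ex 1 one_ne_zero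
  have hs1 : Ad π e f P S 1 s := ⟨1, one_mem _, s, hs, 1, one_mem _, 1, one_ne_zero, es, by simp⟩
  constructor
  · let W : Q → Prop := fun x => ∃ u, Ad π e f P S 1 u ∧ Ad π e f P S u x
    have st : ∀ x r, Ad π e f P S 1 r → W x → W (x * r) := fun x r hr ⟨u, h1, h2⟩ =>
      T.step hF h1 h2 (by simpa using hr.left x)
    have hP : ∀ b ∈ P, ∀ x, W x → W (x * b) := fun b hb x ⟨u, h1, h2⟩ =>
      ⟨u, h1, by simpa using h2.right (one_mem _) hb⟩
    have hS : ∀ b ∈ S, ∀ x, W x → W (x * b) := fun b hb x hx => by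
      by_cases h : D.B e ((π b).1 e) = 0
      · have := st _ _ (T.loc (mem_sup_right (mul_mem (inv_mem hs) hb)) (by
          rw [map_mul, isom_mul_apply, map_inv, ← B_isom_left, es, one_smul]
          exact T.nz b hb h)) (st x s hs1 hx)
        simpa [mul_assoc] using this
      · exact st _ _ (T.loc (mem_sup_right hb) h) hx
    let X : Subgroup Q :=
      { carrier := {g | ∀ x, W (x * g) ↔ W x}
        mul_mem' := fun h h' x => by rw [← mul_assoc, h', h]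
        one_mem' := fun x => by rw [mul_one]
        inv_mem' := fun {g} h x => by rw [← h, inv_mul_cancel_right] }
    have hX : P ⊔ S ≤ X := sup_le
      (fun b hb x => ⟨fun h => by simpa using hP _ (inv_mem hb) _ h, hP b hb x⟩)
      (fun b hb x => ⟨fun h => by simpa using hS _ (inv_mem hb) _ h, hS b hb x⟩)
    intro x hx h1
    obtain ⟨u, a1, a2⟩ := (hX hx 1).2 ⟨s, hs1, T.symm hs1⟩
    exact T.iP x (by simpa using T.uniq (T.symm a1) a2 (by simp [h1])) h1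
  · refine le_antisymm (map_le_iff_le_comap.2 fun x hx => T.mG hx) fun g hg => ?_
    obtain ⟨u, hu, a1, a2⟩ := T.nd.two he (fx_pp hg he) e0 (by simpa)
    obtain ⟨y, hy, rfl⟩ := T.ex_ad (one_mem _) hu (by simpa [isom_one_apply] using a1)
    obtain ⟨z, hz, e1⟩ := T.ex_ad (hy.mem (one_mem _)) (fx_pp hg he) (by rwa [B_symm, neg_ne_zero])
    have h1 := hz.mem (hy.mem (one_mem _))
    obtain ⟨b, hb, e2⟩ := T.mP.ge (fx_ins.2 ⟨by rw [isom_mul_apply, isom_inv_apply_eq, e1],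
      mul_mem (inv_mem (T.mG h1)) hg⟩)
    exact ⟨z * b, mul_mem h1 (mem_sup_left hb), by rw [map_mul, e2]; group⟩

end GS

end Cfsg.Lib.Pres.Slim
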