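import Cfsg.Agent.Lib.Pres.SlimA

/-!
Covers of symplectic groups: the stabilizer of a vector.
-/

set_option autoImplicit false

namespace Cfsg.Lib.Pres.Slim

open Subgroup Cfsg.Lib.Forms Form Symp

variable {F : Type*} [Field F] {V : Type*} [AddCommGroup V] [Module F V] {D : Form (altKind F) V}
  {A A₂ : Set V} {e f e' f' v w : V} {g h : D.isom}

/-- `g` is an Eichler element with centre `e` and direction `v`. -/
def Ei (e v : V) (g : D.isom) : Prop := ∃ d h, g = D.eich e v d h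

theorem Ei.mul (h1 : Ei e v g) (h2 : Ei e w h) : Ei e (v + w) (g * h) := by
  obtain ⟨d, k, rfl⟩ := h1
  obtain ⟨d', k', rfl⟩ := h2
  exact ⟨_, _, D.eich_mul k k'⟩

theorem Ei.inv (h1 : Ei e v g) : Ei e (-v) g⁻¹ := by
  obtain ⟨d, k, rfl⟩ := h1
  exact ⟨_, _, D.eich_inv k⟩

theorem Ei.conj (h1 : Ei e v g) (he : h.1 e = e) : Ei e (h.1 v) (h * g * h⁻¹) := by
  obtain ⟨d, k, rfl⟩ := h1
  exact ⟨d, he ▸ k.isom h, (D.conj_eich h k).trans (D.eich_congr _ _ he rfl rfl)⟩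

theorem Ei.apply (h1 : Ei e v g) (ef : D.B e f = 1) (hv : D.B f v = 0) : ∃ d : F, g.1 f = f + v + d • e := by
  obtain ⟨d, k, rfl⟩ := h1
  exact ⟨d, by rw [eich_apply, B_symm, hv, ef, altKind_ε]; module⟩

variable {Q : Type*} [Group Q] (π : Q →* D.isom)

/-- The data of the step to the stabilizer of a vector. -/
structure PS (A A₂ : Set V) (e f e' f' : V) (K S R Z : Subgroup Q) (y : Q) : Prop where
  sub : A ⊆ A₂
  he : e ∈ pp D A₂
  hf : f ∈ pp D A₂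
  ef : D.B e f = 1
  he' : e' ∈ pp D (insert f (insert e A₂))
  hf' : f' ∈ pp D (insert f (insert e A₂))
  ef' : D.B e' f' = 1
  nd : ND D (insert f (insert e A))
  nd₂ : ND D (insert f (insert e A₂))
  iK : InjO π K
  mK : K.map π = fx D (insert f (insert e A))
  SK : S ≤ K
  SR : S ≤ R
  mS : S.map π = fx D (insert f (insert e A₂))
  iR : InjO π R
  mR : R.map π ≤ fx D (insert e A₂)
  ZR : Z ≤ R
  mZ : ∀ g, g ∈ Z.map π ↔ Ei e 0 g
  ZK : ∀ z ∈ Z, ∀ k ∈ K, Commute z k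
  yR : y ∈ R
  my : Ei e e' (π y)
  yK : ∀ k ∈ K, (π k).1 e' = e' → Commute y k

/-- `x` is a lift of an Eichler element with direction `v`. -/
def Y (e' : V) (K Z : Subgroup Q) (y : Q) (v : V) (x : Q) : Prop :=
  (v = 0 ∧ x ∈ Z) ∨ ∃ k ∈ K, (π k).1 e' = v ∧ (k * y * k⁻¹)⁻¹ * x ∈ Z

variable {π} {K S R Z : Subgroup Q} {y x x' z k : Q}

theorem Y.right (h : Y π e' K Z y v x) (hz : z ∈ Z) : Y π e' K Z y v (x * z) :=
  h.imp (fun h => ⟨h.1, mul_mem h.2 hz⟩) fun ⟨k, hk, e1, h⟩ => ⟨k, hk, e1, mul_assoc _ x z ▸ mul_mem h hz⟩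

namespace PS

variable (T : PS π A A₂ e f e' f' K S R Z y)
include T

theorem sub' : insert f (insert e A) ⊆ insert f (insert e A₂) :=
  Set.insert_subset_insert (Set.insert_subset_insert T.sub)

theorem e0 : e' ≠ 0 := ne_of_B (T.ef' ▸ one_ne_zero)

theorem fk (hk : k ∈ K) : π k ∈ fx D (insert f (insert e A)) := T.mK.le (mem_map_of_mem π hk)

theorem fixe (hk : k ∈ K) : (π k).1 e = e := (fx_ins.1 (fx_ins.1 (T.fk hk)).2).1

theorem pp_of (h : Y π e' K Z y v x) : v ∈ pp D (insert f (insert e A)) := by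
  obtain ⟨rfl, -⟩ | ⟨k, hk, rfl, -⟩ := h
  exacts [zero_mem _, fx_pp (T.fk hk) (pp_anti T.sub' T.he')]

theorem ei_of (h : Y π e' K Z y v x) : Ei e v (π x) := by
  obtain ⟨rfl, h⟩ | ⟨k, hk, rfl, h⟩ := h
  · exact (T.mZ _).1 (mem_map_of_mem π h)
  · simpa [mul_assoc] using (T.my.conj (T.fixe hk)).mul ((T.mZ _).1 (mem_map_of_mem π h))

theorem ex (hv : v ∈ pp D (insert f (insert e A))) : ∃ x, Y π e' K Z y v x := by
  by_cases v0 : v = 0
  · exact ⟨1, .inl ⟨v0, one_mem _⟩⟩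
  obtain ⟨g, hg, e1⟩ := T.nd.tr (pp_anti T.sub' T.he') hv T.e0 v0
  obtain ⟨k, hk, rfl⟩ := T.mK.ge hg
  exact ⟨_, .inr ⟨k, hk, e1, by rw [inv_mul_cancel]; exact one_mem _⟩⟩

theorem uniq (h : Y π e' K Z y v x) (h' : Y π e' K Z y v x') : x⁻¹ * x' ∈ Z := by
  obtain ⟨rfl, h⟩ | ⟨k, hk, rfl, h⟩ := h <;> obtain ⟨e1, h'⟩ | ⟨k', hk', e1, h'⟩ := h'
  · exact mul_mem (inv_mem h) h'
  · exact (T.e0 (by simpa using e1)).elim
  · exact (T.e0 (by simpa using e1)).elim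
  · have := T.yK _ (mul_mem (inv_mem hk) hk') (by
      rw [map_mul, isom_mul_apply, map_inv, isom_inv_apply_eq, e1])
    rw [show k' * y * k'⁻¹ = k * y * k⁻¹ by
      rw [show k' * y = k * (k⁻¹ * k' * y) by group, ← this.eq]; group] at h'
    convert mul_mem (inv_mem h) h' using 1
    group

theorem conj (h : Y π e' K Z y v x) (hk : k ∈ K) : Y π e' K Z y ((π k).1 v) (k * x * k⁻¹) := by
  obtain ⟨rfl, h⟩ | ⟨l, hl, rfl, h⟩ := h
  · exact .inl ⟨map_zero _, by rwa [← (T.ZK x h k hk).eq, mul_inv_cancel_right]⟩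
  · refine .inr ⟨k * l, mul_mem hk hl, by rw [map_mul, isom_mul_apply], ?_⟩
    convert h using 1
    rw [← mul_inv_cancel_right ((l * y * l⁻¹)⁻¹ * x) k, (T.ZK _ h k hk).eq]; group

theorem memR (hv : v ∈ pp D (insert f (insert e A₂))) (h : Y π e' K Z y v x) : x ∈ R := by
  by_cases v0 : v = 0
  · simpa using T.ZR (T.uniq (.inl ⟨v0, one_mem _⟩) h)
  obtain ⟨g, hg, e1⟩ := T.nd₂.tr T.he' hv T.e0 v0
  obtain ⟨s, hs, rfl⟩ := T.mS.ge hg
  have := T.ZR (T.uniq (x := s * y * s⁻¹) (.inr ⟨s, T.SK hs, e1, by rw [inv_mul_cancel]; exact one_mem _⟩) h)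
  exact (R.mul_mem_cancel_left (inv_mem (mul_mem (mul_mem (T.SR hs) T.yR) (inv_mem (T.SR hs))))).1 this

theorem of_ei (hv : v ∈ pp D (insert f (insert e A₂))) (hx : x ∈ R) (h : Ei e v (π x)) :
    Y π e' K Z y v x := by
  obtain ⟨x', h'⟩ := T.ex (pp_anti T.sub' hv)
  simpa using h'.right (mem_of_inj T.iR T.ZR (mul_mem (inv_mem (T.memR hv h')) hx)
    ((T.mZ _).2 (by simpa using (T.ei_of h').inv.mul h)))

theorem mul_of (hk : k ∈ K) (hv : v ∈ pp D (insert f (insert e A₂))) (hw : w ∈ pp D (insert f (insert e A₂)))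
    (h : Y π e' K Z y ((π k).1 v) x) (h' : Y π e' K Z y ((π k).1 w) x') :
    Y π e' K Z y ((π k).1 v + (π k).1 w) (x * x') := by
  have h1 := T.conj h (inv_mem hk)
  have h2 := T.conj h' (inv_mem hk)
  rw [map_inv, isom_inv_apply] at h1 h2
  have := T.conj (T.of_ei (add_mem hv hw) (mul_mem (T.memR hv h1) (T.memR hw h2))
    (by rw [map_mul]; exact (T.ei_of h1).mul (T.ei_of h2))) hk
  rw [map_add] at this
  convert this using 1
  group

theorem mul_ne (h : Y π e' K Z y v x) (h' : Y π e' K Z y w x') (h0 : D.B v w ≠ 0) :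
    Y π e' K Z y (v + w) (x * x') := by
  obtain ⟨g, hg, rfl, e1⟩ := T.nd.tr2 (pp_anti T.sub' T.he')
    (Submodule.smul_mem _ (D.B v w) (pp_anti T.sub' T.hf')) (T.pp_of h) (T.pp_of h')
    (by rwa [D.B_smul_right, T.ef', mul_one]) (by rw [D.B_smul_right, T.ef', mul_one])
  obtain ⟨k, hk, rfl⟩ := T.mK.ge hg
  rw [← e1] at h' ⊢
  exact T.mul_of hk T.he' (Submodule.smul_mem _ _ T.hf') h h'

theorem mul_smul {a b : F} (hv : v ∈ pp D (insert f (insert e A))) (h : Y π e' K Z y (a • v) x)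
    (h' : Y π e' K Z y (b • v) x') : Y π e' K Z y (a • v + b • v) (x * x') := by
  by_cases v0 : v = 0
  · subst v0
    simpa using T.mul_of (one_mem _) (zero_mem _) (zero_mem _) (by simpa using h) (by simpa using h')
  obtain ⟨g, hg, rfl⟩ := T.nd.tr (pp_anti T.sub' T.he') hv T.e0 v0
  obtain ⟨k, hk, rfl⟩ := T.mK.ge hg
  rw [← map_smul] at h h'
  rw [← map_smul, ← map_smul]
  exact T.mul_of hk (Submodule.smul_mem _ _ T.he') (Submodule.smul_mem _ _ T.he') h h'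

theorem mul (hF : ∃ t : F, t ≠ 0 ∧ t ≠ 1) (h : Y π e' K Z y v x) (h' : Y π e' K Z y w x') :
    Y π e' K Z y (v + w) (x * x') := by
  have hv := T.pp_of h
  have hw := T.pp_of h'
  by_cases v0 : v = 0
  · simpa [v0] using T.mul_smul (a := 0) (b := 1) hw (by simpa [v0] using h) (by simpa using h')
  by_cases w0 : w = 0
  · simpa [w0] using T.mul_smul (a := 1) (b := 0) hv (by simpa using h) (by simpa [w0] using h')
  by_cases s0 : v + w = 0
  · obtain rfl := eq_neg_of_add_eq_zero_right s0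
    simpa using T.mul_smul (a := 1) (b := -1) hv (by simpa using h) (by simpa using h')
  by_cases h0 : D.B v w = 0
  swap; · exact T.mul_ne h h' h0
  obtain ⟨u, hu, a1, a2, a3⟩ := T.nd.three hF hv hw (add_mem hv hw) v0 w0 s0
  obtain ⟨x1, h1⟩ := T.ex hu
  obtain ⟨x2, h2⟩ := T.ex (sub_mem hw hu)
  have h3 := T.mul_ne h1 h2 (by rwa [D.B_sub_right, Symp.B_self, sub_zero, B_symm, neg_ne_zero])
  have h4 := T.mul_ne (T.mul_ne h h1 a1) h2 fun e1 => a3 (by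
    simp only [D.B_add_left, D.B_sub_right, Symp.B_self, h0, B_symm D w u] at e1 ⊢
    linear_combination -e1)
  rw [add_sub_cancel] at h3
  rw [add_assoc, add_sub_cancel] at h4
  convert h4.right (T.uniq h3 h') using 1
  group

theorem ex_f (hf : g.1 e = e) {B : Set V} (hB : A ⊆ B) (hB' : B ⊆ A₂) (hg : g ∈ fx D B) :
    ∃ v ∈ pp D (insert f (insert e B)), ∃ x, Y π e' K Z y v x ∧ (π x).1 f = g.1 f := by
  have hv : g.1 f - f + D.B f (g.1 f) • e ∈ pp D (insert f (insert e B)) := by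
    refine pp_ins.2 ⟨?_, pp_ins.2 ⟨?_, add_mem (sub_mem (fx_pp hg (pp_anti hB' T.hf)) (pp_anti hB' T.hf))
      (Submodule.smul_mem _ _ (pp_anti hB' T.he))⟩⟩
    · simp [D.B_add_right, D.B_sub_right, D.B_smul_right, Symp.B_self, T.ef, B_symm D e f]
    · rw [D.B_add_right, D.B_sub_right, D.B_smul_right, Symp.B_self]
      nth_rw 1 [← hf]
      simp
  obtain ⟨x, hx⟩ := T.ex (pp_anti (Set.insert_subset_insert (Set.insert_subset_insert hB)) hv)
  obtain ⟨d, e1⟩ := (T.ei_of hx).apply T.ef (pp_ins.1 hv).1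
  obtain ⟨z, hz, e2⟩ := (T.mZ _).2 ⟨-d - D.B f (g.1 f), isEich (D.B_zero_right e) _, rfl⟩
  refine ⟨_, hv, _, hx.right hz, ?_⟩
  obtain ⟨d', k, e3⟩ := T.ei_of hx
  rw [map_mul, isom_mul_apply, e2, eich_apply, T.ef, D.B_zero_left]
  simp only [map_add, map_sub, map_smul, e1, altKind_ε, map_zero]
  rw [e3, D.eich_apply_self]
  module

theorem main (hF : ∃ t : F, t ≠ 0 ∧ t ≠ 1) : InjO π (R ⊔ K) ∧ (R ⊔ K).map π = fx D (insert e A) := by
  let X : Subgroup Q :=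
    { carrier := {g | ∃ k ∈ K, ∃ v x, Y π e' K Z y v x ∧ g = x * k}
      mul_mem' := by
        rintro _ _ ⟨k, hk, v, x, h, rfl⟩ ⟨l, hl, w, x', h', rfl⟩
        exact ⟨_, mul_mem hk hl, _, _, T.mul hF h (T.conj h' hk), by group⟩
      one_mem' := ⟨1, one_mem _, 0, 1, .inl ⟨rfl, one_mem _⟩, by simp⟩
      inv_mem' := by
        rintro _ ⟨k, hk, v, x, h, rfl⟩
        obtain ⟨x', h'⟩ := T.ex (neg_mem (T.pp_of h))
        have := T.uniq (T.mul hF h h') (.inl ⟨add_neg_cancel v, one_mem _⟩)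
        exact ⟨_, inv_mem hk, _, _, T.conj (h'.right this) (inv_mem hk), by group⟩ }
  have fxY : ∀ {B : Set V}, B ⊆ A₂ → ∀ {v x}, v ∈ pp D (insert f (insert e B)) → Y π e' K Z y v x →
      π x ∈ fx D (insert e B) := fun hB v x hv h => by
    obtain ⟨d, k, e1⟩ := T.ei_of h
    exact e1 ▸ eich_mem (pp_ins.2 ⟨Symp.B_self _ _, pp_anti hB T.he⟩) (pp_ins.1 hv).2 k
  have hX : R ⊔ K ≤ X := by
    refine sup_le (fun r hr => ?_) fun k hk => ⟨k, hk, 0, 1, .inl ⟨rfl, one_mem _⟩, by simp⟩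
    have h1 := T.mR (mem_map_of_mem π hr)
    obtain ⟨v, hv, x, hx, e1⟩ := T.ex_f (fx_ins.1 h1).1 T.sub le_rfl (fx_ins.1 h1).2
    refine ⟨x⁻¹ * r, T.SK (mem_of_inj T.iR T.SR (mul_mem (inv_mem (T.memR hv hx)) hr) ?_), v, x, hx, by group⟩
    rw [T.mS, map_mul, map_inv]
    exact fx_ins.2 ⟨by rw [isom_mul_apply, isom_inv_apply_eq, e1], mul_mem (inv_mem (fxY le_rfl hv hx)) h1⟩
  refine ⟨fun g hg h1 => ?_, le_antisymm (map_le_iff_le_comap.2 (sup_le (map_le_iff_le_comap.1 (T.mR.trans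
    (fx_anti (Set.insert_subset_insert T.sub)))) fun k hk => (fx_ins.1 (T.fk hk)).2)) fun g hg => ?_⟩
  · obtain ⟨k, hk, v, x, h, rfl⟩ := hX hg
    obtain ⟨d, e1⟩ := (T.ei_of h).apply T.ef (pp_ins.1 (T.pp_of h)).1
    have e2 : (π x).1 f = f := by
      rw [← (fx_ins.1 (T.fk hk)).1, ← isom_mul_apply, ← map_mul, h1, isom_one_apply, (fx_ins.1 (T.fk hk)).1]
    have d0 : d = 0 := by
      have := congrArg (D.B f) e1
      simpa [e2, D.B_add_right, D.B_smul_right, B_symm D e f, T.ef, (pp_ins.1 (T.pp_of h)).1] using this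
    obtain rfl : v = 0 := by simpa [e2, d0] using e1
    have hx : x ∈ Z := by simpa using T.uniq (.inl ⟨rfl, one_mem _⟩) h
    obtain ⟨c, l, e3⟩ := T.ei_of h
    obtain rfl : c = 0 := by
      rw [e3, eich_apply, T.ef] at e2
      simpa [D.B_zero_left, ne_of_B (T.ef ▸ one_ne_zero : D.B e f ≠ 0)] using e2
    obtain rfl := T.iR x (T.ZR hx) (e3.trans (D.eich_zero l))
    rw [one_mul] at h1 ⊢
    exact T.iK k hk h1
  · obtain ⟨v, hv, x, hx, e1⟩ := T.ex_f (fx_ins.1 hg).1 le_rfl T.sub (fx_ins.1 hg).2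
    obtain ⟨k, hk, e2⟩ := T.mK.ge (fx_ins.2 ⟨by rw [isom_mul_apply, isom_inv_apply_eq, e1],
      mul_mem (inv_mem (fxY T.sub hv hx)) hg⟩)
    refine ⟨x * k, mul_mem ?_ (mem_sup_right hk), by rw [map_mul, e2]; group⟩
    obtain ⟨-, h⟩ | ⟨l, hl, -, h⟩ := hx
    · exact mem_sup_left (T.ZR h)
    · exact (Subgroup.mul_mem_cancel_left _ (inv_mem (mul_mem (mul_mem (mem_sup_right hl)
        (mem_sup_left T.yR)) (inv_mem (mem_sup_right hl))))).1 (mem_sup_left (T.ZR h))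

end PS

end Cfsg.Lib.Pres.Slim
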