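import Cfsg.Agent.Lib.Pres.SlimB

/-!
The symplectic group is the universal completion of the slim amalgam.
-/

set_option autoImplicit false

namespace Cfsg.Lib.Pres.Slim

open Subgroup Cfsg.Lib.Forms Form Symp

variable {F : Type*} [Field F] {V : Type*} [AddCommGroup V] [Module F V] {D : Form (altKind F) V}
  {n : ℕ} (e f : Fin n → V)

/-- A set of basis vectors. -/
def st (p q : Fin n → Prop) : Set V := {v | ∃ k, (p k ∧ v = e k) ∨ (q k ∧ v = f k)}

variable (D) in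
/-- A hyperbolic basis. -/
structure HB : Prop where
  ee : ∀ i j, D.B (e i) (e j) = 0
  ff : ∀ i j, D.B (f i) (f j) = 0
  ef : ∀ i j, D.B (e i) (f j) = if i = j then 1 else 0
  sp : ∀ v, v = ∑ k, (D.B (e k) v • f k - D.B (f k) v • e k)

variable {e f} {p q p' q' : Fin n → Prop} {g h : D.isom} {v : V}

theorem forall_st {P : V → Prop} : (∀ a ∈ st e f p q, P a) ↔ (∀ k, p k → P (e k)) ∧ ∀ k, q k → P (f k) :=
  ⟨fun h => ⟨fun k hk => h _ ⟨k, .inl ⟨hk, rfl⟩⟩, fun k hk => h _ ⟨k, .inr ⟨hk, rfl⟩⟩⟩, by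
    rintro h _ ⟨k, ⟨hk, rfl⟩ | ⟨hk, rfl⟩⟩
    exacts [h.1 k hk, h.2 k hk]⟩

theorem st_mono (h : ∀ k, p k → p' k) (h' : ∀ k, q k → q' k) : st e f p q ⊆ st e f p' q' :=
  fun _ ⟨k, hk⟩ => ⟨k, hk.imp (And.imp_left (h k)) (And.imp_left (h' k))⟩

theorem ins_e (j : Fin n) (h : ∀ k, p' k ↔ k = j ∨ p k) : insert (e j) (st e f p q) = st e f p' q := by
  ext v; simp only [st, Set.mem_insert_iff, Set.mem_ofPred_eq, h]; grind

theorem ins_f (j : Fin n) (h : ∀ k, q' k ↔ k = j ∨ q k) : insert (f j) (st e f p q) = st e f p q' := by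
  ext v; simp only [st, Set.mem_insert_iff, Set.mem_ofPred_eq, h]; grind

namespace HB

variable (H : HB D e f)
include H

theorem e_mem {j : Fin n} (h : ¬q j) : e j ∈ pp D (st e f p q) :=
  forall_st.2 ⟨fun k _ => H.ee k j, fun k hk => by
    rw [B_symm, H.ef, if_neg (fun e : j = k => h (e ▸ hk)), neg_zero]⟩

theorem f_mem {j : Fin n} (h : ¬p j) : f j ∈ pp D (st e f p q) :=
  forall_st.2 ⟨fun k hk => by rw [H.ef, if_neg fun e : k = j => h (e ▸ hk)], fun k _ => H.ff k j⟩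

theorem fix_pp (hg : g ∈ fx D (st e f p' q')) (hv : v ∈ pp D (st e f p q)) (h1 : ∀ k, p k ∨ q' k)
    (h2 : ∀ k, q k ∨ p' k) : g.1 v = v := by
  rw [H.sp v, map_sum]
  refine Finset.sum_congr rfl fun k _ => ?_
  rw [map_sub, map_smul, map_smul]
  congr 1
  · exact (h1 k).elim (fun a => by simp [(forall_st.1 hv).1 k a]) fun a => by rw [(forall_st.1 hg).2 k a]
  · exact (h2 k).elim (fun a => by simp [(forall_st.1 hv).2 k a]) fun a => by rw [(forall_st.1 hg).1 k a]

theorem comm (hg : g ∈ fx D (st e f p q)) (hh : h ∈ fx D (st e f p' q')) (h1 : ∀ k, p k ∨ q' k)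
    (h2 : ∀ k, q k ∨ p' k) : Commute g h := isom_ext fun x => by
  have k : ∀ {A} {g : D.isom}, g ∈ fx D A → g.1 x - x ∈ pp D A := fun {A g} hg a ha => by
    rw [D.B_sub_right]; nth_rw 1 [← hg a ha]; simp
  have a := H.fix_pp hh (k hg) h1 h2
  have b := H.fix_pp hg (k hh) (fun k => (h2 k).symm) fun k => (h1 k).symm
  rw [map_sub, sub_eq_iff_eq_add] at a b
  rw [isom_mul_apply, isom_mul_apply, a, b]; abel

theorem eq_zero (h1 : ∀ k, D.B (e k) v = 0) (h2 : ∀ k, D.B (f k) v = 0) : v = 0 := by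
  rw [H.sp v]; simp [h1, h2]

theorem nd : ND D (st e f p p) := fun v hv v0 => by
  by_contra! h
  refine v0 (H.eq_zero (fun k => ?_) fun k => ?_) <;> by_cases a : p k
  · exact (forall_st.1 hv).1 k a
  · rw [B_symm, h _ (H.e_mem a), neg_zero]
  · exact (forall_st.1 hv).2 k a
  · rw [B_symm, h _ (H.f_mem a), neg_zero]

theorem ef1 (j : Fin n) : D.B (e j) (f j) = 1 := by simp [H.ef]

theorem main (hF : ∃ t : F, t ≠ 0 ∧ t ≠ 1) {Q : Type*} [Group Q] {π : Q →* D.isom} (hn : 2 ≤ n)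
    (S M : Fin n → Subgroup Q) (hS : ∀ j, (S j).map π = fx D (st e f (· ≠ j) (· ≠ j)))
    (hM : ∀ i : Fin n, i.1 + 1 < n → (M i).map π = fx D (st e f ⊤ fun k => k.1 ≠ i ∧ k.1 ≠ i + 1))
    (iSS : ∀ j l, j ≠ l → InjO π (S j ⊔ S l))
    (iMM : ∀ i j : Fin n, i ≠ j → i.1 + 1 < n → j.1 + 1 < n → InjO π (M i ⊔ M j))
    (iMS : ∀ i j : Fin n, i.1 + 1 < n → InjO π (M i ⊔ S j))
    (gen : ∀ X : Subgroup Q, (∀ j, S j ≤ X) → (∀ i : Fin n, i.1 + 1 < n → M i ≤ X) → X = ⊤) :
    Function.Bijective π := by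
  let K : ℕ → Subgroup Q := fun j => (⨆ k : Fin n, ⨆ _ : j ≤ k.1, S k) ⊔ ⨆ i : Fin n, ⨆ _ : j ≤ i.1 ∧ i.1 + 1 < n, M i
  have Kle : ∀ {j X}, K j ≤ X ↔ (∀ k : Fin n, j ≤ k.1 → S k ≤ X) ∧ ∀ i : Fin n, j ≤ i.1 → i.1 + 1 < n → M i ≤ X := by
    simp [K]
  have mS : ∀ {j s}, s ∈ S j → π s ∈ _ := fun hs => (hS _).le (mem_map_of_mem π hs)
  have mM : ∀ {i : Fin n} (hi : i.1 + 1 < n) {s}, s ∈ M i → π s ∈ _ := fun hi _ hs =>
    (hM _ hi).le (mem_map_of_mem π hs)
  have cMS : ∀ {i j : Fin n}, i.1 + 1 < n → j.1 ≠ i → j.1 ≠ i + 1 → ∀ m ∈ M i, ∀ s ∈ S j, Commute m s :=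
    fun hi h1 h2 m hm s hs => comm_of_inj (iMS _ _ hi) (mem_sup_left hm) (mem_sup_right hs)
      (H.comm (mM hi hm) (mS hs) (fun _ => .inl trivial) fun k => by grind)
  have cMM : ∀ {i j : Fin n}, i ≠ j → i.1 + 1 < n → j.1 + 1 < n → ∀ m ∈ M i, ∀ s ∈ M j, Commute m s :=
    fun h hi hj m hm s hs => comm_of_inj (iMM _ _ h hi hj) (mem_sup_left hm) (mem_sup_right hs)
      (H.comm (mM hi hm) (mM hj hs) (fun _ => .inl trivial) fun _ => .inr trivial)
  have cSK : ∀ j : Fin n, ∀ s ∈ S j, ∀ k ∈ K (j + 1), Commute s k := fun j s hs k hk =>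
    (mem_centralizer_singleton_iff.1 (Kle.2 ⟨fun l hl k hk => mem_centralizer_singleton_iff.2
      (comm_of_inj (iSS l j (by grind)) (mem_sup_left hk) (mem_sup_right hs)
        (H.comm (mS hk) (mS hs) (fun _ => by grind) fun _ => by grind)),
      fun i h hi m hm => mem_centralizer_singleton_iff.2 (cMS hi (by omega) (by omega) m hm s hs)⟩ hk)).symm
  have key : ∀ d, ∀ j : Fin n, j + d + 1 = n → InjO π (K j) ∧ (K j).map π = fx D (st e f (· < j) (· < j)) ∧
      ∀ i : Fin n, i.1 + 1 = j → ∀ k ∈ K j, (π k).1 (e j) = e j → ∀ m ∈ M i, Commute m k := by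
    intro d
    induction d with
    | zero =>
      intro j hj
      have : K j = S j := le_antisymm (Kle.2 ⟨fun k hk => by rw [show k = j by grind], fun i _ _ => by omega⟩)
        ((Kle.1 le_rfl).1 j le_rfl)
      rw [this, hS]
      refine ⟨(iMS ⟨0, by omega⟩ j (by simp; omega)).mono le_sup_right, by congr 2 <;> grind, ?_⟩
      intro i hi k hk e1 m hm
      refine comm_of_inj (iMS i j (by omega)) (mem_sup_left hm) (mem_sup_right hk)
        (H.comm (mM (by omega) hm) (p' := ⊤) (q' := (· ≠ j)) ?_ (fun _ => .inl trivial) fun _ => .inr trivial)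
      rw [← ins_e (p := (· ≠ j)) j fun k => by simp [em]]
      exact fx_ins.2 ⟨e1, mS hk⟩
    | succ d ih =>
      intro j hj
      have hj' : j.1 + 1 < n := by omega
      obtain ⟨i1, i2, i3⟩ := ih ⟨j + 1, hj'⟩ (by simp; omega)
      set j' : Fin n := ⟨j + 1, hj'⟩ with ej
      have ej' : j'.1 = j + 1 := rfl
      let Zg : Subgroup D.isom :=
        { carrier := {g | Ei (e j) 0 g}
          mul_mem' := fun h h' => by simpa using Ei.mul h h'
          one_mem' := ⟨0, isEich (D.B_zero_right _) 0, (D.eich_zero _).symm⟩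
          inv_mem' := fun h => by simpa using Ei.inv h }
      have hZ : ∀ {p q : Fin n → Prop}, ¬q j → ∀ g ∈ Zg, g ∈ fx D (st e f p q) := by
        rintro p q h _ ⟨d, k, rfl⟩
        exact eich_mem (H.e_mem h) (zero_mem _) k
      obtain ⟨y, hy, ey⟩ := (hM j hj').ge (eich_mem (H.e_mem (j := j) (by simp)) (H.e_mem (j := j') (by simp [ej']))
        (isEich (H.ee j j') 0))
      have a1 : insert (f j) (insert (e j) (st e f (· < j) (· < j))) = st e f (· < j') (· < j') := by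
        rw [ins_e j (p' := (· < j')) (by grind), ins_f j (q' := (· < j')) (by grind)]
      let r : Fin n → Prop := fun k => k.1 ≠ j ∧ k.1 ≠ j + 1
      have a2 : insert (f j) (insert (e j) (st e f r r)) = st e f (· ≠ j') (· ≠ j') := by
        rw [ins_e j (p' := (· ≠ j')) (by grind), ins_f j (q' := (· ≠ j')) (by grind)]
      have a3 : insert (e j') (st e f r r) = st e f (· ≠ j) r := ins_e j' (by grind)
      have hs : st e f (· < j) (· < j) ⊆ st e f r r := st_mono (by grind) (by grind)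
      have SK := (Kle.1 le_rfl).1 j' (le_refl j'.1)
      obtain ⟨b1, b2⟩ := PS.main (K := K j') (S := S j') (R := M j ⊔ S j') (Z := M j ⊓ Zg.comap π) (y := y)
        ⟨hs, H.e_mem (by simp [r]), H.f_mem (by simp [r]), H.ef1 j, a2 ▸ H.e_mem (by simp), a2 ▸ H.f_mem (by simp),
          H.ef1 j', a1 ▸ H.nd, a2 ▸ H.nd, i1, a1 ▸ i2, SK, le_sup_right, a2 ▸ hS j', iMS j j' hj', by
            rw [Subgroup.map_sup, hS, hM j hj', ins_e j (p' := (· ≠ j')) (by grind)]
            exact sup_le (fx_anti (st_mono (fun _ _ => trivial) fun _ h => h))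
              (fx_anti (st_mono (fun _ h => h) (by grind))),
          inf_le_left.trans le_sup_left, fun g => ⟨fun ⟨z, hz, e1⟩ => e1 ▸ hz.2, fun h =>
            let ⟨z, hz, e1⟩ := (hM j hj').ge (hZ (by simp) g h); ⟨z, ⟨hz, show π z ∈ Zg from e1 ▸ h⟩, e1⟩⟩,
          fun z hz => cSK j z (mem_of_inj (iMS j j hj') le_sup_right (mem_sup_left hz.1)
            (hS j ▸ hZ (by simp) _ hz.2)), mem_sup_left hy, ⟨_, _, ey⟩,
          fun k hk e1 => i3 j rfl k hk e1 y hy⟩ hF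
      obtain ⟨c1, c2⟩ := GS.main (e := e j) (f := f j) (e' := e j') (S := S j) (M := M j)
        ⟨hs, a3 ▸ H.e_mem (by simp [r]), a3 ▸ H.f_mem (by simp), H.ef1 j, H.e_mem (by simp [r, ej']),
          ne_of_B (H.ef1 j' ▸ one_ne_zero), H.nd, a1 ▸ H.nd, b1, b2, iMS j j hj',
          by rw [hM j hj', a3, ins_e j (p' := ⊤) fun k => by simp [em]], le_sup_left.trans le_sup_left,
          by rw [hS, a3]; exact fx_anti (st_mono (fun _ h => h) (by grind)), fun c hc => by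
            obtain ⟨g, hg, e1⟩ := map_one' (H.e_mem (j := j) (p := (· ≠ j)) (q := (· ≠ j)) (by simp))
              (Submodule.smul_mem _ c (H.f_mem (j := j) (by simp))) (by
                rw [D.B_smul_left, B_symm, H.ef1]; simpa)
            obtain ⟨s, hs, rfl⟩ := (hS j).ge hg
            exact ⟨s, hs, e1⟩,
          fun b hb e1 s hs => (cSK j s hs b (mem_of_inj b1 le_sup_right hb (by
            rw [i2, ← a1]; exact fx_ins.2 ⟨e1, b2.le (mem_map_of_mem π hb)⟩))).symm,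
          fun s hs h1 h2 => by
            have := forall_st.1 (fx_pp (mS hs) (H.e_mem (j := j) (by simp)))
            have := H.eq_zero (v := (π s).1 (e j)) (fun k => by grind) fun k => by grind
            exact ne_of_B (H.ef1 j ▸ one_ne_zero) (by simpa using this)⟩ hF
      have eK : K j = M j ⊔ S j' ⊔ K j' ⊔ S j := by
        have h1 := Kle.1 (le_refl (K j))
        have h2 := Kle.1 (le_refl (K j'))
        refine le_antisymm (Kle.2 ⟨fun k hk => ?_, fun k hk hk' => ?_⟩) (sup_le (sup_le (sup_le (h1.2 j le_rfl hj')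
          (h1.1 j' (by omega))) (Kle.2 ⟨fun k hk => h1.1 k (by omega), fun k hk => h1.2 k (by omega)⟩)) (h1.1 j le_rfl)) <;>
          obtain rfl | h := eq_or_ne k j
        · exact le_sup_right
        · exact (h2.1 k (by grind)).trans (le_sup_right.trans le_sup_left)
        · exact le_sup_left.trans (le_sup_left.trans le_sup_left)
        · exact (h2.2 k (by grind) hk').trans (le_sup_right.trans le_sup_left)
      rw [eK]
      refine ⟨c1, c2, fun i hi k hk e1 m hm => ?_⟩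
      have : M j ⊔ S j' ⊔ K j' ≤ centralizer {m} := by
        have h1 : ∀ k : Fin n, j'.1 ≤ k → S k ≤ centralizer {m} := fun k hk s hs =>
          mem_centralizer_singleton_iff.2 (cMS (by omega) (by omega) (by omega) m hm s hs).symm
        have h2 : ∀ k : Fin n, j.1 ≤ k → k.1 + 1 < n → M k ≤ centralizer {m} := fun k hk hk' s hs =>
          mem_centralizer_singleton_iff.2 (cMM (by grind) hk' (by omega) s hs m hm)
        exact sup_le (sup_le (h2 j le_rfl hj') (h1 j' le_rfl)) (Kle.2 ⟨h1, fun k hk => h2 k (by omega)⟩)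
      exact (mem_centralizer_singleton_iff.1 (this (mem_of_inj c1 le_sup_left hk
        (b2 ▸ fx_ins.2 ⟨e1, c2.le (mem_map_of_mem π hk)⟩)))).symm
  obtain ⟨k1, k2, -⟩ := key (n - 1) ⟨0, by omega⟩ (by simp; omega)
  rw [gen (K _) (fun j => (Kle.1 le_rfl).1 j (by simp)) fun j => (Kle.1 le_rfl).2 j (by simp)] at k1 k2
  refine ⟨(injective_iff_map_eq_one π).2 fun a => k1 a trivial, fun g => ?_⟩
  obtain ⟨x, -, e1⟩ := k2.ge (forall_st.2 ⟨fun k hk => by grind, fun k hk => by grind⟩ : g ∈ _)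
  exact ⟨x, e1⟩

end HB

theorem hb_std : HB (fSymp F n) (fun k => Pi.single (.inl k) 1) fun k => -Pi.single (.inr k) 1 where
  ee i j := by simp [fSymp_B_inl]
  ff i j := by simp [Form.B_neg_left, Form.B_neg_right, fSymp_B_inr]
  ef i j := by simp [fSymp_B_inl, Pi.single_apply]
  sp v := by
    ext (k | k) <;> simp [Form.B_neg_left, fSymp_B_inl, fSymp_B_inr, Pi.single_apply, Finset.sum_apply]

variable {G H : Type*} [Group G] [Group H]

/-- The graph of a homomorphism from a subgroup. -/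
def gr {A : Subgroup G} (σ : A →* H) : Subgroup (G × H) := (A.subtype.prod σ).range

theorem gr_map {A : Subgroup G} {σ : A →* H} {Q : Subgroup (G × H)} (h : gr σ ≤ Q) :
    ((gr σ).subgroupOf Q).map ((MonoidHom.fst G H).comp Q.subtype) = A := by
  rw [← map_map, map_subgroupOf_eq_of_le h, gr, ← MonoidHom.range_comp]
  exact A.range_subtype

theorem gr_inj {A A' : Subgroup G} {σ : A →* H} {σ' : A' →* H} (Q : Subgroup (G × H))
    (h : ∃ Ψ : ↥(A ⊔ A') →* H, (∀ g (hg : g ∈ A), Ψ ⟨g, mem_sup_left hg⟩ = σ ⟨g, hg⟩) ∧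
      ∀ g (hg : g ∈ A'), Ψ ⟨g, mem_sup_right hg⟩ = σ' ⟨g, hg⟩) {G' : Type*} [Group G'] (e : G ≃* G') :
    InjO (e.toMonoidHom.comp ((MonoidHom.fst G H).comp Q.subtype)) ((gr σ).subgroupOf Q ⊔ (gr σ').subgroupOf Q) := by
  obtain ⟨Ψ, h1, h2⟩ := h
  refine InjO.mono (K := (gr Ψ).subgroupOf Q) ?_ (sup_le ?_ ?_)
  · rintro ⟨_, _⟩ ⟨a, rfl⟩ h
    obtain rfl : a = 1 := by simpa using h
    simp
  · rintro ⟨_, _⟩ ⟨⟨a, ha⟩, rfl⟩
    exact ⟨⟨a, mem_sup_left ha⟩, Prod.ext rfl (h1 a ha)⟩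
  · rintro ⟨_, _⟩ ⟨⟨a, ha⟩, rfl⟩
    exact ⟨⟨a, mem_sup_right ha⟩, Prod.ext rfl (h2 a ha)⟩

theorem exists_unique_of_bij {Q : Subgroup (G × H)}
    (h : Function.Bijective ((MonoidHom.fst G H).comp Q.subtype)) :
    ∃! Φ : G →* H, ∀ x ∈ Q, Φ x.1 = x.2 := by
  let e := MulEquiv.ofBijective _ h
  refine ⟨((MonoidHom.snd G H).comp Q.subtype).comp e.symm.toMonoidHom, fun x hx => ?_, fun Φ hΦ => ?_⟩
  · exact congrArg (fun y : Q => y.1.2) (e.symm_apply_apply ⟨x, hx⟩)
  · ext g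
    obtain ⟨x, rfl⟩ := e.surjective g
    exact (hΦ x.1 x.2).trans (congrArg (fun y : Q => y.1.2) (e.symm_apply_apply x)).symm

end Cfsg.Lib.Pres.Slim
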