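import Cfsg.Agent.Lib.Pres.Emb

/-!
Bounded presentations of the symplectic groups.
-/

set_option autoImplicit false

namespace Cfsg.Lib.Pres

open Cfsg.Lib.Linear Cfsg.Lib.Chev Cfsg.Lib.Chev.PreSys Cfsg.Lib.Forms WtData Subgroup Monoid Matrix B2
open scoped commutatorElement

universe u v w

variable {F : Type u} [Field F] [Finite F]

section

variable {I Φ : Type*} [Fintype I] [DecidableEq I] {R : RootSys I Φ} {G : Type w} [Group G] {S : PreSys R F G}

omit [Finite F] in
theorem univ_le (hS : S.St) {X : Subgroup G} (h : ∀ i, S.U {R.simple i} ⊔ S.U {R.neg (R.simple i)} ≤ X) :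
    S.U Set.univ ≤ X :=
  hS.univ_le_of_simple (fun i => h i ((S.U_union _ _).le
    (S.n_mem_U (.inl (Set.mem_singleton _)) (.inr (Set.mem_singleton _)) 1)))
    fun i t => h i (mem_sup_left (S.x_mem_U (Set.mem_singleton _) t))

theorem sc_weak (hS : S.St) (hC : S.SC) (i j : I) (c : I → Fˣ) (h : S.hprod Finset.univ.toList c = 1) :
    ∃ a b, c = Pi.mulSingle i a * Pi.mulSingle j b :=
  ⟨1, 1, by simpa using hS.tor_inj hS.mult_of_finite hC (h.trans (map_one _).symm)⟩

end

theorem range_lift {M M' Q : Type*} [Group M] [Group M'] [Group Q] (ν : Coprod M M' →* Q) :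
    ν.range = (ν.comp Coprod.inl).range ⊔ (ν.comp Coprod.inr).range := by
  rw [← MonoidHom.map_range, ← MonoidHom.map_range, ← Subgroup.map_sup, Coprod.range_inl_sup_range_inr, MonoidHom.range_eq_map]

variable (F) in
/-- The root subgroups of the symplectic group. -/
noncomputable abbrev sysC (n : ℕ) := (frameC F (n + 1)).sys (eichSelf _) ((stdE n True).baseC trivial)

theorem sysC_sc (n : ℕ) : (sysC F n).SC := by
  have hl : (wtE (n + 1) True).lg := trivial
  set P := stdE n True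
  refine ⟨Finset.univ.toList, Finset.nodup_toList _, by simp, fun c hc => funext fun j => ?_⟩
  have := torChar_fund (D := (P.baseC hl).eu) c (v := psum j) (j := j) (k := 1) fun i => by
    show (wtE (n + 1) True).f (P.simp _ i) ⬝ᵥ _ = _
    induction i using Fin.lastCases with
    | last =>
      have := j.2
      rw [P.simp_last, f_rt, fv, if_pos rfl, P.wt_p, ee_dot_psum]; simp only [Fin.val_last, Fin.ext_iff]; grind
    | cast i => simp only [P.f_psum, Fin.ext_iff, Fin.val_castSucc]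
  rwa [(frameC F (n + 1)).torChar_zero (eichSelf _) _ hc (P.mem_closure _), zpow_one, eq_comm] at this

theorem sysC_gen (n : ℕ) : (sysC F n).U Set.univ = ⊤ :=
  (Subgroup.map_id _).symm.trans (((frameC F (n + 1)).map_U _ _).trans (Symp.E_eq_top (fSymp_nondeg _)))

theorem A_C {n : ℕ} (k : Fin n) : ((stdE n True).baseC trivial).R.A k.castSucc (Fin.last n) =
    (if k.succ = Fin.last n then -2 else 0) ∧
    ((stdE n True).baseC trivial).R.A (Fin.last n) k.castSucc = if k.succ = Fin.last n then -1 else 0 := by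
  constructor <;> change (wtE (n + 1) True).f ((stdE n True).simp _ _) ⬝ᵥ ((stdE n True).simp _ _).1 = _
  · rw [Std.f_cast, Std.simp_last, rt_val, Std.wt_p]
    simp [Pi.single_apply, (Fin.castSucc_lt_last k).ne, @eq_comm _ (Fin.last n)]; split_ifs <;> simp
  · rw [Std.e_cast, Std.simp_last, f_rt, fv, if_pos rfl, Std.wt_p]
    simp [Pi.single_apply, (Fin.castSucc_lt_last k).ne', eq_comm]; split_ifs <;> simp

theorem prs_Sp4 : Prs (fSymp F 2).isom 6 32 := by
  have hS := (frameC F 2).st (eichSelf _) ((stdE 1 True).baseC trivial)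
  have hF := (frameC F 2).sep (eichSelf _) ((stdE 1 True).baseC trivial)
  have hO := (frameC F 2).opp (eichSelf _) ((stdE 1 True).baseC trivial)
  choose φ h1 h2 using fun i => exists_cov_inj hS hF hO (sysC_sc 1) (RootSys.pos_simple _ i)
  let μ := Coprod.lift (φ 0) (φ 1)
  have hA : Cov _ _ μ Coprod.inl := ⟨h2 0, injO_range (fun _ => rfl) (h1 0)⟩
  have hB : Cov _ _ μ Coprod.inr := ⟨h2 1, injO_range (fun _ => rfl) (h1 1)⟩
  refine (Rel.prs (prs_SL2.coprod' prs_SL2) ((B2.rel hS (A_C 0).1 (A_C 0).2 hF hO (sysC_sc 1) hA hB).mono le_rfl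
    fun Q _ ν π _ h e a => h a ?_)).map ((MulEquiv.subgroupCongr ?_).trans topEquiv)
  · rw [← range_lift]; exact e a
  refine top_le_iff.1 ((sysC_gen 1).ge.trans (univ_le hS fun i => ?_))
  fin_cases i
  exacts [hA.range.ge.trans (map_le_range _ _), hB.range.ge.trans (map_le_range _ _)]

theorem prs_Sp {n g r : ℕ} (hn : 2 ≤ n) (h : Prs (SpecialLinearGroup (Fin (n + 1)) F) g r) :
    Prs (fSymp F (n + 1)).isom (g + 3) (r + 33) := by
  obtain ⟨m, rfl⟩ : ∃ m, n = m + 1 := ⟨n - 1, by omega⟩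
  set P := stdE (m + 1) True
  set T := frameC F (m + 2)
  set β := P.baseC trivial
  have hS := T.st (eichSelf _) β
  have hF := T.sep (eichSelf _) β
  have hO := T.opp (eichSelf _) β
  have hC : (T.sys (eichSelf _) β).SC := sysC_sc _
  obtain ⟨φ, a1, a2⟩ := exists_emb P T (eichSelf _) hn fun _ => rfl
  choose A a3 a4 using fun k : Fin (m + 1) => exists_levi P T (eichSelf _) (fun _ => rfl) a1 a2 β
    (Fin.castSucc_lt_succ (i := k)).ne
  obtain ⟨ψ, b1, b2⟩ := exists_cov_inj hS hF hO hC (RootSys.pos_simple _ (Fin.last _))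
  let μ := Coprod.lift φ ψ
  have hA : ∀ k, Cov (T.sys (eichSelf _) β) (β.R.simple k.castSucc) μ (Coprod.inl.comp (A k)) := fun k =>
    (show β.R.simple k.castSucc = _ from P.simp_cast _ k) ▸ (a3 k).comp fun _ => rfl
  have hB : Cov _ _ μ Coprod.inr := ⟨b2, injO_range (fun _ => rfl) b1⟩
  obtain ⟨a, ha⟩ := gen3 (F := F) (n := m) (by omega)
  obtain ⟨c, hc⟩ := exists_gen F
  have e1 : (Fin.last m).succ = Fin.last (m + 1) := rfl
  refine ((Rel.prs (h.coprod' prs_SL2) (((B2.rel hS ((A_C _).1.trans (if_pos e1)) ((A_C _).2.trans (if_pos e1)) hF hO hC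
    (hA _) hB).and (Rel.comm ha (closure_sl2 hc) (Coprod.inl.comp (blkE Fin.castSuccEmb)) Coprod.inr ?_)).mono le_rfl
    fun Q _ ν π e h s a => ?_)).map ((MulEquiv.subgroupCongr ?_).trans topEquiv)).mono (by omega)
  · refine comm_of_gen closure_tv sl2_gen (A := φ.comp (blkE Fin.castSuccEmb)) (B := ψ) ?_
    rintro _ ⟨⟨⟨i, j⟩, t⟩, rfl⟩ _ ⟨b, -, u, rfl⟩
    rcases eq_or_ne i j with rfl | h
    · simp [tv]
    obtain ⟨θ, -, c1, c2, -⟩ := T.exists_x (eichSelf _) β
      (val_mk (P.inv_ne (Fin.last _)) (P.inv_ne _).symm fun _ => trivial)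
    have h' := (Fin.castSucc_injective _).ne h
    rw [MonoidHom.comp_apply, blkE_tv, b2, ← commutatorElement_eq_one_iff_commute]
    cases b
    · change ⁅φ (tv i.castSucc j.castSucc t), (T.sys _ β).x (β.R.neg (P.simp _ _)) u⁆ = 1
      rw [a2 _ _ h', P.simp_last, β.neg_eq, c2]
      exact T.comm_eq_one _ (P.val_sub h') (Val.inv (val_mk (P.inv_ne _) (P.inv_ne _).symm fun _ => trivial))
        (by simp [P, stdE, wtE]) (by simp [P, stdE, wtE]) (by simp [P, stdE, wtE]) _ _
    · change ⁅φ (tv i.castSucc j.castSucc t), (T.sys _ β).x (P.simp _ _) u⁆ = 1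
      rw [a2 _ _ h', P.simp_last, c1]
      exact T.comm_eq_one _ (P.val_sub h') (val_mk (P.inv_ne _) (P.inv_ne _).symm fun _ => trivial)
        (by simp [P, stdE, wtE]) (by simp [P, stdE, wtE]) (by simp [P, stdE, wtE]) _ _
  · let K : Fin (m + 2) → Subgroup Q := Fin.lastCases (ν.comp Coprod.inr).range
      fun k => (ν.comp (Coprod.inl.comp (A k))).range
    have k1 : ∀ k, InjO π ((ν.comp (Coprod.inl.comp (A k))).range ⊔ (ν.comp Coprod.inr).range) := fun k => by
      rcases eq_or_ne k (Fin.last m) with rfl | hk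
      · exact h.1
      refine InjO.orth hS hF hO hC (Fin.castSucc_lt_last k).ne ((A_C k).1.trans (if_neg ((Fin.succ_ne_last_iff _).2 hk)))
        ((hA k).comp e) (hB.comp e) fun x y => ?_
      obtain ⟨k, rfl⟩ := Fin.exists_castSucc_eq.2 hk
      obtain ⟨z, hz⟩ := ((a4 _ (blkE Fin.castSuccEmb).range).2 fun t => ⟨⟨_, blkE_tv _ k.castSucc k.succ t⟩,
        ⟨_, blkE_tv _ k.succ k.castSucc t⟩⟩) ⟨x, rfl⟩
      simpa [hz] using h.2 z y
    refine ct_inj hS hF hO (sc_weak hS hC 0 0) K (fun i => ?_) (fun i j => ?_) a ?_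
    · induction i using Fin.lastCases <;> simp only [K, Fin.lastCases_last, Fin.lastCases_castSucc]
      exacts [(hB.comp e).range, ((hA _).comp e).range]
    · induction i using Fin.lastCases <;> induction j using Fin.lastCases <;>
        simp only [K, Fin.lastCases_last, Fin.lastCases_castSucc]
      · simpa using (hB.comp e).inj
      · rw [sup_comm]; exact k1 _
      · exact k1 _
      · exact (injO_range (ν := ν.comp Coprod.inl) (fun _ => e _) a1).mono
          (sup_le (by rintro _ ⟨x, rfl⟩; exact ⟨_, rfl⟩) (by rintro _ ⟨x, rfl⟩; exact ⟨_, rfl⟩))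
    · refine ((range_lift ν).le.trans (sup_le ?_ (le_iSup_of_le (Fin.last _) (by simp [K])))) (s a)
      rw [MonoidHom.range_eq_map, map_le_iff_le_comap, top_le_iff]
      refine sl_top fun k => (a4 k _).1 ?_
      rintro _ ⟨x, rfl⟩
      exact le_iSup K k.castSucc (by simp only [K, Fin.lastCases_castSucc]; exact ⟨x, rfl⟩)
  refine top_le_iff.1 ((sysC_gen _).ge.trans (univ_le hS fun i => ?_))
  induction i using Fin.lastCases
  exacts [hB.range.ge.trans (map_le_range _ _), (hA _).range.ge.trans (map_le_range _ _)]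

instance isCyclic_center_Sp (m : ℕ) : IsCyclic (center (fSymp F m).isom) := by
  refine ⟨⟨⟨_, (Symp.mem_center_iff (fSymp_nondeg m)).2 (.inr rfl)⟩, fun g => ?_⟩⟩
  rcases (Symp.mem_center_iff (fSymp_nondeg m)).1 g.2 with h | h
  exacts [⟨0, Subtype.ext h.symm⟩, ⟨1, Subtype.ext h.symm⟩]

theorem Prs.sp {m g r : ℕ} (h : Prs (fSymp F m).isom g r) :
    Prs (symplecticGroup (Fin m) F) g r ∧ Prs (PSp m F) g (r + 1) :=
  ⟨h.map (spEquiv F m).symm, h.quot_center.map (pspEquiv F m).symm⟩

theorem prs_SL_big {n : ℕ} (hn : 3 ≤ n) : Prs (SpecialLinearGroup (Fin n) F) 4 22 := by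
  obtain rfl | rfl | rfl | h : n = 3 ∨ n = 4 ∨ n = 5 ∨ 6 ≤ n := by omega
  exacts [prs_SL3.mono (by decide), prs_SL4.mono (by decide), prs_SL5.mono (by decide), by
    obtain ⟨m, rfl⟩ : ∃ m, n = m + 1 := ⟨n - 1, by omega⟩
    exact prs_SL_large (by omega) (prs_alt_sym (by omega)).1]

end Cfsg.Lib.Pres
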