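import Cfsg.Agent.Lib.Pres.SL2

/-!
Moving relations between one-parameter groups around by a torus.
-/

set_option autoImplicit false

namespace Cfsg.Lib.Pres

open scoped commutatorElement

variable {F : Type*} [Field F] {Q Q' : Type*} [Group Q] [Group Q'] {c d e : F} {x y z : F → Q}
  {g g' h : Q}

theorem Act.mul (A : Act x g d) (B : Act x h e) : Act x (g * h) (d * e) :=
  ⟨A.add, fun t => by rw [mul_assoc d, ← A.conj, ← B.conj]; group⟩

theorem Act.inv (A : Act x g d) (hd : d ≠ 0) : Act x g⁻¹ d⁻¹ :=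
  ⟨A.add, fun t => by
    have := A.conj (d⁻¹ * t)
    rw [mul_inv_cancel_left₀ hd] at this
    rw [← this]; group⟩

theorem Act.map (φ : Q →* Q') (A : Act x h c) : Act (fun t => φ (x t)) (φ h) c :=
  ⟨fun t s => by rw [A.add, map_mul], fun t => by rw [← A.conj, map_mul, map_mul, map_inv]⟩

theorem Act.cast (A : Act x g d) (h1 : g = g') (h2 : d = e) : Act x g' e := h1 ▸ h2 ▸ A

theorem Act.of_conj (hc : Gen c) (A : Act x h c) (hg : Commute g h) (e : g * x 1 * g⁻¹ = x d) :
    Act x g d := ⟨A.add, fun t => by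
  rcases eq_or_ne t 0 with rfl | ht
  · simp [add_zero' A.add]
  obtain ⟨m, rfl⟩ := hc.2 t ht
  rw [mul_comm d, ← (A.pow m).conj, ← e, ← mul_one (c ^ m), ← (A.pow m).conj, ← mul_assoc,
    ← mul_assoc, (hg.pow_right m).eq, mul_assoc, ← _root_.mul_inv_rev, (hg.pow_right m).eq]
  group⟩

theorem Act.unique (hc : Gen c) (A : Act x h c) (B : Act y h c) (e : x 1 = y 1) (t : F) :
    x t = y t := by
  rcases eq_or_ne t 0 with rfl | ht
  · rw [add_zero' A.add, add_zero' B.add]
  obtain ⟨m, rfl⟩ := hc.2 t ht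
  rw [← mul_one (c ^ m), ← (A.pow m).conj, ← (B.pow m).conj, e]

theorem Act.comm {a b : F} (A : Act x g d) (B : Act y g e) (h : Commute (x a) (y b)) :
    Commute (x (d * a)) (y (e * b)) := by
  rw [← A.conj, ← B.conj]; exact h.conj g

theorem Act.comp {a b k f : F} (A : Act x g d) (B : Act y g e) (C : Act z g f)
    (h : ⁅x a, y b⁆ = z k) : ⁅x (d * a), y (e * b)⁆ = z (f * k) := by
  rw [← A.conj, ← B.conj, ← C.conj, ← h, conjugate_commutatorElement]

theorem pair_all (hc : Gen c) {P : F → F → Prop} (he : e ≠ 0) (h0 : ∀ b, P 0 b) (h1 : ∀ b, P 1 b)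
    (h : ∀ a b, P a b → P (c * a) (e * b)) (a b : F) : P a b := by
  rcases eq_or_ne a 0 with rfl | ha
  · exact h0 b
  obtain ⟨m, rfl⟩ := hc.2 a ha
  clear ha
  induction m generalizing b with
  | zero => simpa using h1 b
  | succ m ih => simpa [pow_succ', he] using h _ _ (ih (e⁻¹ * b))

theorem pow_mul_mem (hc : Gen c) {K : AddSubmonoid F} {k : ℕ} (hk : k ≠ 0)
    (h : ∀ b ∈ K, c ^ k * b ∈ K) {b : F} (hb : b ∈ K) (s : F) : s ^ k * b ∈ K := by
  rcases eq_or_ne s 0 with rfl | hs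
  · simp [hk]
  obtain ⟨m, rfl⟩ := hc.2 s hs
  clear hs
  induction m with
  | zero => simpa using hb
  | succ m ih => simpa [pow_succ', mul_pow, mul_assoc] using h _ ih

variable [Finite F]

theorem neg_mem_fin {K : AddSubmonoid F} {b : F} (hb : b ∈ K) : -b ∈ K := by
  have := K.nsmul_mem hb (Nat.card F - 1)
  rwa [eq_neg_of_add_eq_zero_left (show (Nat.card F - 1) • b + b = 0 by
    rw [← succ_nsmul, Nat.sub_add_cancel Nat.card_pos, card_nsmul_eq_zero'])] at this

theorem mem_of_nat_mul {K : AddSubmonoid F} {b : F} (n : ℕ) (hn : (n : F) ≠ 0) (hb : n * b ∈ K) :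
    b ∈ K := by
  have := K.nsmul_mem hb (n ^ (Nat.card F - 2))
  rwa [nsmul_eq_mul, Nat.cast_pow, ← mul_assoc, ← pow_succ, show Nat.card F - 2 + 1 = Nat.card F - 1 by
    have := Finite.one_lt_card (α := F); omega, pow_card_sub_one hn, one_mul] at this

theorem exists_pow_prime (p : ℕ) [hp : Fact p.Prime] (h : (p : F) = 0) (t : F) : ∃ s, s ^ p = t :=
  have := (CharP.charP_iff_prime_eq_zero hp.out).2 h
  Finite.injective_iff_surjective.1 (frobenius_inj F p) t

theorem span2 (hc : Gen c) {K : AddSubmonoid F} (h1 : 1 ∈ K) (h : ∀ b ∈ K, c ^ 2 * b ∈ K) (t : F) :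
    t ∈ K := by
  have h2 : ∀ s : F, s ^ 2 ∈ K := fun s => mul_one (s ^ 2) ▸ pow_mul_mem hc two_ne_zero h h1 s
  by_cases h0 : ((2 : ℕ) : F) = 0
  · obtain ⟨s, rfl⟩ := exists_pow_prime 2 h0 t
    exact h2 s
  refine mem_of_nat_mul 2 h0 (mem_of_nat_mul 2 h0 ?_)
  convert add_mem (h2 (t + 1)) (neg_mem_fin (h2 (t - 1))) using 1
  push_cast; ring

theorem span3 (hc : Gen c) {K : AddSubmonoid F} (h1 : 1 ∈ K) (h : ∀ b ∈ K, c ^ 3 * b ∈ K)
    (h' : (2 : F) = 0 → c ∈ K ∨ c ^ 2 ∈ K) (t : F) : t ∈ K := by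
  have h2 : ∀ s : F, s ^ 3 ∈ K := fun s => mul_one (s ^ 3) ▸ pow_mul_mem hc three_ne_zero h h1 s
  by_cases h0 : ((2 : ℕ) : F) = 0
  · have h3 : c ∈ K ∧ c ^ 2 ∈ K := by
      have h0 : (2 : F) = 0 := by simpa using h0
      have := add_mem (add_mem (h2 (c + 1)) (h2 c)) h1
      rcases h' h0 with h3 | h3
      · exact ⟨h3, by convert add_mem this h3 using 1; linear_combination -(c ^ 3 + c ^ 2 + 2 * c + 1) * h0⟩
      · exact ⟨by convert add_mem this h3 using 1; linear_combination -(c ^ 3 + 2 * c ^ 2 + c + 1) * h0, h3⟩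
    rcases eq_or_ne t 0 with rfl | ht
    · exact zero_mem _
    obtain ⟨m, rfl⟩ := hc.2 t ht
    rw [← Nat.div_add_mod' m 3, pow_add, pow_mul]
    refine pow_mul_mem hc three_ne_zero h ?_ _
    have := Nat.mod_lt m three_pos
    interval_cases m % 3 <;> simp [h1, h3]
  by_cases h3 : ((3 : ℕ) : F) = 0
  · obtain ⟨s, rfl⟩ := exists_pow_prime 3 h3 t
    exact h2 s
  refine mem_of_nat_mul 2 h0 (mem_of_nat_mul 3 h3 ?_)
  convert add_mem (add_mem (h2 (t + 1)) (h2 (t - 1))) (neg_mem_fin (add_mem (h2 t) (h2 t))) using 1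
  push_cast; ring

/-- The parameters `b` with `y b` commuting with `u`. -/
def commK (u : Q) (hy : ∀ t s, y (t + s) = y t * y s) : AddSubmonoid F where
  carrier := {b | Commute u (y b)}
  zero_mem' := by simp [add_zero' hy]
  add_mem' ha hb := by rw [Set.mem_ofPred_eq, hy]; exact ha.mul_right hb

theorem comm2 (hc : Gen c) (A : Act x g c) (B : Act y g e) (he : e ≠ 0) (A' : Act x g' 1)
    (B' : Act y g' (c ^ 2)) (h1 : Commute (x 1) (y 1)) (a b : F) : Commute (x a) (y b) :=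
  pair_all hc (P := fun a b => Commute (x a) (y b)) he (by simp [add_zero' A.add])
    (span2 hc (K := commK (x 1) B.add) h1 fun _ h => one_mul (1 : F) ▸ A'.comm B' h)
    (fun _ _ => A.comm B) a b

theorem comm3 (hc : Gen c) (A : Act x g c) (B : Act y g e) (he : e ≠ 0) (A' : Act x g' 1)
    (B' : Act y g' (c ^ 3)) (h1 : Commute (x 1) (y 1))
    (h2 : (2 : F) = 0 → Commute (x 1) (y c) ∨ Commute (x 1) (y (c ^ 2))) (a b : F) :
    Commute (x a) (y b) :=
  pair_all hc (P := fun a b => Commute (x a) (y b)) he (by simp [add_zero' A.add])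
    (span3 hc (K := commK (x 1) B.add) h1 (fun _ h => one_mul (1 : F) ▸ A'.comm B' h) h2)
    (fun _ _ => A.comm B) a b

theorem comp3 (hc : Gen c) (A : Act x g c) (B : Act y g e) (C : Act z g (c * e)) (he : e ≠ 0)
    (A' : Act x g' 1) (B' : Act y g' (c ^ 3)) (C' : Act z g' (c ^ 3))
    (h0 : ∀ a b, Commute (y a) (z b)) (h1 : ⁅x 1, y 1⁆ = z 1) (h2 : ⁅x 1, y c⁆ = z c) (a b : F) :
    ⁅x a, y b⁆ = z (a * b) := by
  let K : AddSubmonoid F :=
    { carrier := {b | ⁅x 1, y b⁆ = z b}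
      zero_mem' := by simp [add_zero' B.add, add_zero' C.add]
      add_mem' := fun {a b} ha hb => by
        rw [Set.mem_ofPred_eq] at *
        rw [B.add, C.add, ← mul_inv_cancel_right (z a * z b) (y a), mul_assoc (z a), ← (h0 a b).eq,
          ← ha, ← hb]
        group }
  refine pair_all hc (P := fun a b => ⁅x a, y b⁆ = z (a * b)) he
    (by simp [add_zero' A.add, add_zero' C.add]) (fun b => ?_) (fun a b h => ?_) a b
  · rw [one_mul]; exact span3 hc (K := K) h1 (fun _ h => one_mul (1 : F) ▸ A'.comp B' C' h :) (fun _ => .inl h2) b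
  · rw [A.comp B C h, mul_mul_mul_comm]

omit [Finite F] in
theorem dihedral_comm {a b k : Q} (ha : a * a = 1) (hb : b * b = 1) (hk : k * k = 1)
    (h : ⁅a, b⁆ = k) : Commute a k ∧ Commute b k := by
  have e : k = a * b * a * b := by
    rw [← h, commutatorElement_def, inv_eq_of_mul_eq_one_left ha, inv_eq_of_mul_eq_one_left hb]
  have e' : k = b * a * b * a := by
    rw [← inv_eq_of_mul_eq_one_left hk, e]
    simp [mul_assoc, inv_eq_of_mul_eq_one_left ha, inv_eq_of_mul_eq_one_left hb]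
  constructor
  · show a * k = k * a
    nth_rewrite 1 [e']; rw [e]; group
  · show b * k = k * b
    nth_rewrite 1 [e]; rw [e']; group

end Cfsg.Lib.Pres
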