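import Cfsg.Agent.Lib.Pres.TwoChev
import Cfsg.Agent.Lib.Chev.Thom
import Cfsg.Agent.Lib.Chev.All

/-!
Squares of conjugacy classes: the data for the classical and the exceptional types.
-/

set_option autoImplicit false

namespace Cfsg.Lib.Pres

open Cfsg.Lib.Linear Cfsg.Lib.Chev Cfsg.Lib.Chev.PreSys Cfsg.Lib.Forms WtData Subgroup Matrix Cfsg.Lie Function

theorem euA_A {k : ℕ} (a b : Fin k) :
    (euA k).R.A a b = if a.val = b.val then 2 else if a.val + 1 = b.val ∨ b.val + 1 = a.val then -1 else 0 := by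
  simp only [← RootSys.pair_simple_simple, pairA, Eu.R_simple, euA_simple, Fin.ext_iff, Fin.val_castSucc, Fin.val_succ]
  grind

/-- Evaluation on the tables. -/
def evN (D : ChevalleyDatum) (y : List ℤ) (r : ℕ) : ℤ := ∑ i : Fin D.rank, D.cartan i r * y.getD i 0

theorem thom_chev {D : ChevalleyDatum} (hD : D ∈ [chevG2, chevB2, chevD4, chevF4, chevE6, chevE7, chevE8]) {F : Type*} [Field F]
    [Fintype F] (hq : 9 ≤ Fintype.card F) (J c : List ℕ) (m : ℕ) (l μ : List ℤ)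
    (h : (∀ i ∈ c, i < D.rank) ∧ (∀ a : Fin J.length, (J.get a) < D.rank ∧ evN D μ (D.simple (J.get a)) = (if a.val = 0 then 1 else 0) ∧
      wN D (List.replicate m c).flatten (D.simple (J.get a)) = D.neg (D.simple (J.get a)) ∧ ∀ b : Fin J.length, D.cartan (J.get a) (D.simple (J.get b)) =
        if a.val = b.val then 2 else if a.val + 1 = b.val ∨ b.val + 1 = a.val then -1 else 0) ∧
      (∀ i : Fin D.rank, 0 ≤ evN D l (D.simple i) ∧ (evN D l (D.simple i) = 0 ↔ ∃ a : Fin J.length, (J.get a) = i) ∧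
        evN D l (wN D (List.replicate m c).flatten (D.simple i)) = -evN D l (D.simple i)) ∧
      ∀ r : Fin D.nroots, evN D l r ≤ 7) {G : Type*} [Group G] (e : G ≃* D.group F) : SqCl G := by
  obtain ⟨R, η, hc, hm⟩ := good_of_mem hD
  obtain ⟨h1, h2, h3, h4⟩ := h
  obtain ⟨w, hw⟩ : ∃ w : List (Fin D.rank), w.map Fin.val = (List.replicate m c).flatten :=
    ⟨(List.replicate m (c.attach.map fun i => ⟨i.1, h1 i.1 i.2⟩)).flatten, by simp [List.map_flatten, comp_def]⟩
  have ev : ∀ (y : List ℤ) (r : Fin D.nroots), R.ev r (fun i => y.getD i 0) = evN D y r := fun y r => by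
    simp only [RootSys.ev, RootSys.wr, evN, hc.cartan_eq]
  simp only [← hw] at h2 h3
  refine ((hc.gst hm).thom (hc.gsep hm) (hc.gopp hm) (hc.ggen hm) (hc.conn hD) hq (j := fun a => ⟨(J.get a), (h2 a).1⟩)
    (l := fun i => l.getD i 0) (μ := fun i => μ.getD i 0) (w := R.wprod w) ⟨fun a b => ?_, fun i => ?_, fun i => ?_, fun r => ?_,
      fun a => ?_, R.wprod_mem_W w, fun i => ?_, .inl fun a => Fin.ext ?_⟩).map (π := e.symm.toMonoidHom) e.symm.surjective
      (by rw [hc.center_eq_bot hm]; exact bot_le)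
  · rw [hc.A_eq, euA_A]; exact (h2 a).2.2.2 b
  · rw [ev, hc.simple_eq]; exact (h3 i).1
  · rw [ev, hc.simple_eq, (h3 i).2.1]; simp only [Fin.ext_iff]
  · rw [ev]; exact h4 r
  · rw [ev, hc.simple_eq]; exact (h2 a).2.1
  · rw [ev, ev, ← wN_eq hc, hc.simple_eq]; exact (h3 i).2.2
  · rw [← wN_eq hc, hc.neg_eq, hc.simple_eq]; exact (h2 a).2.2.1

section

variable {F : Type*} [Field F] [Fintype F] (hq : 9 ≤ Fintype.card F) {G : Type*} [Group G]

include hq

theorem thom_G2 (e : G ≃* chevG2.group F) : SqCl G :=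
  thom_chev (by simp) hq [] [0, 1] 3 [3, 5] [] (by decide +kernel) e

theorem thom_F4 (e : G ≃* chevF4.group F) : SqCl G :=
  thom_chev (by simp) hq [0, 1] [0, 2, 1, 3] 6 [3, 6, 9, 5] [0, -1, -2, -2] (by decide +kernel) e

theorem thom_E6 (e : G ≃* chevE6.group F) : SqCl G :=
  thom_chev (by simp) hq [3, 1] [0, 3, 5, 1, 2, 4] 6 [5, 6, 9, 12, 9, 5] [0, 0, -1] (by decide +kernel) e

theorem thom_E7 (e : G ≃* chevE7.group F) : SqCl G :=
  thom_chev (by simp) hq [2, 3, 4, 5] [0, 3, 5, 1, 2, 4, 6] 9 [5, 7, 9, 13, 10, 7, 4] [-1] (by decide +kernel) e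

theorem thom_E8 (e : G ≃* chevE8.group F) : SqCl G :=
  thom_chev (by simp) hq [2, 3, 4, 5, 6, 7] [0, 3, 5, 7, 1, 2, 4, 6] 15 [9, 13, 17, 25, 20, 15, 10, 5] [-1]
    (by decide +kernel) e

end

end Cfsg.Lib.Pres
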