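import Cfsg.Agent.Lib.Pres.TwoBCD
import Cfsg.Agent.Lib.Chev.Thom

/-!
Squares of conjugacy classes: the data for the classical types.
-/

set_option autoImplicit false

namespace Cfsg.Lib.Pres

open Cfsg.Lib.Linear Cfsg.Lib.Chev Cfsg.Lib.Chev.PreSys Cfsg.Lib.Forms WtData Subgroup Matrix Function

universe u

section

variable {I Φ J : Type*} [Fintype I] [DecidableEq I] [Fintype J] [DecidableEq J] (D : Eu I Φ J)

/-- The coroot lattice. -/
abbrev coL : AddSubgroup (J → ℤ) := AddSubgroup.closure (Set.range fun i => D.f (D.simple i))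

omit [DecidableEq J] in
theorem exists_ev {v : J → ℤ} (h : v ∈ coL D) : ∃ l, ∀ r, D.R.ev r l = v ⬝ᵥ D.e r := by
  obtain ⟨c, rfl⟩ := exists_coeff_of_closure' h
  exact ⟨c, fun r => by
    simp only [RootSys.ev, RootSys.wr, D.pair_eq, sum_dotProduct, smul_dotProduct, smul_eq_mul, mul_comm, Eu.R_simple]⟩

theorem thom_eu {k : ℕ} {j : Fin k → I} {g : Fin (k + 1) → J} (hg : Injective g)
    (he : ∀ a, D.e (D.simple (j a)) = ee (g a.castSucc) - ee (g a.succ))
    (hf : ∀ a, D.f (D.simple (j a)) = ee (g a.castSucc) - ee (g a.succ)) {v u : J → ℤ} (hv : v ∈ coL D) (hu : u ∈ coL D)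
    (u1 : ∀ a, u (g a) = if a.val = 0 then 1 else 0) (v1 : ∀ i, 0 ≤ v ⬝ᵥ D.e (D.simple i))
    (v2 : ∀ i, v ⬝ᵥ D.e (D.simple i) = 0 ↔ ∃ a, j a = i) (v3 : ∀ r, v ⬝ᵥ D.e r ≤ 7) {w : Equiv.Perm Φ} (hw : w ∈ D.R.W)
    (w1 : ∀ r, v ⬝ᵥ D.e (w r) = -(v ⬝ᵥ D.e r)) (w2 : (∀ a, D.e (w (D.simple (j a))) = -D.e (D.simple (j a))) ∨
      ∀ a, D.e (w (D.simple (j a))) = D.e (D.simple (j a))) : ∃ l μ, D.R.Thom j l μ w := by
  obtain ⟨l, hl⟩ := exists_ev D hv
  obtain ⟨μ, hμ⟩ := exists_ev D hu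
  refine ⟨l, μ, fun a b => ?_, by simpa [hl] using v1, by simpa [hl] using v2, by simpa [hl] using v3, fun a => ?_, hw,
    fun i => by simp [hl, w1], w2.imp (fun h a => D.e_inj ((h a).trans (D.e_neg _).symm)) fun h a => D.e_inj (h a)⟩
  · rw [D.R_A, (euA k).R_A, he, hf, euA_e, euA_f]
    simp [euA_simple, Pi.single_apply, hg.eq_iff]
  · simp [hμ, he, u1]

end

theorem connA' (n : ℕ) : (euA (n + 1)).R.Conn := (euA _).R.conn_of_tree 0 (fun i => i) fun j => by
  obtain ⟨_ | j, hj⟩ := j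
  · exact Or.inl rfl
  refine Or.inr ⟨⟨j, by omega⟩, by simp, ?_⟩
  simp only [← RootSys.pair_simple_simple, pairA, Eu.R_simple, euA_simple, Fin.ext_iff, Fin.val_castSucc, Fin.val_succ, ne_eq]
  grind

variable {F : Type u} [Field F] [Fintype F] (hq : 9 ≤ Fintype.card F)

include hq

theorem thom_A (n : ℕ) : SqCl' (SpecialLinearGroup (Fin (n + 2)) F) := by
  let θ : PhiA (n + 1) := ⟨(0, Fin.last _), Fin.last_pos.ne⟩
  obtain ⟨l, μ, h⟩ := thom_eu (euA (n + 1)) (k := n - 1) (j := fun a => ⟨a + 1, by omega⟩) (g := fun a => ⟨a + 1, by omega⟩)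
    (fun a b e => Fin.ext (by simpa using e)) (fun a => rfl) (fun a => rfl) ((euA _).fmem θ)
    ((euA _).fmem ⟨(1, 0), by simp⟩) (fun a => by
      simp only [euA_f, Pi.single_apply, Fin.ext_iff, Pi.sub_apply, Fin.val_one, Fin.val_zero]; grind)
    (fun i => by
      simp only [θ, euA_f, euA_e, euA_simple, Fin.ext_iff, dotProduct_sub, dotProduct_single, Pi.sub_apply, Pi.single_apply,
        Fin.val_castSucc, Fin.val_succ, Fin.val_last, Fin.val_zero]; grind)
    (fun i => by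
      simp only [θ, euA_f, euA_e, euA_simple, Fin.ext_iff, dotProduct_sub, dotProduct_single, Pi.sub_apply, Pi.single_apply,
        Fin.val_castSucc, Fin.val_succ, Fin.val_last, Fin.val_zero]
      exact ⟨fun h => ⟨⟨i - 1, by grind⟩, by grind⟩, fun ⟨a, h⟩ => by grind⟩)
    (fun r => by rw [← Eu.pair_eq]; exact (RootSys.pair_le _ _ _).trans (by decide)) ((euA _).R.reflPerm_mem_W θ)
    (fun r => by simp only [← Eu.pair_eq, RootSys.reflPerm_apply, RootSys.pair_refl_right, RootSys.pair_self]; ring)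
    (.inr fun a => congrArg _ ((euA _).R.refl_of_pair_eq_zero (by
      simp only [θ, pairA, euA_simple, Fin.ext_iff, Fin.val_castSucc, Fin.val_succ, Fin.val_last, Fin.val_zero]
      split_ifs <;> omega)))
  exact sysA_st.thom sysA_sep sysA_opp sysA_gen (connA' n) hq h

variable {Kd : Kind (RingHom.id F)} {ι : Type} [Fintype ι] [DecidableEq ι] {n : ℕ} {D : Form Kd (ι → F)}
  {W : WtData ι (Fin (n + 1))} (T : Frame W D) (P : W.Std) (β : W.Base (Fin (n + 1)))

omit hq in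
/-- The sign changes in the Weyl group. -/
def Sg : Submonoid (Fin (n + 1) → ℤ) where
  carrier := {ε | ∃ w ∈ β.R.W, ∀ r, (w r).1 = ε * r.1}
  one_mem' := ⟨1, one_mem _, by simp⟩
  mul_mem' := fun ⟨w, a, b⟩ ⟨w', a', b'⟩ => ⟨w * w', mul_mem a a', by simp [b, b', mul_assoc]⟩

include T in
theorem thom_std {l : W.Phi} (hβ : β.simple = P.simp l) {k : ℕ} (hk : k + 1 ≤ n) (hk' : n ≤ k + 2) {y : ℤ} (hy : 0 < y)
    (h1 : ∀ i, y • ee i ∈ coL β.eu) (h2 : 4 * y ≤ 7 ∨ ¬ W.lg ∧ 3 * y ≤ 7)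
    (h3 : ∀ v : Fin (n + 1) → ℤ, 0 ≤ v → (∀ i, i.val ≤ k + 1 → 0 < v i) → 0 < v ⬝ᵥ l.1)
    (h4 : ∃ i : Fin n, W.f l ⬝ᵥ (ee i.castSucc - ee i.succ) ≠ 0)
    (h5 : ∀ i : Fin (n + 1), i.val ≤ k + 1 → ∃ ε ∈ Sg β, ∀ i', i'.val ≤ k + 1 → ε i' = if i' = i then -1 else 1) :
    SqCl' D.E := by
  have : Nonempty ι := ⟨P.p 0⟩
  let v : Fin (n + 1) → ℤ := fun i => (if i.val = 0 then 2 else if i.val ≤ k + 1 then 1 else 0) * y
  have e1 : ∀ i : Fin n, β.eu.e (β.eu.simple i.castSucc) = ee i.castSucc - ee i.succ := fun i =>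
    (congrArg (fun f => (f i.castSucc).1) hβ).trans (P.e_cast l i)
  have e2 : ∀ i : Fin n, β.eu.f (β.eu.simple i.castSucc) = ee i.castSucc - ee i.succ := fun i =>
    (congrArg W.f (congrFun hβ _)).trans (P.f_cast l i)
  have e3 : β.eu.simple (Fin.last n) = l := (congrFun hβ _).trans (P.simp_last l)
  have v0 : 0 < v ⬝ᵥ β.eu.e (β.eu.simple (Fin.last n)) :=
    e3 ▸ h3 v (fun i => by simp only [v, Pi.zero_apply]; split_ifs <;> omega) fun i hi => by simp only [v]; split_ifs <;> omega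
  obtain ⟨ε, ⟨w, hw, w1⟩, w2⟩ : ∃ ε ∈ Sg β, ∀ i, i.val ≤ k + 1 → ε i = -1 := by
    choose! ε a b using h5
    refine ⟨∏ i with i.val ≤ k + 1, ε i, prod_mem fun i hi => a i (by simpa using hi), fun i hi => ?_⟩
    rw [Finset.prod_apply, Finset.prod_eq_single i (fun i' h h' => by rw [b i' (by simpa using h) i hi, if_neg h'.symm])
      (by simp [hi]), b i hi i hi, if_pos rfl]
  have v4 : ∀ a, v ⬝ᵥ W.wt a ≤ 2 * y ∧ (a ≠ P.p 0 → v ⬝ᵥ W.wt a ≤ y) := fun a => by
    rcases P.cases a with h | ⟨i, rfl | rfl⟩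
    · simp [W.inv_eq_self_iff.1 h, hy.le]
    · simp only [P.wt_p, dotProduct_single, v, P.p_inj.ne_iff, Ne, Fin.ext_iff, Fin.val_zero]; split_ifs <;> omega
    · simp only [W.wt_inv, P.wt_p, dotProduct_neg, dotProduct_single, v]; split_ifs <;> omega
  obtain ⟨l, μ, h⟩ := thom_eu β.eu (k := k) (j := fun a => Fin.castSucc ⟨a + 1, by omega⟩) (g := fun a => ⟨a + 1, by omega⟩)
    (fun a b e => Fin.ext (by simpa using e)) (fun a => e1 _) (fun a => e2 _) (v := v)
    (u := -β.eu.f (β.eu.simple (Fin.castSucc ⟨0, by omega⟩))) (by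
      rw [show v = ∑ i : Fin (n + 1), (if i.val = 0 then 2 else if i.val ≤ k + 1 then 1 else 0 : ℤ) • y • ee i by
        ext
        simp only [v, Finset.sum_apply, Pi.smul_apply, Pi.single_apply, smul_eq_mul, mul_ite, mul_one, mul_zero, Finset.sum_ite_eq,
          Finset.mem_univ, if_true]]
      exact sum_mem fun i _ => zsmul_mem (h1 i) _)
    (neg_mem (β.eu.fmem _)) (fun a => by
      simp only [e2, Pi.single_apply, Fin.ext_iff, Pi.sub_apply, Pi.neg_apply, Fin.val_castSucc, Fin.val_succ]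
      split_ifs <;> first | omega | contradiction)
    (fun i => by
      induction i using Fin.lastCases with
      | last => exact v0.le
      | cast i => simp only [e1, v, dotProduct_sub, dotProduct_single, Fin.val_castSucc, Fin.val_succ]; grind)
    (fun i => by
      induction i using Fin.lastCases with
      | last => exact iff_of_false v0.ne' fun ⟨a, h⟩ => (Fin.castSucc_lt_last _).ne h
      | cast i =>
        simp only [e1, v, dotProduct_sub, dotProduct_single, Fin.val_castSucc, Fin.val_succ, Fin.ext_iff]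
        exact ⟨fun h => ⟨⟨i - 1, by grind⟩, by grind⟩, fun ⟨a, h⟩ => by grind⟩)
    (fun r => by
      obtain ⟨a, b, h, rfl⟩ := exists_rt r
      change v ⬝ᵥ (W.wt a + W.wt b) ≤ 7
      have a1 := v4 a; have a2 := v4 b
      rw [dotProduct_add]
      rcases h2 with h2 | ⟨h2, _⟩
      · omega
      by_cases c : a = P.p 0
      · have := a2.2 fun e => h2 (h.2.2 (e.trans c.symm)); omega
      · have := a1.2 c; omega) hw
    (fun r => by
      change v ⬝ᵥ (w r).1 = -(v ⬝ᵥ r.1)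
      rw [w1, dotProduct, dotProduct, ← Finset.sum_neg_distrib]
      refine Finset.sum_congr rfl fun i _ => ?_
      by_cases c : i.val ≤ k + 1
      · simp [w2 i c]
      · simp only [v, if_neg c, if_neg (show ¬ i.val = 0 by omega), zero_mul, neg_zero])
    (.inl fun a => (w1 _).trans (by
      change ε * β.eu.e _ = _
      rw [e1]; ext i
      by_cases c : i.val ≤ k + 1
      · simp [w2 i c]
      · simp only [Pi.mul_apply, Pi.sub_apply, Pi.neg_apply, Pi.single_apply, Fin.ext_iff, Fin.val_castSucc, Fin.val_succ]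
        grind))
  have hE : D.E = (T.sys (eichSelf D) β).U Set.univ := (T.map_U (eichSelf D) β).symm.trans (map_id _)
  have hx : ∀ r t, (T.sys (eichSelf D) β).x r t ∈ D.E := fun r t => hE ▸ PreSys.x_mem_U _ (Set.mem_univ r) t
  refine ((T.st _ β).restrict _ _ hx).thom ((T.sep _ β).restrict _ hx) ((T.opp _ β).restrict (T.sep _ β) _ hx)
    (restrict_univ _ hE hx) (β.R.conn_of_tree 0 (fun i => i) fun j => ?_) hq h
  induction j using Fin.lastCases with
  | last => exact .inr ⟨h4.choose.castSucc, by simp, by rw [Eu.R_A, e1, e3]; exact h4.choose_spec⟩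
  | cast j =>
    obtain ⟨_ | j, hj⟩ := j
    · exact Or.inl rfl
    refine Or.inr ⟨Fin.castSucc ⟨j, by omega⟩, by simp, ?_⟩
    simp only [Eu.R_A, e1, e2, sub_dotProduct, single_dotProduct, Pi.sub_apply, Pi.single_apply, Fin.ext_iff, Fin.val_castSucc,
      Fin.val_succ]
    grind

omit hq [Fintype ι] in
theorem sg_single {r : W.Phi} {i : Fin (n + 1)} {a b : ℤ} (h1 : r.1 = a • ee i) (h2 : W.f r = b • ee i) (h : a * b = 2) :
    (fun i' => if i' = i then -1 else 1) ∈ Sg β := ⟨_, β.R.reflPerm_mem_W r, fun s => funext fun i' => by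
  change (s.1 - (W.f r ⬝ᵥ s.1) • r.1) i' = _
  rw [h1, h2, smul_dotProduct, single_dotProduct]
  by_cases c : i' = i
  · subst c; simp; linear_combination (-s.1 i') * h
  · simp [c]⟩

omit hq [Fintype ι] in
include P in
theorem sg_double {i j : Fin (n + 1)} (h : i ≠ j) : ∃ ε ∈ Sg β, ∀ i', i' ≠ j → ε i' = if i' = i then -1 else 1 := by
  refine ⟨fun i' => if i' = i ∨ i' = j then -1 else 1, ⟨_, mul_mem (β.R.reflPerm_mem_W (rt _ _ (P.val_sub h)))
    (β.R.reflPerm_mem_W (rt _ _ (P.val_add h))), fun s => funext fun i' => ?_⟩, fun i' e => by simp [e]⟩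
  change ((s.1 - (W.f _ ⬝ᵥ s.1) • _) - (W.f _ ⬝ᵥ (s.1 - (W.f _ ⬝ᵥ s.1) • _)) • _ : Fin (n + 1) → ℤ) i' = _
  rw [f_rt, f_rt, fv, fv, if_neg (P.p_inj.ne h.symm), if_neg (P.inv_ne _), if_neg (P.ne_inv _ _).symm,
    if_neg (W.inv_inj.ne (P.inv_ne _))]
  simp only [rt_val, W.wt_inv, P.wt_p]
  by_cases c : i' = i
  · subst c; simp [h, h.symm]
  by_cases c' : i' = j
  · subst c'; simp [h, h.symm]
  · simp [c, c']

omit hq [Fintype ι] in
include P in
theorem two_mem (hn : 1 ≤ n) (i : Fin (n + 1)) : (2 : ℤ) • ee i ∈ coL β.eu := by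
  obtain ⟨j, h⟩ : ∃ j, i ≠ j := have : Nontrivial (Fin (n + 1)) := Fin.nontrivial_iff_two_le.2 (by omega); (exists_ne i).imp fun _ => Ne.symm
  have := add_mem (β.eu.fmem (rt _ _ (P.val_add h))) (β.eu.fmem (rt _ _ (P.val_sub h)))
  change W.f _ + W.f _ ∈ _ at this
  rw [f_rt, f_rt, fv, fv, if_neg (P.p_inj.ne h.symm), if_neg (P.inv_ne _), if_neg (P.ne_inv _ _).symm,
    if_neg (W.inv_inj.ne (P.inv_ne _))] at this
  convert this using 1
  simp only [W.wt_inv, P.wt_p, two_smul]; abel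

include T P

theorem thom_B (hn : 1 ≤ n) {o : ι} (ho : W.inv o = o) : SqCl' D.E := by
  have e1 : ∀ i, (rt _ _ (P.val_zero ho i)).1 = (1 : ℤ) • ee i := fun i => by
    simp [rt_val, P.wt_p, W.inv_eq_self_iff.1 ho]
  have e2 : ∀ i, W.f (rt _ _ (P.val_zero ho i)) = (2 : ℤ) • ee i := fun i => by
    rw [f_rt, fv, if_neg (fun e => P.inv_ne _ (e ▸ ho)), if_pos ho, P.wt_p]
  refine thom_std hq T P (P.baseB ho) rfl (k := n - 1) (by omega) (by omega) two_pos (two_mem P _ hn)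
    (.inr ⟨fun h => W.lg_ne h o ho, by decide⟩) (fun v _ h => by simpa [e1] using h _ (by simp; omega))
    ⟨⟨n - 1, by omega⟩, ?_⟩ fun i _ => ⟨_, sg_single _ (e1 i) (e2 i) rfl, fun _ _ => rfl⟩
  simp only [e2, smul_dotProduct, single_dotProduct, Pi.sub_apply, Pi.single_apply, Fin.ext_iff, Fin.val_castSucc, Fin.val_succ,
    Fin.val_last]
  grind

theorem thom_C (hn : 1 ≤ n) (hl : W.lg) : SqCl' D.E := by
  have vl : ∀ a, W.Val a a := fun a => val_mk (W.lg_ne hl a) (W.lg_ne hl a).symm fun _ => hl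
  have e1 : ∀ i, (rt _ _ (vl (P.p i))).1 = (2 : ℤ) • ee i := fun i => by rw [rt_val, P.wt_p, two_smul]
  have e2 : ∀ i, W.f (rt _ _ (vl (P.p i))) = (1 : ℤ) • ee i := fun i => by rw [f_rt, fv, if_pos rfl, P.wt_p, one_smul]
  refine thom_std hq T P (P.baseC hl) rfl (k := n - 1) (by omega) (by omega) one_pos
    (fun i => e2 i ▸ (P.baseC hl).eu.fmem _) (.inl (by decide)) (fun v _ h => by
      rw [e1, dotProduct_smul]; simpa using h (Fin.last n) (by simp; omega))
    ⟨⟨n - 1, by omega⟩, ?_⟩ fun i _ => ⟨_, sg_single _ (e1 i) (e2 i) rfl, fun _ _ => rfl⟩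
  simp only [e2, smul_dotProduct, single_dotProduct, Pi.sub_apply, Pi.single_apply, Fin.ext_iff, Fin.val_castSucc, Fin.val_succ,
    Fin.val_last]
  grind

omit T P in
theorem thom_D {W : WtData ι (Fin (n + 2))} (T : Frame W D) (P : W.Std) (hn : 1 ≤ n) (hl : ¬ W.lg) (ho : ∀ o, W.inv o ≠ o) :
    SqCl' D.E := by
  refine thom_std hq T P (P.baseD hl ho) rfl (k := n - 1) (by omega) (by omega) two_pos (two_mem P _ (by omega))
    (.inr ⟨hl, by decide⟩) (fun v h0 h => ?_) ⟨⟨n - 1, by omega⟩, ?_⟩ fun i hi => ?_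
  · simpa [rt_val, P.wt_p] using add_pos_of_pos_of_nonneg (h (Fin.last n).castSucc (by simp; omega)) (h0 (Fin.last _))
  · rw [f_rt, fv, if_neg (P.p_inj.ne (Fin.castSucc_lt_last _).ne'), if_neg (P.inv_ne _)]
    simp only [P.wt_p, add_dotProduct, single_dotProduct, Pi.sub_apply, Pi.single_apply, Fin.ext_iff, Fin.val_castSucc,
      Fin.val_succ, Fin.val_last]
    grind
  · obtain ⟨ε, a, b⟩ := sg_double P (P.baseD hl ho) (i := i) (j := Fin.last _) (by simp [Fin.ext_iff]; omega)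
    exact ⟨ε, a, fun i' h => b i' (by simp [Fin.ext_iff]; omega)⟩

end Cfsg.Lib.Pres
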