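import Cfsg.Agent.Lib.Pres.Rel

/-!
Bounded presentations of doubly transitive groups: triangles and tetrahedra.
-/

set_option autoImplicit false

namespace Cfsg.Lib.Pres

open Subgroup MulAction

universe v w

section

variable {Q G Ω : Type*} [Group Q] [Group G] [MulAction G Ω] (π : Q →* G) (B : Subgroup Q) (n : Q) (o : Ω)

/-- Adjacency of cosets of `B`. -/
def Adj (x y : Q) : Prop := ∃ b ∈ B, ∃ b' ∈ B, x⁻¹ * y = b * n * b'

/-- The triangle `a, b, c` lifts to a triangle. -/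
def Cl (a b c : Ω) : Prop := ∃ x y z : Q, π x • o = a ∧ π y • o = b ∧ π z • o = c ∧
  Adj B n x y ∧ Adj B n y z ∧ Adj B n x z

/-- A cover of a doubly transitive group. -/
structure Tr2 : Prop where
  inj : InjO π B
  map : B.map π = stabilizer G o
  ne : π n • o ≠ o
  tr : ∀ a, a ≠ o → ∃ g ∈ stabilizer G o, g • π n • o = a
  sq : n * n ∈ B
  nm : ∀ b ∈ B, π b • π n • o = π n • o → n⁻¹ * b * n ∈ B
  gen : B ⊔ zpowers n = ⊤

variable {π B n o} {x y z : Q} {a b c d : Ω}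

theorem Adj.left (h : Adj B n x y) (g : Q) : Adj B n (g * x) (g * y) :=
  let ⟨b, hb, b', hb', e⟩ := h; ⟨b, hb, b', hb', by rw [← e]; group⟩

theorem Adj.right (h : Adj B n x y) (h' : y⁻¹ * z ∈ B) : Adj B n x z :=
  let ⟨b, hb, b', hb', e⟩ := h; ⟨b, hb, _, mul_mem hb' h', by rw [← mul_assoc, ← e]; group⟩

theorem Cl.smul (h : Cl π B n o a b c) (g : Q) : Cl π B n o (π g • a) (π g • b) (π g • c) := by
  obtain ⟨x, y, z, rfl, rfl, rfl, h1, h2, h3⟩ := h
  exact ⟨g * x, g * y, g * z, by simp [mul_smul], by simp [mul_smul], by simp [mul_smul],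
    h1.left g, h2.left g, h3.left g⟩

namespace Tr2

variable (T : Tr2 π B n o)
include T

theorem fix {b : Q} (hb : b ∈ B) : π b • o = o := T.map.le (mem_map_of_mem π hb)

theorem symm (h : Adj B n x y) : Adj B n y x :=
  let ⟨b, hb, b', hb', e⟩ := h
  ⟨_, mul_mem (inv_mem hb') (inv_mem T.sq), _, inv_mem hb, by
    rw [show y⁻¹ * x = (x⁻¹ * y)⁻¹ by group, e]; group⟩

theorem exists_adj (x : Q) (ha : a ≠ π x • o) : ∃ y, Adj B n x y ∧ π y • o = a := by
  obtain ⟨g, hg, e⟩ := T.tr ((π x)⁻¹ • a) (by rwa [Ne, inv_smul_eq_iff])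
  obtain ⟨b, hb, rfl⟩ := T.map.ge hg
  exact ⟨x * b * n, ⟨b, hb, 1, one_mem _, by group⟩, by simp [mul_smul, e]⟩

theorem adj_ne (h : Adj B n x y) : π y • o ≠ π x • o := fun e => by
  obtain ⟨b, hb, b', hb', e'⟩ := h
  rw [← inv_smul_eq_iff, ← mul_smul, ← map_inv, ← map_mul, e', map_mul, map_mul, mul_smul, mul_smul,
    T.fix hb', smul_eq_iff_eq_inv_smul, ← map_inv, T.fix (inv_mem hb)] at e
  exact T.ne e

theorem uniq (h : Adj B n x y) (h' : Adj B n x z) (e : π y • o = π z • o) : y⁻¹ * z ∈ B := by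
  obtain ⟨b, hb, b', hb', e1⟩ := h
  obtain ⟨c, hc, c', hc', e2⟩ := h'
  rw [inv_mul_eq_iff_eq_mul] at e1 e2
  subst e1 e2
  simp only [map_mul, mul_smul, T.fix hb', T.fix hc', smul_left_cancel_iff] at e
  convert mul_mem (mul_mem (inv_mem hb') (T.nm _ (mul_mem (inv_mem hb) hc) (by
    rw [map_mul, mul_smul, ← e, map_inv, inv_smul_smul]))) hc' using 1
  group

theorem all (h : Cl π B n o (π x • o) (π y • o) (π z • o)) (h1 : Adj B n x y) (h2 : Adj B n x z) :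
    Adj B n y z := by
  obtain ⟨x', y', z', e1, e2, e3, a1, a2, a3⟩ := h
  obtain ⟨b, hb, e⟩ := T.map.ge (show π (x'⁻¹ * x) ∈ stabilizer G o by
    rw [mem_stabilizer_iff, map_mul, mul_smul, ← e1, map_inv, inv_smul_smul])
  have h3 : π (x * b⁻¹ * x'⁻¹) = 1 := by simp [e]
  have h4 : ∀ {u u'}, Adj B n x u → Adj B n x' u' → π u' • o = π u • o → (x * b⁻¹ * x'⁻¹ * u')⁻¹ * u ∈ B :=
    fun h h' e => T.uniq (T.symm ((T.symm (h'.left _)).right (by simpa using hb))) h (by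
      rw [map_mul, h3, one_mul, e])
  exact T.symm ((T.symm ((a2.left _).right (h4 h2 a3 e3))).right (h4 h1 a1 e2))

theorem swap (h : Cl π B n o a b c) : Cl π B n o b a c :=
  let ⟨x, y, z, e1, e2, e3, h1, h2, h3⟩ := h; ⟨y, x, z, e2, e1, e3, T.symm h1, h3, h2⟩

theorem swap' (h : Cl π B n o a b c) : Cl π B n o a c b :=
  let ⟨x, y, z, e1, e2, e3, h1, h2, h3⟩ := h; ⟨x, z, y, e1, e3, e2, h3, T.symm h2, h1⟩

theorem tet (h1 : Cl π B n o d a b) (h2 : Cl π B n o d b c) (h3 : Cl π B n o d a c) : Cl π B n o a b c := by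
  obtain ⟨x, y, z, rfl, rfl, rfl, a1, a2, a3⟩ := h1
  obtain ⟨u, a4, rfl⟩ := T.exists_adj (a := c) x (by
    obtain ⟨x', -, z', e, -, rfl, -, -, a⟩ := h2
    exact e ▸ T.adj_ne a)
  exact ⟨y, z, u, rfl, rfl, rfl, a2, T.all h2 a3 a4, T.all h3 a1 a4⟩

theorem ker (h : ∀ a b c, a ≠ b → b ≠ c → a ≠ c → Cl π B n o a b c) (x : Q) (e : π x = 1) : x = 1 := by
  let K : Subgroup Q := {
    carrier := {x | x ∈ B ∨ Adj B n 1 x}
    one_mem' := .inl (one_mem _)
    inv_mem' := by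
      rintro x (h | h)
      exacts [.inl (inv_mem h), .inr (by simpa using (T.symm h).left x⁻¹)]
    mul_mem' := by
      rintro x y (hx | hx) (hy | hy)
      · exact .inl (mul_mem hx hy)
      · exact .inr (T.symm ((T.symm (hy.left x)).right (by simpa using hx)))
      · exact .inr (hx.right (by simpa using hy))
      have h1 := hy.left x
      rw [mul_one] at h1
      by_cases e : π 1 • o = π (x * y) • o
      · exact .inl (by simpa using T.uniq (T.symm hx) h1 e)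
      · exact .inr (T.all (h _ _ _ (T.adj_ne hx) e (T.adj_ne h1).symm) (T.symm hx) h1) }
  rcases (T.gen.ge.trans (sup_le (c := K) (fun _ h => .inl h) (zpowers_le.2 (.inr ⟨1, one_mem _, 1, one_mem _,
    by group⟩))) (mem_top x) : x ∈ B ∨ _) with h | h
  · exact T.inj x h e
  · exact absurd (by rw [e, map_one]) (T.adj_ne h)

end Tr2

end

variable {J : Type v} {G : Type w} {Ω : Type*} [Group J] [Group G] [MulAction G Ω] {μ : J →* G}

theorem Rel.cl {B : Subgroup J} {n : J} {o c : Ω} (hB : B.map μ = stabilizer G o)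
    (tr : ∀ a, a ≠ o → ∃ g ∈ stabilizer G o, g • μ n • o = a) (h1 : c ≠ o) (h2 : c ≠ μ n • o) :
    Rel μ 1 fun _ _ ν π => Cl π (B.map ν) (ν n) o o (μ n • o) c := by
  obtain ⟨_, hg, e⟩ := tr c h1
  obtain ⟨b, hb, rfl⟩ := hB.ge hg
  obtain ⟨_, hg, e'⟩ := tr (μ (n⁻¹ * b * n) • o) (by
    rwa [map_mul, map_mul, mul_smul, mul_smul, e, map_inv, Ne, inv_smul_eq_iff])
  obtain ⟨b1, hb1, rfl⟩ := hB.ge hg
  obtain ⟨b2, hb2, e2⟩ := hB.ge (show μ ((b1 * n)⁻¹ * (n⁻¹ * b * n)) ∈ stabilizer G o by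
    rw [mem_stabilizer_iff, map_mul, mul_smul, ← e', map_inv, map_mul, ← mul_smul (μ b1), inv_smul_smul])
  refine (Rel.eq (a := n⁻¹ * b * n) (b := b1 * n * b2) (by rw [map_mul μ _ b2, e2, ← map_mul, mul_inv_cancel_left])).mono le_rfl
    fun Q _ ν π h e3 => ⟨1, ν n, ν (b * n), by simp, by rw [h], by rw [h, map_mul, mul_smul, e],
      ⟨1, one_mem _, 1, one_mem _, by simp⟩, ⟨_, mem_map_of_mem ν hb1, _, mem_map_of_mem ν hb2, by
        simpa [mul_assoc] using e3⟩, ⟨_, mem_map_of_mem ν hb, 1, one_mem _, by simp⟩⟩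

end Cfsg.Lib.Pres
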