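import Cfsg.Agent.Lib.Pres.Sp

/-!
Generation by two elements: general lemmas and monomial elements of the classical groups.
-/

set_option autoImplicit false

namespace Cfsg.Lib.Pres

open Cfsg.Lib.Linear Cfsg.Lib.Chev Cfsg.Lib.Chev.PreSys Cfsg.Lib.Forms WtData Subgroup Matrix
open scoped commutatorElement

universe u

variable {F : Type u} [Field F]

theorem Gen.inv {c : F} (hc : Gen c) : Gen c⁻¹ :=
  ⟨inv_ne_zero hc.1, fun t ht => let ⟨n, h⟩ := hc.2 t⁻¹ (inv_ne_zero ht); ⟨n, by rw [inv_pow, h, _root_.inv_inv]⟩⟩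

theorem Gen.ne_one {c : F} (hc : Gen c) (h : ∃ a : F, a ≠ 0 ∧ a ≠ 1) : c ≠ 1 := fun e => by
  obtain ⟨a, h0, h1⟩ := h
  obtain ⟨n, rfl⟩ := hc.2 a h0
  simp [e] at h1

theorem Gen.sq_ne_one {c : F} (hc : Gen c) (h : ∃ a : F, a ≠ 0 ∧ a ^ 2 ≠ 1) : c ^ 2 ≠ 1 := fun e => by
  obtain ⟨a, h0, h1⟩ := h
  obtain ⟨n, rfl⟩ := hc.2 a h0
  rw [← pow_mul, mul_comm, pow_mul, e, one_pow] at h1
  exact h1 rfl

section

variable [Finite F] {G : Type*} [Group G] {x y : F → G} {H : Subgroup G} {h g n : G} {a b c : F}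

theorem all_mem (hc : Gen c) (A : Act x h a) (ha : a = c ∨ a = c ^ 2) (h1 : h ∈ H) {s : F} (hs : s ≠ 0) (h2 : x s ∈ H)
    (t : F) : x t ∈ H := by
  have h3 : ∀ t, x t ∈ H → x (a * t) ∈ H := fun t e => A.conj t ▸ mul_mem (mul_mem h1 e) (inv_mem h1)
  have := span2 hc (K := ⟨⟨{t | x (t * s) ∈ H}, fun {u v} hu hv => by
    rw [Set.mem_ofPred_eq, add_mul, A.add]; exact mul_mem hu hv⟩, by simp [add_zero' A.add]⟩) (by simpa using h2)
    (fun t ht => by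
      rcases ha with rfl | rfl
      · simpa [sq, mul_assoc] using h3 _ (h3 _ ht)
      · simpa [mul_assoc] using h3 _ ht) (t * s⁻¹)
  simpa [hs] using this

theorem key2 (hc : Gen c) (A : Act x h a) (ha : a = c ∨ a = c ^ 2) (B : Act x g b) (hg : Commute h g) (h1 : h ∈ H)
    (h2 : x 1 * g * (x 1)⁻¹ ∈ H) (ha1 : a ≠ 1) (hb : b ≠ 1) (t : F) : x t ∈ H := by
  refine all_mem hc A ha h1 (mul_ne_zero (sub_ne_zero.2 ha1) (sub_ne_zero.2 hb.symm)) ?_ t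
  convert mul_mem (mul_mem (mul_mem h1 h2) (inv_mem h1)) (inv_mem h2) using 1
  rw [show h * (x 1 * g * (x 1)⁻¹) * h⁻¹ * (x 1 * g * (x 1)⁻¹)⁻¹ =
    h * x 1 * h⁻¹ * (h * g * h⁻¹) * ((h * x 1 * h⁻¹)⁻¹ * x 1) * g⁻¹ * (x 1)⁻¹ by group, hg.mul_inv_cancel, A.conj,
    ← add_neg' A.add, ← A.add, mul_assoc _ g, mul_assoc _ (g * _), B.conj, ← add_neg' A.add, ← A.add, ← A.add]
  congr 1; ring

theorem stage1 (hc : Gen c) (A : Act x h a) (ha : a = c ∨ a = c ^ 2) (B : Act x (n * h * n⁻¹) b)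
    (hg : Commute h (n * h * n⁻¹)) {z : G} (hz : Commute z h) (hz' : ∀ t, Commute z (x t)) (h1 : h ∈ H)
    (h2 : x 1 * z * n ∈ H) (ha1 : a ≠ 1) (hb : b ≠ 1) : (∀ t, x t ∈ H) ∧ z * n ∈ H := by
  have := key2 hc A ha (g := z * (n * h * n⁻¹) * z⁻¹) (b := b) ⟨A.add, fun t => by
    rw [← (hz' (b * t)).mul_inv_cancel, ← B.conj]
    nth_rewrite 2 [← (hz' t).inv_left.mul_inv_cancel]; group⟩
    (by simpa [hz.mul_inv_cancel] using hg.conj z) h1
    (by convert mul_mem (mul_mem h2 h1) (inv_mem h2) using 1; group) ha1 hb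
  exact ⟨this, by simpa [mul_assoc] using mul_mem (inv_mem (this 1)) h2⟩

theorem stage2 (hc : Gen c) (A : Act y (n⁻¹ * h * n) a) (ha : a = c ∨ a = c ^ 2) (B : Act y (n * h * n⁻¹) b)
    (hg : Commute (n⁻¹ * h * n) (n * h * n⁻¹)) (hz : Commute (y 1) h) (h1 : h ∈ H) (h2 : y 1 * n ∈ H) (ha1 : a ≠ 1)
    (hb : b ≠ 1) : (∀ t, y t ∈ H) ∧ n ∈ H := by
  have := key2 hc A ha B hg (by
    convert mul_mem (mul_mem (inv_mem h2) h1) h2 using 1
    nth_rewrite 1 [← hz.inv_left.mul_inv_cancel]; group)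
    (by convert mul_mem (mul_mem h2 h1) (inv_mem h2) using 1; group) ha1 hb
  exact ⟨this, (mul_mem_cancel_left (this 1)).1 h2⟩

omit [Finite F] in
theorem split_mem {u v : G} (hc : Commute u v) {p q : ℕ} (hu : u ^ p = 1) (hv : v ^ q = 1) (hpq : p.Coprime q)
    (h1 : u * v ∈ H) : u ∈ H ∧ v ∈ H := by
  have key : ∀ {u v : G} {p q : ℕ}, Commute u v → u ^ p = 1 → v ^ q = 1 → p.Coprime q → u * v ∈ H → u ∈ H :=
    fun {u v p q} hc hu hv hpq h1 => by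
      have h2 := pow_mem h1 q
      rw [hc.mul_pow, hv, mul_one] at h2
      obtain ⟨k, hk⟩ := exists_pow_eq_self_of_coprime (hpq.coprime_dvd_left (orderOf_dvd_of_pow_eq_one hu)).symm
      exact hk ▸ pow_mem h2 k
  exact ⟨key hc hu hv hpq h1, key hc.symm hv hu hpq.symm (hc.eq ▸ h1)⟩

end

variable {Kd : Kind (RingHom.id F)} {ι : Type} [Fintype ι] [DecidableEq ι] {n : ℕ} {W : WtData ι (Fin (n + 1))}
  {D : Form Kd (ι → F)} (T : Frame W D)

variable (W D) in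
/-- The root elements in the isometry group. -/
noncomputable abbrev XX (a b : ι) (t : F) : D.isom := Frame.X W (eichSelf D) a b t

variable (W) in
/-- Monomial isometries. -/
def Mono (g : D.isom) (τ : Equiv.Perm ι) (η : ι → F) : Prop := (∀ a, τ (W.inv a) = W.inv (τ a)) ∧
  ∀ a, η a ≠ 0 ∧ (W.inv a = a → η a * η a = 1) ∧ g.1 (bv F a) = η a • bv F (τ a)

variable {g g' : D.isom} {τ τ' : Equiv.Perm ι} {η η' : ι → F} {a b : ι} {H : Subgroup D.isom}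

theorem isom_ext_bv (h : ∀ a, g.1 (bv F a) = g'.1 (bv F a)) : g = g' :=
  Subtype.ext (LinearEquiv.toLinearMap_injective (LinearMap.pi_ext' fun a => LinearMap.ext_ring (h a)))

theorem Mono.fix (h : Mono W g τ η) : W.inv (τ a) = τ a ↔ W.inv a = a := by rw [← h.1, τ.injective.eq_iff]

theorem Mono.mul (h : Mono W g τ η) (h' : Mono W g' τ' η') : Mono W (g * g') (τ * τ') fun a => η' a * η (τ' a) :=
  ⟨fun a => by simp [h.1, h'.1], fun a => ⟨mul_ne_zero (h'.2 a).1 (h.2 _).1, fun e => by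
    rw [mul_mul_mul_comm, (h'.2 a).2.1 e, (h.2 _).2.1 (h'.fix.2 e), one_mul], by
    simp [(h'.2 a).2.2, (h.2 _).2.2, smul_smul]⟩⟩

theorem Mono.inv (h : Mono W g τ η) : Mono W g⁻¹ τ⁻¹ fun a => (η (τ⁻¹ a))⁻¹ :=
  ⟨fun a => τ.injective (by simp [h.1]), fun a => ⟨inv_ne_zero (h.2 _).1, fun e => by
    rw [← mul_inv, (h.2 _).2.1 (h.fix.1 (by simpa using e)), inv_one], g.1.injective (by
    simp [(h.2 _).2.2, smul_smul, (h.2 _).1])⟩⟩

theorem Mono.val (h : Mono W g τ η) (v : W.Val a b) : W.Val (τ a) (τ b) :=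
  ⟨h.fix.ne.2 v.1, h.1 a ▸ τ.injective.ne v.2.1, fun e => v.2.2 (τ.injective e)⟩

theorem Mono.comm (h : Mono W g 1 η) (h' : Mono W g' 1 η') : Commute g g' :=
  isom_ext_bv fun a => by simp [(h.2 a).2.2, (h'.2 a).2.2, smul_smul, mul_comm]

theorem Mono.conj1 (h : Mono W g τ η) (h' : Mono W g' 1 η') : Mono W (g * g' * g⁻¹) 1 fun a => η' (τ⁻¹ a) := by
  convert (h.mul h').mul h.inv using 1
  · simp
  · ext a
    have := (h.2 (τ⁻¹ a)).1
    simp only [Equiv.Perm.one_apply]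
    field_simp

/-- The reflection in a root, on the weights. -/
noncomputable def sgP (r : W.Phi) : Equiv.Perm ι := Function.Involutive.toPerm (WtData.sg r) (sg_sg r)

theorem NN_mem {t : F} (h : ∀ t, XX W D a b t ∈ H) (h' : ∀ t, XX W D (W.inv a) (W.inv b) t ∈ H) :
    T.NN (eichSelf D) a b t ∈ H := mul_mem (mul_mem (h _) (h' _)) (h _)

theorem Mono.pow (h : Mono W g τ η) (j : ℕ) : ∃ η, Mono W (g ^ j) (τ ^ j) η := by
  induction j with
  | zero => exact ⟨1, fun _ => rfl, fun a => by simp⟩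
  | succ j ih => exact ⟨_, pow_succ g j ▸ pow_succ τ j ▸ ih.choose_spec.mul h⟩

theorem Mono.cyc (h : Mono W g τ η) (P : W.Std) {r : Fin (n + 1)}
    (h1 : ∀ k : Fin n, k.castSucc < r → τ (P.p k.castSucc) = P.p k.succ) (h2 : τ (P.p r) = W.inv (P.p 0))
    (k : Fin (n + 1)) (hk : k ≤ r) : (τ ^ k.val) (P.p 0) = P.p k ∧ (τ ^ (r.val + 1)) (P.p k) = W.inv (P.p k) := by
  have h3 : ∀ k : Fin (n + 1), k ≤ r → (τ ^ k.val) (P.p 0) = P.p k := fun k hk => by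
    induction k using Fin.induction with
    | zero => rfl
    | succ k ih =>
      have := Fin.castSucc_lt_succ.trans_le hk
      rw [Fin.val_succ, pow_succ', Equiv.Perm.mul_apply, ← h1 k this, ← ih this.le]; rfl
  refine ⟨h3 k hk, ?_⟩
  rw [← h3 k hk, ← Equiv.Perm.mul_apply, ← pow_add, add_comm, pow_add, Equiv.Perm.mul_apply, pow_succ',
    Equiv.Perm.mul_apply, h3 r le_rfl, h2, (h.pow k).choose_spec.1]

include T

theorem Mono.conj (h : Mono W g τ η) (v : W.Val a b) (t : F) :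
    g * XX W D a b t * g⁻¹ = XX W D (τ a) (τ b) (η a * η b * t) :=
  T.conj_X (eichSelf D) v (h.2 a).2.2 (h.2 b).2.2 (h.2 a).1 τ.injective.eq_iff h.fix (h.2 b).2.1 t

theorem Mono.act (h : Mono W g 1 η) (v : W.Val a b) : Act (XX W D a b) g (η a * η b) :=
  ⟨T.X_add _ v, h.conj T v⟩

theorem Mono.full (h : Mono W g τ η) (hg : g ∈ H) (v : W.Val a b) (e : ∀ t, XX W D a b t ∈ H) (t : F) :
    XX W D (τ a) (τ b) t ∈ H := by
  rw [← mul_inv_cancel_left₀ (mul_ne_zero (h.2 a).1 (h.2 b).1) t, ← h.conj T v]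
  exact mul_mem (mul_mem hg (e _)) (inv_mem hg)


theorem mono_NN (v : W.Val a b) : ∃ η, Mono W (T.NN (eichSelf D) a b 1) (sgP (rt a b v)) η :=
  let ⟨η, h1, h2, _⟩ := T.exists_eta (eichSelf D) v
  ⟨η, sg_inv _, fun p => ⟨left_ne_zero_of_mul_eq_one (h1 p), fun _ => h1 p, by
    have := h2 p 1 one_ne_zero
    rwa [_root_.one_zpow, mul_one] at this⟩⟩

variable {I : Type*} [Fintype I] [DecidableEq I] (β : W.Base I)

theorem mono_h (r : W.Phi) {c : F} (hc : c ≠ 0) :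
    Mono W ((T.sys (eichSelf D) β).h r c) 1 fun p => c ^ (W.f r ⬝ᵥ W.wt p) :=
  ⟨fun _ => rfl, fun p => ⟨zpow_ne_zero _ hc, fun e => by simp [W.inv_eq_self_iff.1 e], T.h_act (eichSelf D) β r hc p⟩⟩

theorem X_mem_E (v : W.Val a b) (t : F) : XX W D a b t ∈ D.E := by
  have := D.eich_mem_E _ _ _ (T.isEich v t)
  rwa [← (eichSelf D).map] at this

theorem exists_perm (P : W.Std) (σ : Equiv.Perm (Fin (n + 1))) :
    ∃ g ∈ D.E, ∃ τ η, Mono W g τ η ∧ ∀ k, τ (P.p k) = P.p (σ k) := by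
  induction σ using Equiv.Perm.swap_induction_on with
  | one => exact ⟨1, one_mem _, 1, 1, ⟨fun _ => rfl, fun a => by simp⟩, fun _ => rfl⟩
  | swap_mul σ i j h ih =>
    obtain ⟨g, a, τ, η, b, c⟩ := ih
    obtain ⟨η', d⟩ := mono_NN T (P.val_sub h)
    refine ⟨_, mul_mem (NN_mem T (X_mem_E T (P.val_sub h)) (X_mem_E T (P.val_sub h).inv)) a, _, _, d.mul b, fun k => ?_⟩
    rw [Equiv.Perm.mul_apply, c]
    change WtData.sg _ _ = _
    simp only [sg_rt, W.inv_inv, P.p_inj.eq_iff, P.ne_inv, (P.ne_inv _ _).symm, if_false, Equiv.Perm.mul_apply,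
      Equiv.swap_apply_def]
    split_ifs <;> rfl

theorem exists_cox (P : W.Std) (v : W.Val a b) : ∃ g ∈ D.E, ∃ τ η, Mono W g τ η ∧ ∃ ρ : Equiv.Perm ι,
    (∀ k, ρ (P.p k) = P.p (finRotate _ k)) ∧ (∀ k, ρ (W.inv (P.p k)) = W.inv (P.p (finRotate _ k))) ∧
      ∀ c, τ c = ρ (WtData.sg (rt a b v) c) := by
  obtain ⟨g, h1, τ, η, h2, h3⟩ := exists_perm T P (finRotate _)
  obtain ⟨η', d⟩ := mono_NN T v
  exact ⟨_, mul_mem h1 (NN_mem T (X_mem_E T v) (X_mem_E T v.inv)), _, _, h2.mul d, τ, h3, fun k => by rw [h2.1, h3],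
    fun _ => rfl⟩

theorem Mono.full_pow (h : Mono W g τ η) (hg : g ∈ H) (v : W.Val a b) (e : ∀ t, XX W D a b t ∈ H) (j : ℕ) (t : F) :
    XX W D ((τ ^ j) a) ((τ ^ j) b) t ∈ H := (h.pow j).choose_spec.full T (pow_mem hg j) v e t

theorem comm_mem {x y : D.isom} (hx : x ∈ H) (hy : y ∈ H) : ⁅x, y⁆ ∈ H :=
  mul_mem (mul_mem (mul_mem hx hy) (inv_mem hx)) (inv_mem hy)

theorem comm_ss {a c d : ι} (h : W.Val a (W.inv c)) (e : W.inv c ≠ a) (h' : W.Val c d) (h2 : a ≠ W.inv d) (e' : d ≠ c)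
    (hd : W.inv d ≠ d) (h3 : d ≠ a) : ∃ s : F, s ≠ 0 ∧ ∀ t u, ⁅XX W D a (W.inv c) t, XX W D c d u⁆ = XX W D a d (t * s * u) :=
  ⟨Kd.ε * T.σ c, mul_ne_zero (left_ne_zero_of_mul_eq_one Kd.ε_mul) (left_ne_zero_of_mul_eq_one (T.σσ c)), fun t u => by
    rw [T.comm_short_short _ h e h' h2 e' hd, XX, Frame.X, Frame.zz, Frame.dd, if_neg h3, if_neg h3, if_neg hd,
      mul_assoc t]⟩

theorem full_ss {a c d : ι} (h : W.Val a (W.inv c)) (e : W.inv c ≠ a) (h' : W.Val c d) (h2 : a ≠ W.inv d) (e' : d ≠ c)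
    (hd : W.inv d ≠ d) (h3 : d ≠ a) (h4 : ∀ t, XX W D a (W.inv c) t ∈ H) (h5 : ∀ t, XX W D c d t ∈ H) (t : F) :
    XX W D a d t ∈ H := by
  obtain ⟨s, hs, e⟩ := comm_ss T h e h' h2 e' hd h3
  rw [← mul_inv_cancel_right₀ hs t, ← e]
  exact comm_mem T (h4 _) (h5 _)

theorem Mono.chain (h : Mono W g τ η) (hg : g ∈ H) (P : W.Std) {r : Fin (n + 1)}
    (h1 : ∀ k : Fin n, k.castSucc < r → τ (P.p k.castSucc) = P.p k.succ) (h2 : τ (P.p r) = W.inv (P.p 0))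
    {o : Fin (n + 1)} (ho : τ (P.p 0) = P.p o) (ho' : 0 ≠ o) (h3 : ∀ t, XX W D (P.p 0) (W.inv (P.p o)) t ∈ H) :
    (∀ k : Fin n, k.castSucc < r → (∀ t, XX W D (P.p k.castSucc) (W.inv (P.p k.succ)) t ∈ H) ∧
      ∀ t, XX W D (W.inv (P.p k.castSucc)) (P.p k.succ) t ∈ H) ∧
    (∀ t, XX W D (P.p r) (P.p 0) t ∈ H) ∧ ∀ t, XX W D (W.inv (P.p r)) (W.inv (P.p 0)) t ∈ H := by
  have h4 : ∀ k, k ≤ r → ∀ t, XX W D (P.p k) (W.inv (τ (P.p k))) t ∈ H := fun k hk t => by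
    have := h.full_pow T hg (P.val_sub ho') h3 k t
    rwa [(h.pow _).choose_spec.1, ← ho, ← Equiv.Perm.mul_apply, ← pow_succ, pow_succ', Equiv.Perm.mul_apply,
      (h.cyc P h1 h2 k hk).1] at this
  have h5 := h4 r le_rfl
  rw [h2, W.inv_inv] at h5
  have h6 : 0 < r := Fin.pos_iff_ne_zero.2 fun e => P.ne_inv _ _ (ho.symm.trans (e ▸ h2))
  refine ⟨fun k hk => ⟨h1 k hk ▸ h4 _ hk.le, fun t => ?_⟩, h5, fun t => ?_⟩
  · have := h.full_pow T hg (P.val_sub Fin.castSucc_lt_succ.ne) (h1 k hk ▸ h4 _ hk.le) (r + 1) t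
    rwa [(h.pow _).choose_spec.1, (h.cyc P h1 h2 _ hk.le).2, (h.cyc P h1 h2 k.succ (Fin.castSucc_lt_iff_succ_le.1 hk)).2,
      W.inv_inv] at this
  · have := h.full_pow T hg (P.val_add h6.ne') h5 (r + 1) t
    rwa [(h.cyc P h1 h2 _ le_rfl).2, (h.cyc P h1 h2 _ h6.le).2] at this

include β in
theorem cube_two (hK : ∀ t : F, t = 0 ∨ t = 1) (v : W.Val a b) :
    (XX W D a b 1 * XX W D (W.inv a) (W.inv b) 1) ^ 3 = 1 := by
  obtain ⟨θ, h0, c1, c2, -⟩ := T.exists_x (eichSelf D) β v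
  have h1 : ∀ {t : F}, t * t = 1 → t = 1 := fun h => (hK _).resolve_left (left_ne_zero_of_mul_eq_one h)
  have h2 : (-1 : F) = 1 := h1 (by simp)
  have h3 := (T.st (eichSelf D) β).n_neg_root (rt a b v) one_ne_zero
  have h4 := (T.sys (eichSelf D) β).n_neg (rt a b v) 1
  simp only [PreSys.n, RootSys.neg_neg] at h3
  simp only [PreSys.n, inv_one, h2, neg_neg, β.neg_eq, c1, c2, h1 h0, h1 (T.σσ a), h1 (T.σσ b), mul_one] at h3 h4
  rw [show ∀ x y : D.isom, (x * y) ^ 3 = x * y * x * (y * x * y) from fun x y => by simp only [pow_succ, pow_zero, one_mul, mul_assoc], XX, XX, h3]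
  exact mul_eq_one_iff_eq_inv.2 h4

theorem full_two (hK : ∀ t : F, t = 0 ∨ t = 1) (v : W.Val a b) {s : F} (hs : s ≠ 0) (h : XX W D a b s ∈ H) (t : F) :
    XX W D a b t ∈ H := by
  rcases hK t with rfl | rfl
  · rw [add_zero' (x := XX W D a b) (T.X_add _ v)]; exact one_mem _
  · exact (hK s).resolve_left hs ▸ h

theorem univ_le_of_full (β : W.Base (Fin (n + 1))) (P : W.Std) {l : W.Phi} (hβ : β.simple = P.simp l) (v : W.Val a b) (hl : l = rt a b v)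
    (h1 : ∀ (k : Fin n) t, XX W D (P.p k.castSucc) (W.inv (P.p k.succ)) t ∈ H)
    (h2 : ∀ (k : Fin n) t, XX W D (W.inv (P.p k.castSucc)) (P.p k.succ) t ∈ H)
    (h3 : ∀ t, XX W D a b t ∈ H) (h4 : ∀ t, XX W D (W.inv a) (W.inv b) t ∈ H) : D.E ≤ H := by
  have key : ∀ {a b} (v : W.Val a b), (∀ t, XX W D a b t ∈ H) → (∀ t, XX W D (W.inv a) (W.inv b) t ∈ H) →
      (T.sys (eichSelf D) β).U {rt a b v} ⊔ (T.sys (eichSelf D) β).U {β.R.neg (rt a b v)} ≤ H := fun v h h' => by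
    obtain ⟨θ, -, c1, c2, -⟩ := T.exists_x (eichSelf D) β v
    exact sup_le ((U_le_iff _).2 fun r hr t => by rw [hr, c1]; exact h _)
      ((U_le_iff _).2 fun r hr t => by rw [hr, β.neg_eq, c2]; exact h' _)
  rw [← T.map_U (eichSelf D) β]
  refine (Subgroup.map_id _).le.trans (univ_le (T.st _ β) fun i => ?_)
  change _ ⊔ (T.sys (eichSelf D) β).U {β.R.neg (β.simple i)} ≤ H
  change (T.sys (eichSelf D) β).U {β.simple i} ⊔ _ ≤ H
  induction i using Fin.lastCases with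
  | last => rw [hβ, P.simp_last, hl]; exact key v h3 h4
  | cast k => rw [hβ, P.simp_cast]; exact key _ (h1 k) (by simpa only [W.inv_inv] using h2 k)

omit T in
theorem two_gen_quot {G G' : Type*} [Group G] [Group G'] {K : Subgroup G} (e : G' ≃* K ⧸ center K) {a b : G} (ha : a ∈ K)
    (hb : b ∈ K) (h : K ≤ closure {a, b}) : ∃ x y : G', closure {x, y} = ⊤ := by
  have h1 : closure ({⟨a, ha⟩, ⟨b, hb⟩} : Set K) = ⊤ := by
    rw [← (Subgroup.map_injective K.subtype_injective).eq_iff, MonoidHom.map_closure, Set.image_pair, ← MonoidHom.range_eq_map,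
      range_subtype]
    exact le_antisymm ((closure_le _).2 (by simp [Set.insert_subset_iff, ha, hb])) h
  let φ := e.symm.toMonoidHom.comp (QuotientGroup.mk' (center K))
  refine ⟨φ ⟨a, ha⟩, φ ⟨b, hb⟩, ?_⟩
  rw [← Set.image_pair, ← MonoidHom.map_closure, h1,
    map_top_of_surjective _ (e.symm.surjective.comp (QuotientGroup.mk'_surjective _))]

end Cfsg.Lib.Pres
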