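import Cfsg.Agent.Lib.Pres.Two

/-!
The split classical groups of types `B`, `C`, `D` are generated by two elements.
-/

set_option autoImplicit false

namespace Cfsg.Lib.Pres

open Cfsg.Lib.Linear Cfsg.Lib.Chev Cfsg.Lib.Chev.PreSys Cfsg.Lib.Forms WtData Subgroup Matrix
open scoped commutatorElement

universe u

/-- Generation by two elements. -/
def TwoG {G : Type*} [Group G] (K : Subgroup G) : Prop := ∃ a ∈ K, ∃ b ∈ K, K ≤ closure {a, b}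

theorem TwoG.of {G : Type*} [Group G] {K : Subgroup G} {a b : G} (ha : a ∈ K) (hb : b ∈ K)
    (h : ∀ H : Subgroup G, a ∈ H → b ∈ H → K ≤ H) : TwoG K :=
  ⟨a, ha, b, hb, h _ (subset_closure (by simp)) (subset_closure (by simp))⟩

theorem TwoG.quot {G G' : Type*} [Group G] [Group G'] {K K' : Subgroup G} (h : TwoG K) (e : K' = K)
    (φ : G' ≃* K' ⧸ center K') : ∃ x y : G', closure {x, y} = ⊤ := by
  subst e
  obtain ⟨a, ha, b, hb, h⟩ := h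
  exact two_gen_quot φ ha hb h

variable {F : Type u} [Field F]

theorem field_cases (F : Type u) [Field F] : (∃ a : F, a ≠ 0 ∧ a ≠ 1) ∨ ∀ t : F, t = 0 ∨ t = 1 := by
  by_contra! h
  obtain ⟨t, h0, h1⟩ := h.2
  exact h1 (h.1 t h0)

variable {Kd : Kind (RingHom.id F)} {ι : Type} [Fintype ι] [DecidableEq ι] {n : ℕ}
  {D : Form Kd (ι → F)} {g g' : D.isom} {τ : Equiv.Perm ι} {η : ι → F} {a b : ι} {H : Subgroup D.isom}

theorem conj_mem' {G : Type*} [Group G] {H : Subgroup G} {g x : G} (hg : g ∈ H) (hx : x ∈ H) : g * x * g⁻¹ ∈ H :=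
  mul_mem (mul_mem hg hx) (inv_mem hg)

theorem comm_mem_of {G : Type*} [Group G] {H : Subgroup G} {x y z : G} (h : y * z ∈ H) (hx : x ∈ H) (e : Commute z x) :
    ⁅x, y⁆ ∈ H := by
  have := mul_mem hx (inv_mem (conj_mem' h hx))
  rwa [show y * z * x * (y * z)⁻¹ = y * (z * x * z⁻¹) * y⁻¹ by group, e.mul_inv_cancel,
    show x * (y * x * y⁻¹)⁻¹ = ⁅x, y⁆ by group] at this

section

variable {W : WtData ι (Fin (n + 1))} (T : Frame W D) (P : W.Std)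

theorem _root_.Cfsg.Lib.Linear.WtData.Std.inv_ne' (j k : Fin (n + 1)) : W.inv (P.p j) ≠ P.p k := (P.ne_inv _ _).symm

include T

theorem exists_diag {I : Type*} [Fintype I] [DecidableEq I] (β : W.Base I) (v : W.Val a b) (hb : W.inv b ≠ b) {c : F}
    (hc : c ≠ 0) : ∃ h ∈ D.E, ∃ χ, Mono W h 1 χ ∧ (χ a = c ∧ χ b = c) ∧ (χ (W.inv a) = c⁻¹ ∧ χ (W.inv b) = c⁻¹) ∧
      ∀ p, p ≠ a → p ≠ b → p ≠ W.inv a → p ≠ W.inv b → χ p = 1 := by
  refine ⟨_, T.map_U (eichSelf D) β ▸ mem_map_of_mem _ ((T.sys _ β).h_mem_U (Set.mem_univ (rt a b v)) (Set.mem_univ _) c),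
    _, mono_h T β _ hc, ?_⟩
  have h1 := v.1
  have h2 := v.2.1
  have h3 : a ≠ W.inv b := fun e => h2 (by rw [e, W.inv_inv])
  simp only [f_rt, fv_dot, W.dot, if_neg hb, if_neg h1]
  rcases eq_or_ne b a with rfl | e
  · refine ⟨by simp, by simp [h1], fun p p1 _ p2 _ => by simp [p1, p2]⟩
  · refine ⟨by simp [e, e.symm, h2, h3], by simp [e, e.symm, h1, hb, h2.symm, h3.symm, W.inv_inj.eq_iff],
      fun p p1 p2 p3 p4 => by simp [*]⟩

theorem full_swap (v : W.Val a b) (hb : W.inv b ≠ b) (h : ∀ t, XX W D a b t ∈ H) (t : F) : XX W D b a t ∈ H := by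
  obtain ⟨c, -, e, -⟩ := T.exists_X_swap (eichSelf D) v (v.symm hb)
  rw [XX, e]; exact h _

theorem X_zero (v : W.Val a b) : XX W D a b 0 = 1 := add_zero' (x := XX W D a b) (T.X_add _ v)

theorem X_two (hK : ∀ t : F, t = 0 ∨ t = 1) (v : W.Val a b) : XX W D a b 1 ^ 2 = 1 := by
  rw [sq, ← T.X_add _ v, (hK (1 + 1)).resolve_right (by simp)]; exact X_zero T v

theorem X_comm {c d : ι} (h : W.Val a b) (h' : W.Val c d) (h1 : a ≠ W.inv c) (h2 : a ≠ W.inv d)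
    (h3 : b = a ∨ b ≠ W.inv c ∧ b ≠ W.inv d) (t u : F) : Commute (XX W D a b t) (XX W D c d u) :=
  commutatorElement_eq_one_iff_commute.1 (T.comm_eq_one _ h h' h1 h2 h3 t u)

theorem Mono.commX {χ : ι → F} (h : Mono W g 1 χ) (v : W.Val a b) (e : χ a * χ b = 1) (t : F) :
    Commute (XX W D a b t) g := by
  have := h.conj T v t
  rw [e, one_mul, mul_inv_eq_iff_eq_mul] at this
  exact this.symm

theorem stage1X [Finite F] {c : F} (hc : Gen c) {χ : ι → F} {h z : D.isom} (hg : Mono W g τ η) (hh : Mono W h 1 χ)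
    (v : W.Val a b) (e : χ a * χ b = c) (e' : χ (τ⁻¹ a) * χ (τ⁻¹ b) ≠ 1) (h0 : c ≠ 1) (hz : Commute z h)
    (hz' : ∀ t, Commute z (XX W D a b t)) (h1 : h ∈ H) (h2 : XX W D a b 1 * z * g ∈ H) :
    (∀ t, XX W D a b t ∈ H) ∧ z * g ∈ H :=
  stage1 hc (hh.act T v) (.inl e) ((hg.conj1 hh).act T v) (hh.comm (hg.conj1 hh)) hz hz' h1 h2 (e ▸ h0) e'

theorem stage2X [Finite F] {c : F} (hc : Gen c) {χ : ι → F} {h : D.isom} (hg : Mono W g τ η) (hh : Mono W h 1 χ)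
    (v : W.Val a b) (e : χ (τ a) * χ (τ b) = c ∨ χ (τ a) * χ (τ b) = c ^ 2) (e0 : χ (τ a) * χ (τ b) ≠ 1)
    (e' : χ (τ⁻¹ a) * χ (τ⁻¹ b) ≠ 1) (e1 : χ a * χ b = 1) (h1 : h ∈ H) (h2 : XX W D a b 1 * g ∈ H) :
    (∀ t, XX W D a b t ∈ H) ∧ g ∈ H := by
  have h3 := hg.inv.conj1 hh
  rw [_root_.inv_inv, _root_.inv_inv] at h3
  exact stage2 hc (h3.act T v) e ((hg.conj1 hh).act T v) (h3.comm (hg.conj1 hh)) (hh.commX T v e1 1) h1 h2 e0 e'

theorem cox_BC (v : W.Val (P.p (Fin.last n)) b) (hb : b = P.p (Fin.last n) ∨ W.inv b = b) :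
    ∃ g ∈ D.E, ∃ τ η, Mono W g τ η ∧ (∀ k : Fin n, k.castSucc < Fin.last n → τ (P.p k.castSucc) = P.p k.succ) ∧
      τ (P.p (Fin.last n)) = W.inv (P.p 0) := by
  obtain ⟨g, h1, τ, η, h2, ρ, h3, h4, h5⟩ := exists_cox T P v
  refine ⟨g, h1, τ, η, h2, fun k hk => ?_, ?_⟩
  · have : WtData.sg (rt _ _ v) (P.p k.castSucc) = P.p k.castSucc := by
      rcases hb with rfl | hb
      · simp [sg_rt, P.p_inj.eq_iff, P.ne_inv, hk.ne]
      · simp [sg_rt, P.p_inj.eq_iff, P.ne_inv, hk.ne, hb]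
    rw [h5, this, h3, finRotate_apply, Fin.coeSucc_eq_succ]
  · have : WtData.sg (rt _ _ v) (P.p (Fin.last n)) = W.inv (P.p (Fin.last n)) := by
      rcases hb with rfl | hb
      · simp [sg_rt]
      · simp [sg_rt, hb]
    rw [h5, this, h4, finRotate_last]

theorem Mono.orbit (h : Mono W g τ η) (hg : g ∈ H) {r : Fin (n + 1)}
    (h1 : ∀ k : Fin n, k.castSucc < r → τ (P.p k.castSucc) = P.p k.succ) (h2 : τ (P.p r) = W.inv (P.p 0))
    {A : ι → Prop} (h0 : A (P.p 0)) (hA : ∀ a, W.inv a ≠ a → A a → A (τ a)) (k : Fin (n + 1)) (hk : k ≤ r) :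
    A (P.p k) ∧ A (W.inv (P.p k)) := by
  have key : ∀ j a, W.inv a ≠ a → A a → A ((τ ^ j) a) := fun j a ha e => by
    induction j with
    | zero => exact e
    | succ j ih => rw [pow_succ', Equiv.Perm.mul_apply]; exact hA _ ((h.pow j).choose_spec.fix.ne.2 ha) ih
  have := (h.cyc P h1 h2 k hk).1 ▸ key k _ (P.inv_ne 0) h0
  exact ⟨this, (h.cyc P h1 h2 k hk).2 ▸ key (r + 1) _ (P.inv_ne k) this⟩

include P in
theorem two_B [Finite F] (hn : 1 ≤ n) (h2 : (2 : F) ≠ 0) {o : ι} (ho : W.inv o = o) : TwoG D.E := by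
  obtain ⟨c, hc⟩ := exists_gen F
  have hc1 := hc.ne_one ⟨-1, by simp, fun e => h2 (by linear_combination -e)⟩
  obtain ⟨g, g1, τ, η, g2, g3, g4⟩ := cox_BC T P (P.val_zero ho _) (.inr ho)
  have hl : (0 : Fin (n + 1)) ≠ Fin.last n := by simp [Fin.ext_iff]; omega
  obtain ⟨h, h1, χ, h3, ⟨h4, h4'⟩, -, h6⟩ := exists_diag T (P.baseB ho) (P.val_sub hl)
    (by rw [W.inv_inv]; exact P.ne_inv _ _) hc.1
  have ne : ∀ a, W.inv a ≠ a → o ≠ a := fun a e e' => e (e' ▸ ho)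
  have ne' : ∀ a, W.inv a ≠ a → o ≠ W.inv a := fun a e => ne _ (by rw [W.inv_inv]; exact e.symm)
  have h7 : χ o = 1 := h6 o (ne _ (P.inv_ne _)) (ne' _ (P.inv_ne _)) (ne' _ (P.inv_ne _))
    (by rw [W.inv_inv]; exact ne _ (P.inv_ne _))
  have g5 : τ o = o := W.eq_of_zero (g2.fix.2 ho) ho
  have g6 : τ⁻¹ (P.p 0) = W.inv (P.p (Fin.last n)) := by rw [Equiv.Perm.inv_eq_iff_eq, g2.1, g4, W.inv_inv]
  refine .of h1 (mul_mem (mul_mem (X_mem_E T (P.val_zero ho 0) 1) (one_mem _)) g1) fun H a b => ?_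
  obtain ⟨c1, c2⟩ := stage1X T hc g2 h3 (P.val_zero ho 0) (by rw [h4, h7, mul_one])
    (by rw [g6, Equiv.Perm.inv_eq_iff_eq.2 g5.symm, h4', h7, mul_one]; exact hc1) hc1 (Commute.one_left _) (fun _ => Commute.one_left _) a b
  have vo : ∀ a, W.inv a ≠ a → W.Val a o := fun a e => val_mk e (ne' a e) fun e' => absurd e' (ne a e)
  have c3 := fun k => g2.orbit T P (one_mul g ▸ c2) g3 g4 (A := fun a => ∀ t, XX W D a o t ∈ H) c1
    (fun a e e' t => g5 ▸ g2.full T (one_mul g ▸ c2) (vo a e) e' t) k (Fin.le_last k)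
  have c4 : ∀ a c, W.inv a ≠ a → W.inv c ≠ c → a ≠ W.inv c → c ≠ a → (∀ t, XX W D a o t ∈ H) → (∀ t, XX W D c o t ∈ H) →
      ∀ t, XX W D a c t ∈ H := fun a c e1 e2 e3 e4 e5 e6 t => by
    rw [← mul_inv_cancel_left₀ (neg_ne_zero.2 h2) t, ← mul_one (-2 * _), XX, ← T.comm_zero_zero _ (vo a e1) (vo c e2) ho e3 e4]
    exact comm_mem T (e5 _) (e6 _)
  have i1 : ∀ k, W.inv (W.inv (P.p k)) ≠ W.inv (P.p k) := fun k => by rw [W.inv_inv]; exact P.ne_inv _ _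
  refine univ_le_of_full T (P.baseB ho) P rfl (P.val_zero ho _) rfl (fun k => ?_) (fun k => ?_) (c3 _).1 (ho.symm ▸ (c3 _).2)
  · exact c4 _ _ (P.inv_ne _) (i1 _) (by rw [W.inv_inv]; exact P.p_inj.ne Fin.castSucc_lt_succ.ne) (P.ne_inv _ _).symm
      (c3 _).1 (c3 _).2
  · exact c4 _ _ (i1 _) (P.inv_ne _) (W.inv_inj.ne (P.p_inj.ne Fin.castSucc_lt_succ.ne)) (P.ne_inv _ _) (c3 _).2 (c3 _).1

end

section

variable {W : WtData ι (Fin (n + 2))} (T : Frame W D) (P : W.Std)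

include T P

theorem fin_C (hl : W.lg) (h : Mono W g τ η) (hg : g ∈ H)
    (h1 : ∀ k : Fin (n + 1), k.castSucc < Fin.last _ → τ (P.p k.castSucc) = P.p k.succ)
    (h2 : τ (P.p (Fin.last _)) = W.inv (P.p 0)) (h3 : ∀ t, XX W D (P.p 0) (W.inv (P.p 1)) t ∈ H)
    (h4 : (2 : F) ≠ 0 ∨ ∀ t, XX W D (P.p 0) (P.p 0) t ∈ H) : D.E ≤ H := by
  have vl : ∀ a, W.Val a a := fun a => val_mk (W.lg_ne hl a) (W.lg_ne hl a).symm fun _ => hl
  obtain ⟨c1, c2, -⟩ := h.chain T hg P h1 h2 (h1 0 (Fin.castSucc_lt_last _)) (by simp) h3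
  have h5 : ∀ t, XX W D (P.p 0) (P.p 0) t ∈ H := h4.elim (fun h4 t => by
    have c3 : ∀ k : Fin (n + 1), ∀ t, XX W D (P.p 0) (W.inv (P.p k.succ)) t ∈ H := fun k => by
      induction k using Fin.induction with
      | zero => exact h3
      | succ k ih =>
        exact full_ss T (P.val_sub (Fin.succ_ne_zero _).symm) (P.inv_ne' _ _) (P.val_sub (j := k.castSucc.succ) (Fin.castSucc_lt_succ (i := k.succ)).ne)
          (by rw [W.inv_inv]; exact P.p_inj.ne (Fin.succ_ne_zero _).symm) (P.inv_ne' _ _)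
          (by rw [W.inv_inv]; exact P.ne_inv _ _) (P.inv_ne' _ _) ih (c1 k.succ (Fin.castSucc_lt_last _)).1
    have e : (0 : Fin (n + 2)) ≠ (Fin.last n).succ := (Fin.succ_ne_zero _).symm
    have := comm_mem T (c3 (Fin.last n) (-T.σ (P.p (Fin.last n).succ) * (t / 2))) (c2 1)
    rw [Fin.succ_last] at this e
    rw [T.comm_short_short _ (P.val_sub e) (P.inv_ne' _ _) (P.val_add e.symm) (P.ne_inv _ _) (P.p_inj.ne e) (P.inv_ne _),
      T.rho_self _ (P.inv_ne _), T.ε_lg hl] at this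
    convert this using 1
    rw [XX, Frame.X, Frame.zz, Frame.dd, if_pos rfl, if_pos rfl]
    congr 1
    field_simp
    linear_combination -2 * t * T.σσ (P.p (Fin.last (n + 1)))) id
  have c4 := h.orbit T P hg h1 h2 (A := fun a => ∀ t, XX W D a a t ∈ H) h5 (fun a _ => h.full T hg (vl a)) _ le_rfl
  exact univ_le_of_full T (P.baseC hl) P rfl (vl _) rfl (fun k => (c1 k (Fin.castSucc_lt_last _)).1)
    (fun k => (c1 k (Fin.castSucc_lt_last _)).2) c4.1 c4.2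

theorem two_C [Finite F] (hl : W.lg) (hq : n = 0 → ∃ a : F, a ≠ 0 ∧ a ≠ 1) : TwoG D.E := by
  have vl : ∀ a, W.Val a a := fun a => val_mk (W.lg_ne hl a) (W.lg_ne hl a).symm fun _ => hl
  obtain ⟨g, g1, τ, η, g2, g3, g4⟩ := cox_BC T P (vl _) (.inl rfl)
  have g5 : τ (P.p 0) = P.p 1 := g3 0 (Fin.castSucc_lt_last _)
  have g6 : τ⁻¹ (P.p 0) = W.inv (P.p (Fin.last _)) := by rw [Equiv.Perm.inv_eq_iff_eq, g2.1, g4, W.inv_inv]
  have g7 : τ⁻¹ (W.inv (P.p 1)) = W.inv (P.p 0) := by rw [Equiv.Perm.inv_eq_iff_eq, g2.1, g5]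
  have e : (0 : Fin (n + 2)) ≠ 1 := by simp
  have el : (0 : Fin (n + 2)) ≠ Fin.last _ := (Fin.last_pos).ne
  have v := P.val_sub e
  rcases field_cases F with hF | hF
  · obtain ⟨c, hc⟩ := exists_gen F
    have hc1 := hc.inv.ne_one hF
    obtain ⟨h, h1, χ, h3, ⟨h4, -⟩, ⟨h5, h5'⟩, h6⟩ := exists_diag T (P.baseC hl) (a := P.p 1) (b := P.p (Fin.last _))
      (val_mk (P.inv_ne _) (P.ne_inv _ _) fun _ => hl) (P.inv_ne _) hc.1
    have h7 : χ (P.p 0) = 1 := h6 _ (P.p_inj.ne e) (P.p_inj.ne el) (P.ne_inv _ _) (P.ne_inv _ _)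
    have h8 : χ (W.inv (P.p 0)) = 1 := h6 _ (P.inv_ne' _ _) (P.inv_ne' _ _) (W.inv_inj.ne (P.p_inj.ne e))
      (W.inv_inj.ne (P.p_inj.ne el))
    have key : ∀ s (H : Subgroup D.isom), h ∈ H → XX W D (P.p 0) (W.inv (P.p 1)) 1 * XX W D (P.p 0) (P.p 0) s * g ∈ H →
        (∀ t, XX W D (P.p 0) (W.inv (P.p 1)) t ∈ H) ∧ XX W D (P.p 0) (P.p 0) s * g ∈ H := fun s H =>
      stage1X T hc.inv g2 h3 v (by rw [h7, h5, one_mul]) (by rwa [g6, g7, h8, h5', mul_one]) hc1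
        (h3.commX T (vl _) (by rw [h7, one_mul]) s)
        fun t => X_comm T (vl _) v (P.ne_inv _ _) (by rw [W.inv_inv]; exact P.p_inj.ne e) (.inl rfl) s t
    have k0 := fun s => mul_mem (mul_mem (X_mem_E T v 1) (X_mem_E T (vl (P.p 0)) s)) g1
    by_cases h2 : (2 : F) = 0
    · have hc2 := hc.sq_ne_one (let ⟨a, h0, h1⟩ := hF; ⟨a, h0, fun e => h1 (sub_eq_zero.1 (pow_eq_zero_iff two_ne_zero |>.1
        (by linear_combination e - (a - 1) * h2)))⟩)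
      refine .of h1 (k0 1) fun H a b => ?_
      obtain ⟨c1, c2⟩ := key 1 H a b
      obtain ⟨c3, c4⟩ := stage2X T hc g2 h3 (vl _) (by rw [g5, h4, sq]; simp) (by rwa [g5, h4, ← sq])
        (by rwa [g6, h5', ← sq, inv_pow, ne_eq, inv_eq_one]) (by rw [h7, one_mul]) a c2
      exact fin_C T P hl g2 c4 g3 g4 c1 (.inr c3)
    · refine .of h1 (k0 0) fun H a b => ?_
      obtain ⟨c1, c2⟩ := key 0 H a b
      rw [X_zero T (vl _), one_mul] at c2
      exact fin_C T P hl g2 c2 g3 g4 c1 (.inl h2)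
  · have e1 : (1 : Fin (n + 2)) ≠ Fin.last _ := fun e => by
      obtain ⟨a, h0, h1⟩ := hq (by simpa [Fin.ext_iff] using e.symm)
      exact h1 ((hF a).resolve_left h0)
    refine .of (mul_mem (X_mem_E T (vl (W.inv (P.p (Fin.last _)))) 1) (mul_mem (X_mem_E T v 1) (X_mem_E T v.inv 1))) g1
      fun H a b => ?_
    obtain ⟨c1, c2⟩ := split_mem (Commute.mul_right
      (X_comm T (vl _) v (W.inv_inj.ne (P.p_inj.ne el.symm)) (by rw [W.inv_inv]; exact P.inv_ne' _ _) (.inl rfl) 1 1)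
      (X_comm T (vl _) v.inv (by rw [W.inv_inv]; exact P.inv_ne' _ _)
        (by rw [W.inv_inv]; exact W.inv_inj.ne (P.p_inj.ne e1.symm)) (.inl rfl) 1 1))
      (X_two T hF (vl _)) (cube_two T (P.baseC hl) hF v) (by decide) a
    have c3 := g2.full T b (vl _) (full_two T hF (vl _) one_ne_zero c1)
    rw [g2.1, g4, W.inv_inv] at c3
    have c4 := g2.orbit T P b g3 g4 (A := fun a => ∀ t, XX W D a a t ∈ H) c3 (fun a _ => g2.full T b (vl a)) 1 (Fin.le_last _)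
    have c5 := inv_mem (comm_mem_of c2 (c4.1 1) (X_comm T (vl _) v.inv (by rw [W.inv_inv]; exact P.p_inj.ne e.symm)
      (by rw [W.inv_inv]; exact P.ne_inv _ _) (.inl rfl) 1 1).symm)
    rw [commutatorElement_inv, T.comm_short_long _ v (P.inv_ne' _ _) (vl _), mul_mem_cancel_right (c3 _)] at c5
    obtain ⟨η', d⟩ := mono_NN T (vl (P.p 1))
    have c6 := d.full T (NN_mem T c4.1 c4.2) (P.val_add e) (full_two T hF (P.val_add e) (by
      simpa using left_ne_zero_of_mul_eq_one (T.σσ _)) c5)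
    refine fin_C T P hl g2 b g3 g4 (fun t => ?_) (.inr c3)
    convert c6 t using 2
    · exact (sg_fix _ ⟨P.p_inj.ne e, P.p_inj.ne e, P.ne_inv _ _, P.ne_inv _ _⟩).symm
    · exact (sg_l _ (P.inv_ne _)).symm

theorem fin_D (hl : ¬ W.lg) (ho : ∀ o, W.inv o ≠ o) (hn : 1 ≤ n) (h : Mono W g τ η) (hg : g ∈ H)
    (h1 : ∀ k : Fin (n + 1), k.castSucc < (Fin.last n).castSucc → τ (P.p k.castSucc) = P.p k.succ)
    (h2 : τ (P.p (Fin.last n).castSucc) = W.inv (P.p 0)) (h2' : τ (P.p (Fin.last _)) = W.inv (P.p (Fin.last _)))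
    (h3 : ∀ t, XX W D (P.p 0) (W.inv (P.p 1)) t ∈ H)
    (h4 : (∀ t, XX W D (P.p 0) (P.p (Fin.last _)) t ∈ H) ∨ ∀ t, XX W D (P.p 1) (P.p (Fin.last _)) t ∈ H) : D.E ≤ H := by
  have g5 : τ (P.p 0) = P.p 1 := h1 0 (by simp [Fin.lt_def]; omega)
  have e : (0 : Fin (n + 2)) ≠ 1 := by simp
  have el : (0 : Fin (n + 2)) ≠ Fin.last _ := (Fin.last_pos).ne
  have e1 : (1 : Fin (n + 2)) ≠ Fin.last _ := by simp [Fin.ext_iff]; omega
  obtain ⟨c1, -⟩ := h.chain T hg P h1 h2 g5 e h3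
  have h5 := h4.elim id (full_ss T (P.val_sub e) (P.inv_ne' _ _) (P.val_add e1) (P.ne_inv _ _) (P.p_inj.ne e1.symm)
    (P.inv_ne _) (P.p_inj.ne el.symm) h3)
  have h6 := h.full T hg (P.val_add el) h5
  rw [g5, h2'] at h6
  have h7 := full_ss T (P.val_sub e) (P.inv_ne' _ _) (P.val_sub e1) (by rw [W.inv_inv]; exact P.p_inj.ne el)
    (P.inv_ne' _ _) (ho _) (P.inv_ne' _ _) h3 h6
  have h8 : τ (W.inv (P.p (Fin.last _))) = P.p (Fin.last _) := by rw [h.1, h2', W.inv_inv]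
  obtain ⟨c2, c3⟩ := h.orbit T P hg h1 h2 (A := fun a => (W.Val a (P.p (Fin.last _)) ∧ W.Val a (W.inv (P.p (Fin.last _)))) ∧
    (∀ t, XX W D a (P.p (Fin.last _)) t ∈ H) ∧ ∀ t, XX W D a (W.inv (P.p (Fin.last _))) t ∈ H)
    ⟨⟨P.val_add el, P.val_sub el⟩, h5, h7⟩ (fun a _ e => ⟨⟨h8 ▸ h.val e.1.2, h2' ▸ h.val e.1.1⟩,
      h8 ▸ h.full T hg e.1.2 e.2.2, h2' ▸ h.full T hg e.1.1 e.2.1⟩) _ le_rfl
  refine univ_le_of_full T (P.baseD hl ho) P rfl (P.val_add (Fin.castSucc_lt_last _).ne) rfl (fun k => ?_) (fun k => ?_)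
    c2.2.1 c3.2.2 <;> induction k using Fin.lastCases
  exacts [c2.2.2, (c1 _ (by simp)).1, c3.2.1, (c1 _ (by simp)).2]

theorem two_D [Finite F] (hl : ¬ W.lg) (ho : ∀ o, W.inv o ≠ o) (hn : 2 ≤ n) : TwoG D.E := by
  have er := (Fin.castSucc_lt_last (Fin.last n)).ne
  obtain ⟨g, g1, τ, η, g2, ρ, a3, a4, a5⟩ := exists_cox T P (P.val_add er)
  have g3 : ∀ k : Fin (n + 1), k.castSucc < (Fin.last n).castSucc → τ (P.p k.castSucc) = P.p k.succ := fun k hk => by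
    rw [a5, sg_fix _ ⟨P.p_inj.ne hk.ne, P.p_inj.ne (Fin.castSucc_lt_last _).ne, P.ne_inv _ _, P.ne_inv _ _⟩, a3,
      finRotate_apply, Fin.coeSucc_eq_succ]
  have g4 : τ (P.p (Fin.last n).castSucc) = W.inv (P.p 0) := by rw [a5, sg_l _ (ho _), a4, finRotate_last]
  have g4' : τ (P.p (Fin.last _)) = W.inv (P.p (Fin.last _)) := by
    rw [a5, sg_r _ (ho _), a4, finRotate_apply, Fin.coeSucc_eq_succ, Fin.succ_last]
  have g5 : τ (P.p 0) = P.p 1 := g3 0 (by simp [Fin.lt_def]; omega)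
  have g6 : τ⁻¹ (P.p 0) = W.inv (P.p (Fin.last n).castSucc) := by rw [Equiv.Perm.inv_eq_iff_eq, g2.1, g4, W.inv_inv]
  have g7 : τ⁻¹ (W.inv (P.p 1)) = W.inv (P.p 0) := by rw [Equiv.Perm.inv_eq_iff_eq, g2.1, g5]
  have g8 : τ⁻¹ (P.p (Fin.last _)) = W.inv (P.p (Fin.last _)) := by rw [Equiv.Perm.inv_eq_iff_eq, g2.1, g4', W.inv_inv]
  have e : (0 : Fin (n + 2)) ≠ 1 := by simp
  have el : (0 : Fin (n + 2)) ≠ Fin.last _ := (Fin.last_pos).ne
  have e1 : (1 : Fin (n + 2)) ≠ Fin.last _ := by simp [Fin.ext_iff]; omega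
  have v := P.val_sub e
  have i1 : ∀ {j k}, P.p j ≠ W.inv (W.inv (P.p k)) ↔ j ≠ k := by simp [W.inv_inv, P.p_inj.eq_iff]
  rcases field_cases F with hF | hF
  · obtain ⟨c, hc⟩ := exists_gen F
    have hc1 := hc.ne_one hF
    have e2 : (1 : Fin (n + 2)) ≠ (Fin.last n).castSucc := by simp [Fin.ext_iff]; omega
    have e3 : (0 : Fin (n + 2)) ≠ (Fin.last n).castSucc := by simp [Fin.ext_iff]; omega
    obtain ⟨h, h1, χ, h3, ⟨h4, h4'⟩, ⟨h5, -⟩, h6⟩ := exists_diag T (P.baseD hl ho) (P.val_sub e2) (ho _) hc.1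
    have h7 : ∀ k, k ≠ 1 → k ≠ (Fin.last n).castSucc → χ (P.p k) = 1 ∧ χ (W.inv (P.p k)) = 1 := fun k k1 k2 =>
      ⟨h6 _ (P.p_inj.ne k1) (P.ne_inv _ _) (P.ne_inv _ _) (i1.2 k2), h6 _ (P.inv_ne' _ _) (W.inv_inj.ne (P.p_inj.ne k2))
        (W.inv_inj.ne (P.p_inj.ne k1)) (W.inv_inj.ne (P.ne_inv _ _))⟩
    have h8 := h7 0 e e3
    have h9 := h7 _ e1.symm er.symm
    refine .of h1 (mul_mem (mul_mem (X_mem_E T v 1) (X_mem_E T (P.val_add el) 1)) g1) fun H a b => ?_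
    obtain ⟨c1, c2⟩ := stage1X T hc.inv g2 h3 v (by rw [h8.1, h5, one_mul]) (by rwa [g6, g7, h8.2, h4', mul_one])
      (hc.inv.ne_one hF) (h3.commX T (P.val_add el) (by rw [h8.1, h9.1, one_mul]) 1)
      (fun t => X_comm T (P.val_add el) v (P.ne_inv _ _) (i1.2 e) (.inr ⟨P.ne_inv _ _, i1.2 e1.symm⟩) 1 t) a b
    obtain ⟨c3, c4⟩ := stage2X T hc g2 h3 (P.val_add el) (.inl (by rw [g5, g4', h4, h9.2, mul_one]))
      (by rwa [g5, g4', h4, h9.2, mul_one]) (by rwa [g6, g8, h4', h9.2, mul_one]) (by rw [h8.1, h9.1, one_mul]) a c2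
    exact fin_D T P hl ho (by omega) g2 c4 g3 g4 g4' c1 (.inl c3)
  · obtain ⟨m, rfl⟩ : ∃ m, n = m + 1 := ⟨n - 1, by omega⟩
    have e2 : (2 : Fin (m + 3)) ≠ Fin.last _ := Fin.ne_of_val_ne (by rw [Fin.val_two, Fin.val_last]; omega)
    have e3 : (0 : Fin (m + 3)) ≠ 2 := Fin.ne_of_val_ne (by rw [Fin.val_two]; simp)
    have e4 : (1 : Fin (m + 3)) ≠ 2 := Fin.ne_of_val_ne (by rw [Fin.val_two]; simp)
    have w := P.val_add e2
    refine .of (mul_mem (X_mem_E T v 1) (mul_mem (X_mem_E T w 1) (X_mem_E T w.inv 1))) g1 fun H a b => ?_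
    obtain ⟨c1, c2⟩ := split_mem (Commute.mul_right
      (X_comm T v w (P.ne_inv _ _) (P.ne_inv _ _) (.inr ⟨W.inv_inj.ne (P.p_inj.ne e4), W.inv_inj.ne (P.p_inj.ne e1)⟩) 1 1)
      (X_comm T v w.inv (i1.2 e3) (i1.2 el) (.inr ⟨W.inv_inj.ne (P.ne_inv _ _), W.inv_inj.ne (P.ne_inv _ _)⟩) 1 1))
      (X_two T hF v) (cube_two T (P.baseD hl ho) hF w) (by decide) a
    have c3 := full_two T hF v one_ne_zero c1
    have c4 := g2.full T b v c3
    rw [g2.1, g5, show τ (P.p 1) = P.p 2 from g3 1 (by simp [Fin.lt_def]; omega)] at c4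
    have c5 := comm_mem_of c2 (c4 1) (X_comm T (P.val_sub e4) w.inv (i1.2 e4) (i1.2 e1)
      (.inr ⟨W.inv_inj.ne (P.ne_inv _ _), W.inv_inj.ne (P.ne_inv _ _)⟩) 1 1).symm
    obtain ⟨s, hs, c6⟩ := comm_ss T (P.val_sub e4) (P.inv_ne' _ _) w (P.ne_inv _ _) (P.p_inj.ne e2.symm) (ho _)
      (P.p_inj.ne e1.symm)
    rw [c6] at c5
    exact fin_D T P hl ho (by omega) g2 b g3 g4 g4' c3 (.inr (full_two T hF (P.val_add e1) (by simpa using hs) c5))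

end

end Cfsg.Lib.Pres
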