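import Cfsg.Agent.Lib.Pres.TwoBCD
import Cfsg.Agent.Lib.Chev.LiftD
import Cfsg.Agent.Lib.Chev.MatTop

/-!
Generation of the Chevalley groups by two elements, by certificates on the root tables.
-/

set_option autoImplicit false

namespace Cfsg.Lib.Pres

open Cfsg.Lib.Chev Cfsg.Lie Subgroup
open scoped commutatorElement

/-- The action of a word on the indices of the roots. -/
noncomputable def wN (D : ChevalleyDatum) (l : List ℕ) (r : ℕ) : ℕ := List.rec r (fun i _ s => D.reflectRoot i s) l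

/-- All terms but the one at `k` are known. -/
noncomputable def trm (kn : List ℕ) (un : List ℤ) (k : ℕ) (T : List (ℕ × ℤ × ℕ × ℕ)) : Bool :=
  List.rec false (fun c T ih => if c.1 = k then un.contains c.2.1 && c.2.2.2 == 1 && T.all (fun d => kn.contains d.1)
    else kn.contains c.1 && ih) T

/-- The root groups of `r` and `s` commute. -/
def cmN (D : ChevalleyDatum) (r s : ℕ) : Bool := s != r && s != D.neg r && (D.commTerms r s).isEmpty

/-- One step of a certificate. -/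
noncomputable def stepOK (D : ChevalleyDatum) (l : List ℕ) (cz : ℕ → Bool) (ex : ℕ → ℕ → Bool) (un : List ℤ)
    (kn : List ℕ) (p : ℕ × ℕ × ℕ) : Bool :=
  kn.contains p.2.1 && if p.2.2 < D.nroots then (kn.contains p.2.2 || ex p.2.1 p.2.2) && p.2.2 != p.2.1 &&
    p.2.2 != D.neg p.2.1 && trm kn un p.1 (D.commTerms p.2.1 p.2.2) else p.1 == wN D l p.2.1 && cz p.1

/-- A certificate. -/
noncomputable def runC (D : ChevalleyDatum) (l : List ℕ) (cz : ℕ → Bool) (ex : ℕ → ℕ → Bool) (un : List ℤ)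
    (f : List ℕ → Bool) (P : List (ℕ × ℕ × ℕ)) : List ℕ → Bool :=
  List.rec f (fun p _ ih kn => stepOK D l cz ex un kn p && ih (p.1 :: kn)) P

/-- The fundamental roots and their negatives are known. -/
noncomputable def finC (D : ChevalleyDatum) (kn : List ℕ) : Bool :=
  allLt D.rank fun i => kn.contains (D.simple i) && kn.contains (D.neg (D.simple i))

theorem trm_spec {n : ℕ} {kn : List ℕ} {un : List ℤ} {k : ℕ} {T : List (Fin n × ℤ × ℕ × ℕ)}
    (h : trm kn un k (T.map fun c => ((c.1 : ℕ), c.2)) = true) : ∃ l₁ l₂, ∃ k' : Fin n, ∃ C i, T = l₁ ++ (k', C, i, 1) :: l₂ ∧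
      (k' : ℕ) = k ∧ C ∈ un ∧ ∀ c ∈ l₁ ++ l₂, (c.1 : ℕ) ∈ kn := by
  induction T with
  | nil => cases h
  | cons c T ih =>
    have h' : (if (c.1 : ℕ) = k then un.contains c.2.1 && c.2.2.2 == 1 &&
      (T.map fun c => ((c.1 : ℕ), c.2)).all (fun d => kn.contains d.1) else
        kn.contains (c.1 : ℕ) && trm kn un k (T.map fun c => ((c.1 : ℕ), c.2))) = true := h
    split_ifs at h' with e
    · simp only [Bool.and_eq_true, List.contains_iff_mem, beq_iff_eq, List.all_eq_true, List.forall_mem_map] at h'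
      exact ⟨[], T, c.1, c.2.1, c.2.2.1, by rw [← h'.1.2]; rfl, e, h'.1.1, h'.2⟩
    · simp only [Bool.and_eq_true, List.contains_iff_mem] at h'
      obtain ⟨l₁, l₂, k', C, i, a, b, d, f⟩ := ih h'.2
      exact ⟨c :: l₁, l₂, k', C, i, by rw [a]; rfl, b, d, by simpa [h'.1] using f⟩

section

variable {I Φ : Type*} [Fintype I] [DecidableEq I] {R : RootSys I Φ} {K : Type*} [Field K] {G : Type*} [Group G]
  {S : PreSys R K G} {g h : G} {w : Equiv.Perm Φ} {r : Φ} {a c : K}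

theorem act_conj (hg : S.Act g w) (A : Act (S.x r) h a) : Act (S.x (w r)) (g * h * g⁻¹) a := ⟨S.x_add _, fun t => by
  obtain ⟨χ, h1, -, h2⟩ := hg
  obtain ⟨t, rfl⟩ : ∃ u, t = χ r * u := ⟨_, (mul_inv_cancel_left₀ (h1 r) t).symm⟩
  rw [mul_left_comm, ← h2, ← h2, ← A.conj]; group⟩

theorem act_h (hS : S.St) (ρ r : Φ) (hc : c ≠ 0) : Act (S.x r) (S.h ρ c) (c ^ R.pair ρ r) :=
  ⟨S.x_add _, hS.h_conj ρ hc r⟩

theorem Gen.ok (hc : Gen c) (h1 : c ≠ 1) {b : Bool} (h2 : b = true → c ^ 2 ≠ 1) {k : ℤ}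
    (hk : (k.natAbs == 1 || b && k.natAbs == 2) = true) :
    (∃ d, Gen d ∧ (c ^ k = d ∨ c ^ k = d ^ 2)) ∧ c ^ k ≠ 1 := by
  simp only [Bool.or_eq_true, Bool.and_eq_true, beq_iff_eq, Int.natAbs_eq_iff] at hk
  rcases hk with (rfl | rfl) | ⟨e, rfl | rfl⟩
  · exact ⟨⟨c, hc, by simp⟩, by simpa⟩
  · exact ⟨⟨_, hc.inv, by simp⟩, by simpa⟩
  · exact ⟨⟨c, hc, .inr (zpow_natCast c 2)⟩, (zpow_natCast c 2).trans_ne (h2 e)⟩
  · exact ⟨⟨_, hc.inv, .inr (by rw [zpow_neg, zpow_natCast, inv_pow])⟩, by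
      rw [zpow_neg, zpow_natCast, ne_eq, inv_eq_one]; exact h2 e⟩

end

variable {D : ChevalleyDatum} {R : RootSys (Fin D.rank) (Fin D.nroots)} (hc : Compat D R) {K : Type*} [Field K]
  {G : Type*} [Group G] {S : PreSys R K G} (hS : S.St) (hE : S.Exact fun r s => termsF D r s) {H : Subgroup G}

include hc

theorem wN_eq (l : List (Fin D.rank)) (r : Fin D.nroots) : wN D (l.map Fin.val) r = R.wprod l r := by
  induction l with
  | nil => rfl
  | cons i l ih => rw [R.wprod_cons, Equiv.Perm.mul_apply, R.s_apply, hc.refl_eq, ← ih]; rfl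

include hE

theorem cmN_spec {r s : Fin D.nroots} (h : cmN D r s = true) (t u : K) : Commute (S.x r t) (S.x s u) := by
  simp only [cmN, Bool.and_eq_true, bne_iff_ne, List.isEmpty_iff] at h
  have := hE r s (fun e => h.1.1 (congrArg Fin.val e)) (hc.ne_neg_of_val h.1.2) t u
  simpa [show termsF D r s = [] by rw [termsF, h.2]; rfl, commute_iff_eq] using this.symm

theorem run_spec {l : List (Fin D.rank)} {cz : ℕ → Bool} {ex : ℕ → ℕ → Bool} {un : List ℤ} {f : List ℕ → Bool}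
    (hW : ∀ r, cz (R.wprod l r) = true → (∀ t, S.x r t ∈ H) → ∀ t, S.x (R.wprod l r) t ∈ H)
    (hex : ∀ r s : Fin D.nroots, ex r s = true → (∀ t, S.x r t ∈ H) → ∀ t u, ⁅S.x s u, S.x r t⁆ ∈ H)
    (hun : ∀ C ∈ un, (C : K) ≠ 0) {P : List (ℕ × ℕ × ℕ)} {kn : List ℕ}
    (h : runC D (l.map Fin.val) cz ex un f P kn = true) (hk : ∀ k ∈ kn, ∃ e : k < D.nroots, ∀ t, S.x ⟨k, e⟩ t ∈ H) :
    ∃ kn, f kn = true ∧ ∀ k : Fin D.nroots, (k : ℕ) ∈ kn → ∀ t, S.x k t ∈ H := by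
  induction P generalizing kn with
  | nil => exact ⟨kn, h, fun k e => (hk k e).2⟩
  | cons p P ih =>
    have h' : (stepOK D (l.map Fin.val) cz ex un kn p && runC D (l.map Fin.val) cz ex un f P (p.1 :: kn)) = true := h
    rw [Bool.and_eq_true] at h'
    refine ih h'.2 (List.forall_mem_cons.2 ⟨?_, hk⟩)
    obtain ⟨k, r, s⟩ := p
    have h1 := h'.1
    simp only [stepOK, Bool.and_eq_true, List.contains_iff_mem] at h1
    obtain ⟨hr, h2⟩ := hk r h1.1
    have h3 := h1.2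
    split_ifs at h3 with hs
    · simp only [Bool.and_eq_true, Bool.or_eq_true, List.contains_iff_mem, bne_iff_ne] at h3
      have h4 := h3.2
      rw [show D.commTerms r s = _ from (hc.map_termsF ⟨r, hr⟩ ⟨s, hs⟩).symm] at h4
      obtain ⟨l₁, l₂, k', C, i, a, rfl, d, e⟩ := trm_spec h4
      refine ⟨k'.2, hE.mem_of_terms (r := ⟨r, hr⟩) (s := ⟨s, hs⟩) (fun e => h3.1.1.2 (congrArg Fin.val e))
        (hc.ne_neg_of_val h3.1.2) (h3.1.1.1.elim (fun e t u => ?_) fun e => hex ⟨r, hr⟩ ⟨s, hs⟩ e h2) a (hun C d)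
        fun c e' => (hk _ (e c e')).2⟩
      exact mul_mem (conj_mem' ((hk s e).2 u) (h2 t)) (inv_mem (h2 t))
    · simp only [Bool.and_eq_true, beq_iff_eq] at h3
      obtain rfl : k = R.wprod l ⟨r, hr⟩ := h3.1.trans (wN_eq hc l ⟨r, hr⟩)
      exact ⟨_, hW _ h3.2 h2⟩

include hS

theorem run_fin {l : List (Fin D.rank)} {ex : ℕ → ℕ → Bool} {un : List ℤ} (hn : S.nw l ∈ H)
    (hex : ∀ r s : Fin D.nroots, ex r s = true → (∀ t, S.x r t ∈ H) → ∀ t u, ⁅S.x s u, S.x r t⁆ ∈ H)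
    (hun : ∀ C ∈ un, (C : K) ≠ 0) {P : List (ℕ × ℕ × ℕ)} {kn : List (Fin D.nroots)}
    (h : runC D (l.map Fin.val) (fun _ => true) ex un (finC D) P (kn.map Fin.val) = true)
    (hk : ∀ k ∈ kn, ∀ t, S.x k t ∈ H) : S.U Set.univ ≤ H := by
  obtain ⟨kn, a, b⟩ := run_spec hc hE (fun r _ => hS.x_mem_of_conj hn (hS.act_nw l)) hex hun h
    (List.forall_mem_map.2 fun k e => ⟨k.2, hk k e⟩)
  have c := fun i : Fin D.rank => allLt_spec a i i.2
  simp only [Bool.and_eq_true, List.contains_iff_mem, ← hc.simple_eq, ← hc.neg_eq] at c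
  exact hS.univ_le_of_simple (fun i => mul_mem (mul_mem (b _ (c i).1 _) (b _ (c i).2 _)) (b _ (c i).1 _))
    fun i => b _ (c i).1

variable [Finite K] (hM : S.Mult) (hG : S.U Set.univ = ⊤)

include hM

omit hE in
theorem stage1C {c : K} (hc' : Gen c) (h1 : c ≠ 1) {b : Bool} (h2 : b = true → c ^ 2 ≠ 1) (l : List (Fin D.rank))
    (ρ r : Fin D.nroots) (e1 : ((prN D ρ r).natAbs == 1 || b && (prN D ρ r).natAbs == 2) = true)
    (e2 : ((prN D ρ (wN D (l.reverse.map Fin.val) r)).natAbs == 1 ||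
      b && (prN D ρ (wN D (l.reverse.map Fin.val) r)).natAbs == 2) = true) {z : G} (hz : Commute z (S.h ρ c))
    (hz' : ∀ t, Commute z (S.x r t)) (h3 : S.h ρ c ∈ H) (h4 : S.x r 1 * z * S.nw l ∈ H) :
    (∀ t, S.x r t ∈ H) ∧ z * S.nw l ∈ H := by
  rw [wN_eq hc, ← hc.pair_eq, R.wprod_reverse] at e2
  rw [← hc.pair_eq] at e1
  obtain ⟨⟨d, a1, a2⟩, a3⟩ := hc'.ok h1 h2 e1
  have := act_conj (hS.act_nw l) (act_h hS ρ ((R.wprod l)⁻¹ r) hc'.1)
  rw [show R.wprod l ((R.wprod l)⁻¹ r) = r by simp] at this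
  exact stage1 a1 (act_h hS ρ r hc'.1) a2 this
    (hS.H_comm hM (S.h_mem_H _ hc'.1) (hS.conj_mem_H (S.nw_mem_N l) (S.h_mem_H _ hc'.1))) hz hz' h3 h4 a3
    (hc'.ok h1 h2 e2).2

include hG

theorem two_A (h1 : ∃ a : K, a ≠ 0 ∧ a ≠ 1) (b : Bool) (h2 : b = true → ∃ a : K, a ≠ 0 ∧ a ^ 2 ≠ 1)
    (ρ r s : Fin D.nroots) (P : List (ℕ × ℕ × ℕ))
    (h : let l := (List.finRange D.rank); let ok := fun k : ℕ => (prN D ρ k).natAbs == 1 || b && (prN D ρ k).natAbs == 2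
      (ok r && ok (wN D (l.reverse.map Fin.val) r) && ok (wN D (l.map Fin.val) s) && ok (wN D (l.reverse.map Fin.val) s) &&
        prN D ρ s == 0 && cmN D r s &&
        runC D (l.map Fin.val) (fun _ => true) (fun _ _ => false) [1, -1] (finC D) P ([r, s].map Fin.val)) = true) :
    TwoG (⊤ : Subgroup G) := by
  obtain ⟨c, hc'⟩ := exists_gen K
  simp only [Bool.and_eq_true] at h
  obtain ⟨⟨⟨⟨⟨⟨e1, e2⟩, e3⟩, e4⟩, e5⟩, e6⟩, e7⟩ := h
  set l := List.finRange D.rank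
  have c1 := hc'.ne_one h1
  have c2 := fun e => hc'.sq_ne_one (h2 e)
  have c3 : ∀ t, Commute (S.x s t) (S.h ρ c) := fun t => by
    have := hS.h_conj ρ hc'.1 s t
    rw [hc.pair_eq, beq_iff_eq.1 e5, zpow_zero, one_mul, mul_inv_eq_iff_eq_mul] at this
    exact this.symm
  refine .of (mem_top (S.h ρ c)) (mem_top (S.x r 1 * S.x s 1 * S.nw l)) fun H a1 a2 => hG ▸ ?_
  obtain ⟨b1, b2⟩ := stage1C hc hS hM hc' c1 c2 l ρ r e1 e2 (c3 1) (fun t => (cmN_spec hc hE e6 t 1).symm) a1 a2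
  rw [wN_eq hc, ← hc.pair_eq] at e3 e4
  rw [R.wprod_reverse] at e4
  obtain ⟨⟨d, d1, d2⟩, d3⟩ := hc'.ok c1 c2 e3
  have f1 := act_conj (hS.act_nw l) (act_h hS ρ ((R.wprod l)⁻¹ s) hc'.1)
  have f2 := act_conj ((hS.act_nw l).inv (R.wprod_mem_W l)) (act_h hS ρ (R.wprod l s) hc'.1)
  rw [show R.wprod l ((R.wprod l)⁻¹ s) = s by simp] at f1
  rw [show (R.wprod l)⁻¹ (R.wprod l s) = s by simp, inv_inv] at f2
  have f3 := hS.conj_mem_H (inv_mem (S.nw_mem_N l)) (S.h_mem_H ρ hc'.1)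
  rw [inv_inv] at f3
  obtain ⟨b3, b4⟩ := stage2 d1 f2 d2 f1 (hS.H_comm hM f3 (hS.conj_mem_H (S.nw_mem_N l) (S.h_mem_H _ hc'.1))) (c3 1) a1 b2
    d3 (hc'.ok c1 c2 e4).2
  exact run_fin hc hS hE b4 (by simp) (by simp) e7 (by simp [b1, b3])

theorem two_B2 (h2 : (2 : K) ≠ 0) (ρ r : Fin D.nroots) (P : List (ℕ × ℕ × ℕ))
    (h : let l := (List.finRange D.rank); let ok := fun k : ℕ => (prN D ρ k).natAbs == 1 || false && (prN D ρ k).natAbs == 2
      (ok r && ok (wN D (l.reverse.map Fin.val) r) &&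
        runC D (l.map Fin.val) (fun _ => true) (fun _ _ => false) [2, -2] (finC D) P ([r].map Fin.val)) = true) :
    TwoG (⊤ : Subgroup G) := by
  obtain ⟨c, hc'⟩ := exists_gen K
  simp only [Bool.and_eq_true] at h
  set l := List.finRange D.rank
  refine .of (mem_top (S.h ρ c)) (mem_top (S.x r 1 * 1 * S.nw l)) fun H a1 a2 => hG ▸ ?_
  obtain ⟨b1, b2⟩ := stage1C hc hS hM hc' (hc'.ne_one ⟨-1, by simp, fun e => h2 (by linear_combination -e)⟩) (by simp)
    l ρ r h.1.1 h.1.2 (Commute.one_left _) (fun _ => Commute.one_left _) a1 a2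
  exact run_fin hc hS hE (one_mul (S.nw l) ▸ b2) (by simp) (by simp [h2]) h.2 (by simp [b1])

theorem two_G2 (h1 : (-1 : K) ≠ 1) (h2 : ∀ t : K, t = 0 ∨ t ^ 2 = 1) (ρ r s : Fin D.nroots) (P P' : List (ℕ × ℕ × ℕ))
    (h : let l := (List.finRange D.rank); let ok := fun k : ℕ => (prN D ρ k).natAbs == 1 || false && (prN D ρ k).natAbs == 2
      (ok s && ok (wN D (l.reverse.map Fin.val) s) &&
        runC D (l.map Fin.val) (fun k => cmN D k s) (fun _ _ => false) [1, -1]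
          (fun kn => kn.contains (ρ : ℕ) && kn.contains (D.neg ρ)) P [r] &&
        runC D (l.map Fin.val) (fun _ => true) (fun _ _ => false) [1, -1] (finC D) P' ([r, s].map Fin.val)) = true) :
    TwoG (⊤ : Subgroup G) := by
  obtain ⟨c, hc'⟩ := exists_gen K
  simp only [Bool.and_eq_true] at h
  set l := List.finRange D.rank
  refine .of (mem_top (S.x r 1)) (mem_top (S.x s 1 * 1 * S.nw l)) fun H a1 a2 => hG ▸ ?_
  have b0 : ∀ t, S.x r t ∈ H := fun t => by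
    rcases h2 t with rfl | e
    · exact (S.x_zero r).symm ▸ one_mem _
    · rcases sq_eq_one_iff.1 e with rfl | rfl
      exacts [a1, (S.x_neg r 1).symm ▸ inv_mem a1]
  obtain ⟨kn, b1, b2⟩ := run_spec hc hE (H := H) (fun k e f t => by
    obtain ⟨χ, x1, -, x2⟩ := hS.act_nw l
    have := conj_mem' a2 (f ((χ k)⁻¹ * t))
    rwa [show ∀ a b c : G, a * 1 * b * c * (a * 1 * b)⁻¹ = a * (b * c * b⁻¹) * a⁻¹ from fun _ _ _ => by group, x2,
      mul_inv_cancel_left₀ (x1 k), (cmN_spec hc hE e t 1).symm.mul_inv_cancel] at this) (by simp) (by simp) h.1.2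
    (by simpa using b0)
  simp only [Bool.and_eq_true, List.contains_iff_mem, ← hc.neg_eq] at b1
  have b3 : ∀ t, S.n ρ t ∈ H := fun t => mul_mem (mul_mem (b2 _ b1.1 _) (b2 _ b1.2 _)) (b2 _ b1.1 _)
  obtain ⟨b4, b5⟩ := stage1C hc hS hM hc' (hc'.ne_one ⟨-1, by simp, h1⟩) (by simp)
    l ρ s h.1.1.1 h.1.1.2 (Commute.one_left _) (fun _ => Commute.one_left _) (mul_mem (b3 _) (b3 _)) a2
  exact run_fin hc hS hE (one_mul (S.nw l) ▸ b5) (by simp) (by simp) h.2 (by simp [b0, b4])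

omit hM [Finite K] in
theorem two_Q (hK : ∀ t : K, t = 0 ∨ t = 1) (r s : Fin D.nroots) (P : List (ℕ × ℕ × ℕ))
    (h : (cmN D r s && cmN D r (D.neg s) && runC D ((List.finRange D.rank).map Fin.val) (fun _ => true)
      (fun a b => b == s && cmN D a (D.neg s)) [1, -1] (finC D) P ([r].map Fin.val)) = true) : TwoG (⊤ : Subgroup G) := by
  simp only [Bool.and_eq_true, ← hc.neg_eq] at h
  have h2 : (-1 : K) = 1 := (hK _).resolve_left (by simp)
  have h3 := hS.n_neg_root s one_ne_zero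
  have h4 := S.n_neg s 1
  simp only [PreSys.n, RootSys.neg_neg, inv_one, h2] at h3 h4
  have h5 : ∀ (H : Subgroup G) (k : Fin D.nroots), S.x k 1 ∈ H → ∀ t, S.x k t ∈ H := fun H k e t => by
    rcases hK t with rfl | rfl
    exacts [(S.x_zero k).symm ▸ one_mem _, e]
  refine .of (mem_top (S.x r 1 * (S.x s 1 * S.x (R.neg s) 1))) (mem_top (S.nw (List.finRange _))) fun H a1 a2 => hG ▸ ?_
  obtain ⟨c1, c2⟩ := split_mem (p := 2) (q := 3) ((cmN_spec hc hE h.1.1 1 1).mul_right (cmN_spec hc hE h.1.2 1 1))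
    (by rw [sq, ← S.x_add, (hK (1 + 1)).resolve_right (by simp), S.x_zero])
    (by rw [show ∀ x y : G, (x * y) ^ 3 = x * y * x * (y * x * y) from fun x y => by
      simp only [pow_succ, pow_zero, one_mul, mul_assoc], h3]; exact mul_eq_one_iff_eq_inv.2 h4) (by decide) a1
  refine run_fin hc hS hE a2 (fun a b e f t u => ?_) (by simp) h.2 (by simpa using h5 H r c1)
  simp only [Bool.and_eq_true, beq_iff_eq, Fin.val_inj] at e
  rcases hK u with rfl | rfl
  · simp [S.x_zero]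
  · rw [← commutatorElement_inv, inv_mem_iff, e.1]
    exact comm_mem_of c2 (f t) (cmN_spec hc hE e.2 t 1).symm

end Cfsg.Lib.Pres
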