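import Cfsg.Agent.Lib.Pres.Tr2
import Cfsg.Agent.Lib.U3.Basic
import Cfsg.Agent.Lib.Forms.Para

/-!
Triangles of isotropic points in the unitary plane: six orbits generate all of them under tetrahedra.
-/

set_option autoImplicit false

namespace Cfsg.Lib.Pres.U3

open Cfsg.Lib.U3 Cfsg.Lib.Forms MulAction

variable {F : Type*} [Field F] {σ : F →+* F} {q : ℕ} {h : IsConj σ q}

/-- The angular invariant of three points. -/
def tau (a b c : Pt h) : F :=
  (aH h).B (vec a) (vec b) * (aH h).B (vec b) (vec c) * (aH h).B (vec c) (vec a)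

theorem tau_smul (g : SU3 h) (a b c : Pt h) :
    ∃ s : F, s ≠ 0 ∧ tau a b c = s * σ s * tau (g • a) (g • b) (g • c) := by
  obtain ⟨x, hx⟩ := su_smul_eq_iff.1 (rfl : g • a = _)
  obtain ⟨y, hy⟩ := su_smul_eq_iff.1 (rfl : g • b = _)
  obtain ⟨z, hz⟩ := su_smul_eq_iff.1 (rfl : g • c = _)
  refine ⟨x * y * z, mul_ne_zero (mul_ne_zero (ne_zero_of_vec hx) (ne_zero_of_vec hy)) (ne_zero_of_vec hz), ?_⟩
  rw [tau, ← Form.B_isom g.1 (vec a), ← Form.B_isom g.1 (vec b), ← Form.B_isom g.1 (vec c), hx, hy, hz, tau]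
  simp only [aH_B, Pi.smul_apply, smul_eq_mul, map_mul]
  ring

theorem exists_nn {a : Pt h} (ha : a ≠ none) : ∃ x, nn h x • (some 1 : Pt h) = a := by
  obtain ⟨x, rfl⟩ := Option.ne_none_iff_exists'.1 ha
  exact ⟨x, by rw [nn_smul_some, mul_one]⟩

theorem exists_std {a b : Pt h} (hab : b ≠ a) : ∃ g : SU3 h, g • none = a ∧ g • some 1 = b := by
  obtain ⟨g, rfl⟩ : ∃ g : SU3 h, g • none = a := by
    cases a with
    | none => exact ⟨1, one_smul _ _⟩
    | some y => exact ⟨nn h y * ww h, by rw [mul_smul, ww_smul_none, nn_smul_some, mul_one]⟩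
  obtain ⟨x, hx⟩ := exists_nn (a := g⁻¹ • b) (by rwa [Ne, inv_smul_eq_iff])
  exact ⟨g * nn h x, by rw [mul_smul, nn_smul_none], by rw [mul_smul, hx, smul_inv_smul]⟩

/-- A set of triangles closed under the group and under tetrahedra. -/
structure Clo (C : Pt h → Pt h → Pt h → Prop) : Prop where
  smul : ∀ (g : SU3 h) {a b c}, C a b c → C (g • a) (g • b) (g • c)
  swap : ∀ {a b c}, C a b c → C a c b
  tet : ∀ {d a b c}, C d a b → C d b c → C d a c → C a b c

/-- All triangles of type `ρ` belong to `C`. -/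
def Ty (C : Pt h → Pt h → Pt h → Prop) (ρ : F) : Prop :=
  ∀ x : Heis h, x.b ≠ 0 → x.b * σ ρ = σ x.b * ρ → C none (some 1) (some x)

variable {C : Pt h → Pt h → Pt h → Prop} {ρ γ : F}

theorem Clo.all (hC : Clo C) (H : Ty C ρ) {a b c : Pt h} {t : F} (e : tau a b c = t) (h0 : t ≠ 0)
    (h1 : t * σ ρ = σ t * ρ) : C a b c := by
  obtain ⟨g, rfl, rfl⟩ := exists_std (a := a) (b := b) (by
    rintro rfl
    exact h0 (by rw [← e, tau, show (aH h).B (vec b) (vec b) = 0 from Q_vec b, zero_mul, zero_mul]))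
  obtain ⟨c, rfl⟩ := MulAction.surjective g c
  obtain ⟨s, hs, e'⟩ := tau_smul g none (some 1) c
  simp only [e] at e'
  refine hC.smul g ?_
  cases c with
  | none => simp [tau, aH_B, vec, hs, h0] at e'
  | some x =>
    replace e' : x.b = s * σ s * t := by simpa [tau, aH_B, vec] using e'
    exact H x (by simp [e', hs, h0]) (by
      simp only [e', map_mul, h.σσ]; linear_combination s * σ s * h1)

theorem Clo.conj (hC : Clo C) (H : Ty C ρ) : Ty C (σ ρ) := fun x h0 h1 =>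
  hC.swap (hC.all H (t := σ x.b) (by simp [tau, aH_B, vec]) (by simpa using h0) (by
    rw [h.σσ] at h1 ⊢; exact h1.symm))

theorem Ty.mul (H : Ty C ρ) {s : F} (hs : σ s = s) (h0 : s ≠ 0) : Ty C (s * ρ) := fun x hx e =>
  H x hx (mul_left_cancel₀ h0 (by rw [map_mul, hs] at e; linear_combination e))

theorem Clo.step (hC : Clo C) (H1 : Ty C 1) (H2 : Ty C γ) (hγ : σ γ ≠ γ) (H : Ty C ρ)
    (h1 : γ * ρ + σ (γ * ρ) ≠ 0) : Ty C (γ * ρ) := fun x h0 e => by
  by_cases e1 : σ x.b = x.b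
  · exact H1 x h0 (by simp [e1])
  by_cases e2 : x.b * σ γ = σ x.b * γ
  · exact H2 x h0 e2
  have h2 : x.a ≠ 0 := fun e0 => h1 (mul_left_cancel₀ h0 (by
    have := x.rel
    rw [e0, zero_mul, add_zero] at this
    linear_combination e + γ * ρ * this))
  have h3 := (map_ne_zero σ).2 h2
  have h4 := sub_ne_zero.2 hγ.symm
  have h5 := sub_ne_zero.2 hγ
  obtain ⟨m, hm⟩ : ∃ m, m * (γ - σ γ) = (γ + σ γ) * (x.b + σ x.b) := ⟨_, div_mul_cancel₀ _ h4⟩
  have hm' : σ m = -m := mul_right_cancel₀ h5 (by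
    have := congrArg σ hm
    simp only [map_mul, map_add, map_sub, h.σσ] at this
    linear_combination this - hm)
  obtain ⟨w, hw⟩ := h.exists_norm_eq (a := m * (x.b - σ x.b) - m * m) (by
    simp only [map_mul, map_sub, h.σσ, hm']; ring)
  obtain ⟨z, hz⟩ : ∃ z, z * σ z = m * (σ z - z + x.b - σ x.b) := ⟨w + m, by
    rw [map_add, hm']; linear_combination hw⟩
  obtain ⟨s, hs⟩ : ∃ s, s * (γ - σ γ) = σ z - z + x.b - σ x.b := ⟨_, div_mul_cancel₀ _ h4⟩
  have hs' : σ s = s := mul_right_cancel₀ h5 (by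
    have := congrArg σ hs
    simp only [map_mul, map_add, map_sub, h.σσ] at this
    linear_combination this + hs)
  have h6 : z * σ z = s * (γ + σ γ) * (x.b + σ x.b) := by rw [hz, ← hs]; linear_combination s * hm
  have s0 : s ≠ 0 := by
    rintro rfl
    have : z = 0 := by simpa using h6
    exact e1 (by rw [this, map_zero] at hs; linear_combination hs)
  have γ0 : γ ≠ 0 := by rintro rfl; simp at hγ
  have ht : σ (z + s * γ + σ x.b) = z + s * γ + σ x.b := by
    simp only [map_mul, map_add, h.σσ, hs']; linear_combination -hs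
  have t0 : z + s * γ + σ x.b ≠ 0 := fun e0 => by
    have e3 : z = -(s * γ + σ x.b) := by linear_combination e0
    have e4 : (s * γ - x.b) * σ (s * γ - x.b) = 0 := by
      rw [e3] at h6
      simp only [map_mul, map_add, map_sub, map_neg, h.σσ, hs'] at h6 ⊢
      linear_combination h6
    have e5 : x.b = s * γ := (sub_eq_zero.1 (by rwa [mul_eq_zero, map_eq_zero, or_self] at e4)).symm
    exact e2 (by rw [e5, map_mul, hs']; ring)
  let y : Heis h := ⟨z / σ x.a, s * γ, by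
    simp only [map_mul, map_div₀, h.σσ, hs']
    field_simp
    linear_combination h6 + s * (γ + σ γ) * x.rel⟩
  have e3 : (aH h).B (vec (some x)) (vec (some y)) = z + s * γ + σ x.b := by
    simp [aH_B, vec, y]; field_simp; ring
  refine hC.tet (d := some y) (hC.all H2 (t := s * γ) (by simp [tau, aH_B, vec, y]) (by simp [*]) (by
      rw [map_mul, hs']; ring))
    (hC.all H (t := s * σ γ * x.b * (z + s * γ + σ x.b)) (by rw [tau, e3]; simp [aH_B, vec, y, hs'])
      (by simp [*]) ?_)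
    (hC.all H1 (t := z + s * γ + σ x.b) (by rw [tau, e3]; simp [aH_B, vec]) t0 (by simp only [ht, map_one]))
  simp only [map_mul, ht, hs', h.σσ] at e ⊢
  linear_combination s * (z + s * γ + σ x.b) * e

theorem Clo.col (hC : Clo C) (H : ∀ ρ : F, ρ + σ ρ ≠ 0 → Ty C ρ) {a b c : Pt h} (h1 : a ≠ b) (h2 : b ≠ c)
    (h3 : a ≠ c) : C a b c := by
  obtain ⟨g, rfl, rfl⟩ := exists_std h1.symm
  obtain ⟨c, rfl⟩ := MulAction.surjective g c
  simp only [Ne, smul_left_cancel_iff] at h2 h3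
  obtain ⟨x, rfl⟩ := Option.ne_none_iff_exists'.1 (Ne.symm h3)
  have h0 : x.b ≠ 0 := fun e => h2 (by rw [Heis.eq_one_of_b e])
  refine hC.smul g ?_
  by_cases e : x.b + σ x.b = 0
  swap
  · exact H _ e x h0 (mul_comm _ _)
  have e0 : x.a = 0 := by simpa [e] using x.rel
  obtain ⟨y, hy⟩ := Heis.exists_a (h := h) 1
  have e1 : y.b + σ y.b = -1 := by
    have := y.rel
    rw [hy, map_one] at this
    linear_combination this
  have H' : ∀ {a b c : Pt h} {t : F}, tau a b c = t → t + σ t ≠ 0 → C a b c := fun e ht =>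
    hC.all (H _ ht) e (by rintro rfl; simp at ht) (mul_comm _ _)
  refine hC.tet (d := some y) (H' (t := y.b) (by simp [tau, aH_B, vec]) (by simp [e1]))
    (H' (t := σ y.b * x.b * (y.b + σ x.b)) (by simp [tau, aH_B, vec, e0]) fun e2 => ?_)
    (H' (t := y.b + σ x.b) (by simp [tau, aH_B, vec, e0]) fun e2 => ?_) <;>
    simp only [map_mul, map_add, h.σσ, show σ x.b = -x.b by linear_combination e, map_neg, neg_neg] at e2
  · exact mul_ne_zero h0 h0 (by linear_combination e2 + x.b * x.b * e1)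
  · exact one_ne_zero (α := F) (by linear_combination e1 - e2)

theorem norm_one_pow (h : IsConj σ q) (hγ : Gen γ) {u : F} (hu : u * σ u = 1) : ∃ k : ℕ, (γ / σ γ) ^ k = u := by
  obtain ⟨c, h0, rfl⟩ := h.exists_div_eq hu
  obtain ⟨k, rfl⟩ := hγ.2 c h0
  exact ⟨k, by rw [map_pow, div_pow, div_eq_mul_inv]⟩

theorem exists_ty (hγ : Gen γ) (h0 : ρ ≠ 0) : ∃ t : Fin 3 → Heis h, (∀ i, t i ≠ 1) ∧
    ∀ C : Pt h → Pt h → Pt h → Prop, Clo C → (∀ i, C none (some 1) (some (t i))) → Ty C ρ := by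
  obtain ⟨a, ha⟩ := h.exists_norm_eq (a := -(ρ + σ ρ)) (by simp [h.σσ, add_comm])
  have γ0 := hγ.1
  have γ1 := (map_ne_zero σ).2 γ0
  have hg : ∀ k : ℕ, (γ / σ γ) ^ k * σ ((γ / σ γ) ^ k) = 1 := fun k => by
    rw [map_pow, ← mul_pow, map_div₀, h.σσ, div_mul_div_cancel₀ γ1, div_self γ0, one_pow]
  refine ⟨fun i => ⟨(γ / σ γ) ^ (i : ℕ) * a, ρ, by
    rw [map_mul]; linear_combination (γ / σ γ) ^ (i : ℕ) * σ ((γ / σ γ) ^ (i : ℕ)) * ha - (ρ + σ ρ) * hg i⟩,
    fun i e => h0 (congrArg Heis.b e), fun C hC H x hx e => ?_⟩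
  have d1 : ∀ c : Fˣ, dd h c • (some 1 : Pt h) = some 1 := fun c => dd_smul_some c (by simp) (by simp)
  obtain ⟨c, hc⟩ := h.exists_norm_eq (a := x.b / ρ) (by
    rw [map_div₀, div_eq_div_iff ((map_ne_zero σ).2 h0) h0, e])
  have c0 : c ≠ 0 := by rintro rfl; simp [eq_comm, hx, h0] at hc
  have c1 := (map_ne_zero σ).2 c0
  rw [eq_div_iff h0] at hc
  obtain ⟨k, hk⟩ : ∃ k : ℕ, x.a = σ c * σ c / c * ((γ / σ γ) ^ k * a) := by
    have e1 : x.a * σ x.a = c * σ c * (a * σ a) := by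
      have := congrArg σ hc
      simp only [map_mul, h.σσ] at this
      linear_combination x.rel + hc + this - c * σ c * ha
    by_cases a0 : a = 0
    · exact ⟨0, by simpa [a0] using e1⟩
    have a1 := (map_ne_zero σ).2 a0
    obtain ⟨k, hk⟩ := norm_one_pow h hγ (u := x.a * c / (σ c * σ c * a)) (by
      simp only [map_mul, map_div₀, h.σσ]; field_simp; linear_combination e1)
    exact ⟨k, by rw [hk]; field_simp⟩
  have g0 : (σ γ / γ) ^ (k / 3) * c ≠ 0 := mul_ne_zero (pow_ne_zero _ (div_ne_zero γ1 γ0)) c0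
  have := hC.smul (dd h (Units.mk0 _ g0)) (H ⟨k % 3, Nat.mod_lt _ three_pos⟩)
  rwa [dd_smul_none, d1, dd_smul_some (y := x) _ ?_ ?_] at this
  · nth_rewrite 1 [hk, ← Nat.div_add_mod k 3]
    simp only [Units.val_mk0, map_mul, map_pow, map_div₀, h.σσ, pow_add, mul_comm 3, pow_mul, div_pow]
    field_simp
  · simp only [Units.val_mk0, map_mul, map_pow, map_div₀, h.σσ, ← hc, div_pow]
    field_simp

theorem dvd_of_fixed (h : IsConj σ q) (hγ : Gen γ) {k : ℕ} (e : σ (γ ^ k) = γ ^ k) : q + 1 ∣ k := by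
  have := hγ.dvd (k := k * (q - 1)) (by rw [pow_mul]; exact (h.fixed_iff (pow_ne_zero _ hγ.1)).1 e)
  rw [h.card_sub_one] at this
  exact Nat.dvd_of_mul_dvd_mul_right (by have := h.two_le; omega) this

variable (h) in
theorem exists_tri : ∃ t : Fin 2 → Fin 3 → Heis h, (∀ i j, t i j ≠ 1) ∧ ∀ C : Pt h → Pt h → Pt h → Prop,
    Clo C → (∀ i j, C none (some 1) (some (t i j))) → ∀ a b c, a ≠ b → b ≠ c → a ≠ c → C a b c := by
  have := h.finite
  obtain ⟨γ, hγ⟩ := exists_gen F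
  obtain ⟨t, h1, h2⟩ := exists_ty (h := h) hγ one_ne_zero
  obtain ⟨t', h3, h4⟩ := exists_ty (h := h) hγ hγ.1
  refine ⟨![t, t'], Fin.forall_fin_two.2 ⟨h1, h3⟩, fun C hC H a b c => hC.col fun ρ hρ => ?_⟩
  have q2 := h.two_le
  have h5 : ∀ k, γ ^ k + σ (γ ^ k) = 0 → q + 1 ∣ 2 * k := fun k e => dvd_of_fixed h hγ (by
    rw [mul_comm, pow_mul, map_pow, show σ (γ ^ k) = -γ ^ k by linear_combination e, neg_sq])
  have h6 : ∀ k, γ ^ k + σ (γ ^ k) ≠ 0 ∨ 2 * k ≤ q → 2 * k ≤ q + 1 → Ty C (γ ^ k) := fun k hk hk' => by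
    induction k with
    | zero => simpa using h2 C hC (H 0)
    | succ k ih =>
      rw [pow_succ'] at hk ⊢
      refine hC.step (h2 C hC (H 0)) (h4 C hC (H 1)) (fun e => ?_) (ih (.inr (by omega)) (by omega))
        (hk.elim id fun hk e => ?_)
      · have := Nat.le_of_dvd one_pos (dvd_of_fixed h hγ (k := 1) (by simpa using e)); omega
      · have := Nat.le_of_dvd (by omega) (h5 _ (pow_succ' γ k ▸ e)); omega
  obtain ⟨k, rfl⟩ := hγ.2 ρ (by rintro rfl; simp at hρ)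
  have h7 : σ (γ ^ (q + 1)) = γ ^ (q + 1) := by rw [← h.norm_eq, map_mul, h.σσ, mul_comm]
  have h8 := Nat.mod_lt k (Nat.succ_pos q)
  rw [← Nat.div_add_mod k (q + 1), pow_add, pow_mul] at hρ ⊢
  rw [map_mul, map_pow, h7, ← mul_add] at hρ
  refine Ty.mul ?_ (by rw [map_pow, h7]) (by simp [hγ.1])
  generalize k % (q + 1) = j at *
  by_cases hj : 2 * j ≤ q + 1
  · exact h6 j (.inl (right_ne_zero_of_mul hρ)) hj
  obtain ⟨i, hi⟩ : ∃ i, q + 1 = i + j := ⟨q + 1 - j, by omega⟩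
  have γ0 := hγ.1
  have γ1 := (map_ne_zero σ).2 γ0
  convert (hC.conj (h6 i (.inr (by omega)) (by omega))).mul (s := γ ^ (q + 1) / (γ ^ i * σ (γ ^ i))) (by
    rw [map_div₀, h7, map_mul, h.σσ, mul_comm]) (by simp [γ0]) using 1
  rw [hi, pow_add, map_pow]
  field_simp

end Cfsg.Lib.Pres.U3
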