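import Cfsg.Agent.Lib.Pres.UP
import Cfsg.Agent.Lib.Pres.U3G

/-!
A bounded presentation of the Borel subgroup of `SU₃(q)`.
-/

set_option autoImplicit false

namespace Cfsg.Lib.Pres.U3

open Cfsg.Lib.U3 Cfsg.Lib.Forms Subgroup SemidirectProduct Polynomial
open scoped commutatorElement

universe u

variable {F : Type u} [Field F] {σ : F →+* F} {q : ℕ} {γ : F}

section arith

variable (h : IsConj σ q) (hγ : Gen γ)
include h hγ

theorem exists_pow_eq {c : F} (h0 : c ≠ 0) : ∃ l : ℕ, (σ γ * σ γ / γ) ^ l = σ c * σ c / c ∧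
    (γ * σ γ) ^ l = c * σ c := by
  obtain ⟨l, rfl⟩ := hγ.2 c h0
  exact ⟨l, by rw [map_pow, div_pow, mul_pow], by rw [map_pow, mul_pow]⟩

theorem surj_om (hq : q ≠ 2) (t : F) : ∃ f : ℤ[X], aeval (σ γ * σ γ / γ) f = t := by
  have := h.finite
  have γ0 := hγ.1
  have γ1 := (map_ne_zero σ).2 γ0
  refine aeval_surj_of (by simp [γ0]) (fun k r hk hr e e' => ?_) t
  obtain ⟨l, hl, -⟩ := exists_pow_eq h hγ (c := γ * σ γ * σ γ) (by simp [γ0])
  have h1 := Nat.le_of_dvd (by omega) (hγ.dvd (k := 3 * (k - 1)) (by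
    rw [pow_mul, show γ ^ 3 = (σ γ * σ γ / γ) ^ l by rw [hl]; simp only [map_mul, h.σσ]; field_simp,
      ← pow_mul, mul_comm l, pow_mul, e', one_pow]))
  have h2 : k ≤ q := (Nat.pow_le_pow_iff_left two_ne_zero).1 (by
    rw [← h.card, ← e]; exact Nat.pow_le_pow_right (by omega) hr)
  have := h.two_le
  rw [h.card_sub_one] at h1
  have := Nat.mul_le_mul_right (q - 1) (show 4 ≤ q + 1 by omega)
  omega

theorem dvd_of_pow {k : ℕ} (e : (γ / σ γ) ^ k = 1) : q + 1 ∣ k :=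
  dvd_of_fixed h hγ (by rwa [div_pow, div_eq_one_iff_eq (by simp [hγ.1]), ← map_pow, eq_comm] at e)

theorem surj_cube (hq : 9 ≤ q) (t : F) : ∃ f : ℤ[X], aeval ((γ / σ γ) ^ 3) f = t := by
  have := h.finite
  refine aeval_surj_of (by simp [hγ.1]) (fun k r hk hr e e' => ?_) t
  have h1 := dvd_of_pow h hγ ((pow_mul _ 3 _).trans e')
  have h2 := Nat.le_of_dvd (by omega) h1
  rw [h.card] at e
  rcases hr.eq_or_lt with rfl | hr
  · obtain rfl := (Nat.pow_left_injective two_ne_zero) e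
    have := Nat.le_of_dvd (by omega) ((Nat.dvd_add_right h1).1 (show k + 1 ∣ 3 * (k - 1) + 6 from ⟨3, by omega⟩))
    omega
  have h3 : k ^ 3 ≤ q ^ 2 := e ▸ Nat.pow_le_pow_right (by omega) hr
  have h4 := Nat.pow_le_pow_left (show q + 4 ≤ 3 * k by omega) 3
  obtain ⟨x, rfl⟩ := Nat.exists_eq_add_of_le hq
  nlinarith [Nat.zero_le (x ^ 3), Nat.zero_le (x ^ 2)]

theorem up_om (hq : q ≠ 2) : UP.{u} (σ γ * σ γ / γ) 7 := by
  have := h.finite
  rcases le_or_gt q 8 with hq' | hq'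
  · exact up_small (D := 5) (h.card ▸ Nat.pow_le_pow_left hq' 2) (surj_om h hγ hq)
  have γ0 := hγ.1
  have γ1 := (map_ne_zero σ).2 γ0
  obtain ⟨p, hp⟩ := CharP.exists F
  have := Fact.mk (CharP.char_is_prime F p)
  obtain ⟨l, hl, -⟩ := exists_pow_eq h hγ (c := σ γ / γ) (by simp [γ0])
  have h1 : γ ^ 3 + σ γ ^ 3 ≠ 0 := fun e => by
    have := Nat.le_of_dvd (by omega) (dvd_of_pow h hγ (k := 6) (by
      field_simp; linear_combination (γ ^ 3 - σ γ ^ 3) * e))
    omega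
  obtain ⟨k, hk, -⟩ := exists_pow_eq h hγ (c := (γ ^ 3 + σ γ ^ 3) / (γ * γ * σ γ)) (by simp [*])
  replace hl : (σ γ * σ γ / γ) ^ l = (γ / σ γ) ^ 3 := by rw [hl]; simp only [map_div₀, h.σσ]; field_simp
  refine (upres_baum p (l := l) (k := k) (hl ▸ surj_cube h hγ hq') ?_).1.up.mono (by omega)
  rw [hl, hk]
  simp only [map_div₀, map_add, map_pow, map_mul, h.σσ, add_comm (σ γ ^ 3)]
  field_simp
  ring

end arith

variable (h : IsConj σ q)

/-- The action of the torus on the Heisenberg group. -/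
def act : Fˣ →* MulAut (Heis h) :=
  (Heis.dilHom h).comp (MonoidHom.mk' (fun c => Units.map σ c * Units.map σ c / c) fun c d => by
    rw [map_mul]; simp only [div_eq_mul_inv, mul_inv]; ac_rfl)

@[simp] theorem act_a (c : Fˣ) (x : Heis h) : (act h c x).a = σ c * σ c / c * x.a := by
  simp [act, Heis.dilHom]

@[simp] theorem act_b (c : Fˣ) (x : Heis h) : (act h c x).b = c * σ c * x.b := by
  have := (map_ne_zero σ).2 c.ne_zero
  simp [act, Heis.dilHom, h.σσ]; left; field_simp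

/-- The Borel subgroup. -/
abbrev Bor := Heis h ⋊[act h] Fˣ

/-- The centre of the unipotent radical. -/
def ZZ : Subgroup (Bor h) where
  carrier := {g | g.right = 1 ∧ g.left.a = 0}
  one_mem' := by simp
  mul_mem' ha hb := by simp [ha.1, ha.2, hb.1, hb.2]
  inv_mem' ha := by simp [ha.1, ha.2]

theorem mem_ZZ {g : Bor h} : g ∈ ZZ h ↔ g.right = 1 ∧ g.left.a = 0 := Iff.rfl

instance : (ZZ h).Normal := ⟨fun g hg k => by
  simp [-act_a, mem_ZZ, hg.1]; simp [hg.2]⟩

/-- A section of the first coordinate. -/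
noncomputable def yy (t : F) : Bor h := inl (Heis.exists_a t).choose

@[simp] theorem yy_right (t : F) : (yy h t).right = 1 := rfl
@[simp] theorem yy_a (t : F) : (yy h t).left.a = t := (Heis.exists_a t).choose_spec

theorem act_yy (c : Fˣ) : Act (fun t => QuotientGroup.mk' (ZZ h) (yy h t)) (QuotientGroup.mk' _ (inr c))
    (σ c * σ c / c) :=
  ⟨fun t s => by rw [← map_mul, QuotientGroup.mk'_apply, QuotientGroup.mk'_apply, QuotientGroup.eq]; simp [mem_ZZ],
    fun t => by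
      rw [← map_inv, ← map_mul, ← map_mul, QuotientGroup.mk'_apply, QuotientGroup.mk'_apply, QuotientGroup.eq]
      simp [mem_ZZ, ← MulAut.mul_apply, ← map_mul]⟩

variable {h} in
theorem eq_yy {g : Bor h} {t : F} (e : QuotientGroup.mk' (ZZ h) g = QuotientGroup.mk' (ZZ h) (yy h t)) :
    g.right = 1 ∧ g.left.a = t := by
  obtain ⟨z, hz, rfl⟩ := (QuotientGroup.mk'_eq_mk' _).1 e.symm
  simp [hz.1, hz.2]

/-- The fixed field. -/
abbrev K0 (σ : F →+* F) : Subfield F := σ.eqLocusField (RingHom.id F)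

/-- The long root subgroup. -/
def zz {θ : F} (hθ : θ + σ θ = 0) (t : K0 σ) : Bor h :=
  inl ⟨0, t * θ, by rw [map_mul, show σ t = t from t.2]; linear_combination (t : F) * hθ⟩

/-- The norm. -/
def nrm (c : F) : K0 σ := ⟨c * σ c, show σ _ = _ by simp [h.σσ, mul_comm]⟩

theorem act_zz {θ : F} (hθ : θ + σ θ = 0) (c : Fˣ) : Act (zz h hθ) (inr c) (nrm h c) :=
  ⟨fun t s => by ext <;> simp [zz, add_mul], fun t => by ext <;> simp [zz, nrm, mul_assoc]⟩

theorem gen_nrm (hγ : Gen γ) : Gen (nrm h γ) := ⟨fun e => by simpa [nrm, hγ.1] using congrArg Subtype.val e,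
  fun t ht => by
    obtain ⟨c, hc⟩ := h.exists_norm_eq (a := t) t.2
    obtain ⟨l, -, hl⟩ := exists_pow_eq h hγ (c := c) (by rintro rfl; exact ht (Subtype.ext (by simpa using hc.symm)))
    exact ⟨l, Subtype.ext (by simpa [nrm, hc] using hl)⟩⟩

theorem exists_zz {θ : F} (hθ : θ + σ θ = 0) (h0 : θ ≠ 0) {g : Bor h} (hg : g ∈ ZZ h) : ∃ t, zz h hθ t = g := by
  have := g.left.rel
  rw [hg.2, zero_mul, add_zero] at this
  refine ⟨⟨g.left.b / θ, show σ _ = _ by
    rw [map_div₀, show σ θ = -θ by linear_combination hθ, show σ g.left.b = -g.left.b by linear_combination this,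
      neg_div_neg_eq]; rfl⟩, ?_⟩
  ext <;> simp [zz, hg.1, hg.2, h0]

theorem bor_core (hγ : Gen γ) {θ : F} (hθ : θ + σ θ = 0) (h0 : θ ≠ 0) {Q : Type u} [Group Q] {π : Q →* Bor h}
    {a g : Q} (e1 : π a = yy h 1) (e2' : π g = inr (Units.mk0 γ hγ.1)) (gen : closure {a, g} = ⊤)
    {x : K0 σ → Q} (A : Act x g (nrm h γ)) (e3 : ∀ t, π (x t) = zz h hθ t) (hg : g ^ (Nat.card F - 1) = 1)
    (ha : ∀ t, Commute a (x t)) {W : F → FreeGroup Bool}
    (h1 : ∀ (Q : Type u) [Group Q] (x : F → Q) (g : Q), Act x g (σ γ * σ γ / γ) → ∀ t, e2 (x 1) g (W t) = x t)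
    (h2 : ∀ [(addRange A.add).Normal], ∃ y, Act y (QuotientGroup.mk' (addRange A.add) g) (σ γ * σ γ / γ) ∧
      y 1 = QuotientGroup.mk' (addRange A.add) a) (k : Q) (e : π k = 1) : k = 1 := by
  have := A.normal (gen_nrm h hγ).1 ha gen
  have e0 := e
  obtain ⟨y, B, hy⟩ := h2
  obtain ⟨t, i, e4⟩ := B.exists_eq (by simp [hγ.1]) (by
    rw [hy, ← Set.image_pair, ← MonoidHom.map_closure, gen, map_top_of_surjective _ (QuotientGroup.mk'_surjective _)])
    (QuotientGroup.mk' _ k)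
  have e5 := eq_yy ((map_e2 _ _ _ _).trans (h1 _ _ _ (act_yy h (Units.mk0 γ hγ.1)) t))
  have e6 := e4
  rw [← h1 _ _ _ B t, hy, ← map_e2, ← map_zpow, ← map_mul, eq_comm, QuotientGroup.mk'_eq_mk'] at e6
  obtain ⟨_, ⟨s, rfl⟩, e6⟩ := e6
  rw [← e6, map_mul, map_mul, map_e2, map_zpow, e1, e2', e3, ← map_zpow inr] at e
  generalize hc : Units.mk0 γ hγ.1 ^ i = c at e
  obtain rfl : c = 1 := by simpa [e5.1, zz] using congrArg SemidirectProduct.right e
  have e8 : t = 0 := by simpa [e5.1, e5.2, zz] using congrArg (fun b : Bor h => b.left.a) e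
  have e9 : g ^ i = 1 := by
    obtain ⟨j, hj⟩ := hγ.dvd (k := i.natAbs) (by simpa using congrArg Units.val (pow_natAbs_eq_one.2 hc))
    rw [← pow_natAbs_eq_one, hj, pow_mul, hg, one_pow]
  rw [← map_zpow, e9, e8, add_zero' B.add, map_one, mul_one] at e4
  obtain ⟨s, rfl⟩ := (QuotientGroup.eq_one_iff _).1 e4
  obtain rfl : s = 0 := by simpa [zz, h0] using congrArg (fun b : Bor h => b.left.b) ((e3 s).symm.trans e0)
  exact add_zero' A.add

theorem comm_yy (c : Fˣ) : ⁅yy h 1, inr c * yy h 1 * (inr c)⁻¹⁆ =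
    zz h (θ := σ (σ c * σ c / c) - σ c * σ c / c) (by rw [map_sub, h.σσ]; ring) 1 := by
  have := (yy h 1).left.rel
  have c0 := c.ne_zero
  have c1 := (map_ne_zero σ).2 c0
  ext <;> simp [commutatorElement_def, zz, h.σσ] at this ⊢
  field_simp
  linear_combination (1 + c * σ c) * c * σ c * this

theorem rel_cent (hγ : Gen γ) {θ : F} (hθ : θ + σ θ = 0) (h0 : θ ≠ 0) {J : Type u} [Group J] {β : J →* Bor h}
    {a g : J} (e1 : β a = yy h 1) (e2' : β g = inr (Units.mk0 γ hγ.1)) {x : K0 σ → J}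
    (e3 : ∀ t, β (x t) = zz h hθ t) : Rel β 3 fun _ _ ν _ =>
      Act (fun t => ν (x t)) (ν g) (nrm h γ) → ∀ t, Commute (ν a) (ν (x t)) := by
  have := h.finite
  have h1 : ∀ t, Rel β 1 fun _ _ ν _ => ν (a * x t) = ν (x t * a) := fun t => Rel.eq (by
    rw [map_mul, map_mul, e1, e3]; ext <;> simp [zz, add_comm])
  rcases le_or_gt q 8 with hq | hq
  · refine (Rel.all fun i : Fin 3 => h1 (nrm h γ ^ (i : ℕ))).mono le_rfl fun Q _ ν π _ H A =>
      span_small (F := K0 σ) (K := commK (ν a) A.add) (D := 3) (le_trans (h.card_fixed.le) hq) (gen_nrm h hγ).aeval_surj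
        fun i hi => show _ * _ = _ * _ by simpa using H ⟨i, hi⟩
  have γ0 := hγ.1
  have γ1 := (map_ne_zero σ).2 γ0
  obtain ⟨l, hl, hl'⟩ := exists_pow_eq h hγ (c := σ γ / γ) (by simp [γ0])
  replace hl : (σ γ * σ γ / γ) ^ l = (γ / σ γ) ^ 3 := by rw [hl]; simp only [map_div₀, h.σσ]; field_simp
  replace hl' : nrm h γ ^ l = 1 := Subtype.ext (by
    simp only [map_div₀, h.σσ] at hl'; simpa [nrm, γ0, div_mul_div_cancel₀ γ0] using hl')
  obtain ⟨f, hf⟩ := surj_cube h hγ hq (β (g⁻¹ * a * g)).left.a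
  have h2 := ((act_yy h (Units.mk0 γ γ0)).pow l).pw_eq f
  rw [← map_pow, ← map_pw, Units.val_mk0, hl, hf, ← e1, ← e2', ← map_pow, ← map_pw] at h2
  obtain ⟨t, ht⟩ := exists_zz h hθ h0 (g := (β (pw a (g ^ l) f))⁻¹ * β (g⁻¹ * a * g)) (by
    simp [-map_mul, mem_ZZ, eq_yy h2]; simp [e1])
  refine ((h1 1).and (Rel.eq (a := g⁻¹ * a * g) (b := pw a (g ^ l) f * x t) (by
    rw [map_mul β _ (x t), e3, ht, mul_inv_cancel_left]))).mono (by omega) fun Q _ ν π _ H A s => ?_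
  let K := closure {ν a, ν g ^ l} ⊔ addRange (x := fun t => ν (x t)) A.add
  have h3 : K ≤ centralizer {ν (x 1)} := sup_le ((closure_le _).2 (by
    rintro _ (rfl | rfl)
    · exact mem_centralizer_singleton_iff.2 (by simpa using H.1)
    · exact mem_centralizer_singleton_iff.2 (eq_mul_of_mul_inv_eq (by simpa [hl'] using (A.pow l).conj 1))))
    (by rintro _ ⟨s, rfl⟩; exact mem_centralizer_singleton_iff.2 (by rw [← A.add, ← A.add, add_comm]))
  have h4 : K ≤ K.comap (MulAut.conj (ν g)⁻¹).toMonoidHom := sup_le ((closure_le _).2 (by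
    rintro _ (rfl | rfl)
    · have e : (ν g)⁻¹ * ν a * (ν g)⁻¹⁻¹ = pw (ν a) (ν g ^ l) f * ν (x t) := by simpa [map_pw] using H.2
      exact K.mem_comap.2 (show _ * _ * _ ∈ K from e.symm ▸ (mul_mem_sup (pw_mem (subset_closure (.inl rfl)) (subset_closure (.inr rfl)) f)
        ⟨t, rfl⟩ : pw (ν a) (ν g ^ l) f * ν (x t) ∈ K))
    · exact K.mem_comap.2 (by
        simpa [← (Commute.refl (ν g)).pow_left l |>.inv_right.eq] using
          (mem_sup_left (subset_closure (.inr rfl)) : ν g ^ l ∈ K))))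
    (by rintro _ ⟨s, rfl⟩; exact K.mem_comap.2 (mem_sup_right ⟨_, ((A.inv (gen_nrm h hγ).1).conj s).symm⟩))
  have h5 : ∀ j : ℕ, (ν g ^ j)⁻¹ * ν a * ν g ^ j ∈ K := fun j => by
    induction j with
    | zero => simpa using (mem_sup_left (subset_closure (.inl rfl)) : ν a ∈ K)
    | succ j ih => simpa [pow_succ, mul_assoc] using K.mem_comap.1 (h4 ih)
  by_cases hs : s = 0
  · rw [hs, add_zero' (x := fun t => ν (x t)) A.add]; exact Commute.one_right _
  obtain ⟨j, rfl⟩ := (gen_nrm h hγ).2 s hs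
  have h6 := (show Commute _ _ from mem_centralizer_singleton_iff.1 (h3 (h5 j))).map (MulAut.conj (ν g ^ j))
  rwa [MulAut.conj_apply, MulAut.conj_apply, (A.pow j).conj, mul_one, mul_assoc, mul_inv_cancel_right,
    mul_inv_cancel_left] at h6

theorem prs_bor (hq : q ≠ 2) : Prs (Bor h) 2 14 := by
  have := h.finite
  obtain ⟨γ, hγ⟩ := exists_gen F
  obtain ⟨p, hp⟩ := CharP.exists (K0 σ)
  have := Fact.mk (CharP.char_is_prime (K0 σ) p)
  obtain ⟨L, w, W, h1, h2, h3⟩ := ((gen_nrm h hγ).upres p).1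
  obtain ⟨L', W', h4, h5, h6⟩ := up_om h hγ hq
  let c := Units.mk0 γ hγ.1
  let a : FreeGroup (ULift.{u} Bool) := .of ⟨true⟩
  let g : FreeGroup (ULift.{u} Bool) := .of ⟨false⟩
  let β : FreeGroup (ULift.{u} Bool) →* Bor h := FreeGroup.lift fun b => cond b.down (yy h 1) (inr c)
  have e1 : β a = yy h 1 := FreeGroup.lift_apply_of
  have e2' : β g = inr c := FreeGroup.lift_apply_of
  obtain ⟨θ, hθ, h0, e3⟩ : ∃ θ hθ, θ ≠ 0 ∧ β ⁅a, g * a * g⁻¹⁆ = zz h (θ := θ) hθ 1 := by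
    refine ⟨_, _, fun e => ?_, by rw [map_commutatorElement, map_mul, map_mul, map_inv, e1, e2']; exact comm_yy h c⟩
    obtain ⟨t, ht⟩ := h.exists_not_fixed
    obtain ⟨f, rfl⟩ := surj_om h hγ hq t
    exact ht ((aeval_algHom_apply σ.toIntAlgHom _ f).symm.trans (congrArg (aeval · f) (sub_eq_zero.1 e)))
  have h7 := h2 _ _ _ (act_zz h hθ c)
  have h8 := h5 _ _ _ (act_yy h c)
  have e4 : ∀ s, β (e2 ⁅a, g * a * g⁻¹⁆ g s) = e2 (zz h hθ 1) (inr c) s := fun s => by rw [map_e2, e3, e2']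
  have e5 : ∀ t, β (e2 ⁅a, g * a * g⁻¹⁆ g (W t)) = zz h hθ t := fun t => by rw [e4, h7.2.2]
  have h9 : ∀ s ∈ L', ∃ t, zz h hθ t = β (e2 a g s) := fun s hs => exists_zz h hθ h0 (by
    rw [← QuotientGroup.eq_one_iff, ← QuotientGroup.mk'_apply, map_e2, map_e2, e1, e2', h8.1 s hs])
  choose τ hτ using h9
  have R1 : Rel β 4 fun _ _ ν _ => Act (fun t => ν (e2 ⁅a, g * a * g⁻¹⁆ g (W t))) (ν g) (nrm h γ) ∧
      ν g ^ (Nat.card F - 1) = 1 := by
    refine ⟨(g ^ (Nat.card F - 1) * (e2 ⁅a, g * a * g⁻¹⁆ g w)⁻¹) :: L.map (e2 ⁅a, g * a * g⁻¹⁆ g), by simp; omega,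
      ?_, fun Q _ ν π _ H => ?_⟩
    · simp only [List.forall_mem_cons, List.forall_mem_map, map_mul, map_inv, map_pow, e4, e2', h7.2.1]
      refine ⟨?_, h7.1⟩
      rw [← map_pow, show c ^ _ = 1 from Units.ext (by simpa [c] using pow_card_sub_one hγ.1)]; simp
    simp only [List.forall_mem_cons, List.forall_mem_map, map_mul ν (g ^ _), map_inv, map_pow, map_e2,
      mul_inv_eq_one] at H ⊢
    obtain ⟨x, A, hx⟩ := h3 Q _ _ H.2 (H.1 ▸ (Commute.refl _).pow_right _)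
    have := (h2 Q _ _ A).2
    rw [hx] at this
    exact ⟨by simpa only [this.2] using A, H.1.trans this.1⟩
  have hr : β.range = ⊤ := eq_top_iff.2 fun b _ => by
    have h10 : ZZ h ≤ β.range := fun z hz => let ⟨t, e⟩ := exists_zz h hθ h0 hz; ⟨_, (e5 t).trans e⟩
    obtain ⟨j, hj⟩ := hγ.2 _ b.right.ne_zero
    have e6 := eq_yy ((map_e2 _ _ _ _).trans (h8.2 b.left.a))
    have e7 : c ^ j = b.right := Units.ext (by simpa [c] using hj)
    convert β.range.mul_mem (β.range.mul_mem ⟨e2 a g (W' b.left.a), rfl⟩ (h10 (x := (β (e2 a g (W' b.left.a)))⁻¹ * inl b.left) (by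
      simp [mem_ZZ, e1, e2', e6]))) ⟨g ^ j, rfl⟩ using 1
    rw [mul_inv_cancel_left, map_pow, e2', ← map_pow, e7, inl_left_mul_inr_right]
  have := Rel.prs (prs_free (ULift.{u} Bool)) (((R1.and (rel_cent h hγ hθ h0 e1 e2' e5)).and
    (Rel.all fun i : Fin L'.length => Rel.eq (a := e2 a g L'[i]) ((hτ _ (List.getElem_mem _)).symm.trans
      (e5 _).symm))).mono (l := 14) (by omega) fun Q _ ν π e H hν => bor_core h hγ hθ h0 ((e a).trans e1)
        ((e g).trans e2') ?_ H.1.1.1 (fun t => (e _).trans (e5 t)) H.1.1.2 (H.1.2 H.1.1.1)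
          (fun Q _ x g A => (h5 Q x g A).2) (h6 _ _ _ fun s hs => ?_))
  · rw [hr] at this
    simpa using this.map topEquiv
  · rw [← Set.image_pair, ← MonoidHom.map_closure, eq_top_iff, ← map_top_of_surjective _ hν,
      ← FreeGroup.closure_range_of]
    exact map_mono (closure_mono (by rintro _ ⟨⟨_ | _⟩, rfl⟩ <;> simp [a, g]))
  · obtain ⟨i, hi, rfl⟩ := List.getElem_of_mem hs
    rw [← map_e2, ← map_e2, QuotientGroup.mk'_apply, QuotientGroup.eq_one_iff]
    exact ⟨_, (H.2 ⟨i, hi⟩).symm⟩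

theorem dd_conj (c : Fˣ) (x : Heis h) : dd h c * nn h x * (dd h c)⁻¹ = nn h (act h c x) :=
  mul_inv_eq_of_eq_mul <| su_ext fun u => by
    have := (map_ne_zero σ).2 c.ne_zero
    have := c.ne_zero
    rw [su_mul_apply, su_mul_apply, nn_apply, dd_apply, dd_apply, nn_apply]
    ext i; fin_cases i <;> simp [h.σσ] <;> field_simp

theorem dd_one (c : Fˣ) : dd h c • (some 1 : Pt h) = some 1 := dd_smul_some c (by simp) (by simp)

theorem exists_dd {g : SU3 h} (h1 : g • (none : Pt h) = none) (h2 : g • (some 1 : Pt h) = some 1) :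
    ∃ c, g = dd h c := by
  obtain ⟨c, hc⟩ := su_smul_eq_iff.1 h1
  obtain ⟨c', hc'⟩ := su_smul_eq_iff.1 h2
  have c0 := ne_zero_of_vec hc
  have c1 := ne_zero_of_vec hc'
  simp only [vec, Heis.one_a, Heis.one_b] at hc hc'
  have e1 := Form.B_isom g.1 ![1, 0, 0] ![0, 0, 1]
  have e2 := Form.B_isom g.1 ![1, 0, 0] ![0, 1, 0]
  have e3 := Form.B_isom g.1 ![0, 0, 1] ![0, 1, 0]
  rw [hc'] at e1 e2
  rw [hc] at e1 e3
  simp [aH_B, c0, c1] at e1 e2 e3
  obtain ⟨v, hv⟩ : ∃ v, g.1.1 ![0, 1, 0] = v := ⟨_, rfl⟩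
  rw [hv] at e2 e3
  have hg : ∀ u, g.1.1 u = ![c' * u 0, v 1 * u 1, c * u 2] := fun u => by
    have : u = u 0 • ![1, 0, 0] + u 1 • ![0, 1, 0] + u 2 • ![0, 0, 1] := by
      ext i; fin_cases i <;> simp
    rw [this, map_add, map_add, map_smul, map_smul, map_smul, hc, hc', hv]
    ext i; fin_cases i <;> simp [e2, e3, mul_comm, Matrix.vecHead, Matrix.vecTail]
  have hd : c' * v 1 * c = 1 := by
    have h3 := congrArg Units.val (show (aH h).det g.1 = 1 from g.2)
    rw [Form.coe_det, show (g.1.1 : (Fin 3 → F) →ₗ[F] Fin 3 → F) =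
      Matrix.toLin' !![c', 0, 0; 0, v 1, 0; 0, 0, c] from LinearMap.ext fun u => by
        rw [LinearEquiv.coe_coe, hg]
        ext i; fin_cases i <;> simp [Matrix.mulVec, dotProduct, Fin.sum_univ_three],
      LinearMap.det_toLin'] at h3
    simpa [Matrix.det_fin_three] using h3
  have e4 : c' * σ c = 1 := by simpa [h.σσ] using congrArg σ e1
  refine ⟨Units.mk0 c c0, su_ext fun u => ?_⟩
  rw [hg, dd_apply, Units.val_mk0, ← eq_inv_of_mul_eq_one_left e4,
    show σ c / c = v 1 by rw [div_eq_iff c0]; linear_combination (-σ c) * hd + v 1 * c * e4]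

/-- The embedding of the Borel subgroup. -/
noncomputable def bor : Bor h →* SU3 h := SemidirectProduct.lift (nn h) (dd h) fun c =>
  MonoidHom.ext fun x => (dd_conj h c x).symm

theorem bor_smul (b : Bor h) : bor h b • (some 1 : Pt h) = some b.left := by
  change (nn h b.left * dd h b.right) • _ = _
  rw [mul_smul, dd_one, nn_smul_some, mul_one]

theorem bor_inj : Function.Injective (bor h) := (injective_iff_map_eq_one _).2 fun b e => by
  have e1 : b.left = 1 := by simpa [e, eq_comm] using bor_smul h b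
  change nn h b.left * dd h b.right = 1 at e
  rw [e1, map_one, one_mul] at e
  have := dd_apply h b.right ![0, 0, 1]
  rw [e] at this
  ext <;> simp [e1]
  simpa [eq_comm] using congrFun this 2

theorem range_bor : (bor h).range = MulAction.stabilizer (SU3 h) (none : Pt h) := le_antisymm (by
  rintro _ ⟨b, rfl⟩
  change (nn h b.left * dd h b.right) • _ = _
  rw [mul_smul, dd_smul_none, nn_smul_none]) fun g hg => by
  obtain ⟨x, hx⟩ := exists_nn (h := h) (a := g • some 1) fun e => by simpa using smul_left_cancel g (e.trans hg.symm)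
  obtain ⟨c, hc⟩ := exists_dd h (g := (nn h x)⁻¹ * g) (by rw [mul_smul, hg, ← map_inv, nn_smul_none])
    (by rw [mul_smul, ← hx, inv_smul_smul])
  exact ⟨⟨x, c⟩, by rw [← mul_inv_cancel_left (nn h x) g, hc]; rfl⟩

theorem ww_dd (c : Fˣ) : (ww h)⁻¹ * dd h c * ww h = dd h (Units.map σ c)⁻¹ := by
  rw [inv_eq_of_mul_eq_one_left (ww_mul_ww h)]
  refine su_ext fun u => ?_
  rw [su_mul_apply, su_mul_apply, ww_apply, ww_apply, dd_apply, dd_apply]
  ext i; fin_cases i <;> simp [h.σσ, div_eq_mul_inv, mul_comm]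

theorem prs_SU3 (hq : q ≠ 2) : Prs (SU3 h) 3 22 := by
  have := h.finite
  obtain ⟨γ, hγ⟩ := exists_gen F
  obtain ⟨t, h1, h2⟩ := exists_tri h
  let μ := ev (bor h) fun _ : Unit => ww h
  let n := lt (Bor h) ()
  have e1 : μ n = ww h := ev_lt _ _ _
  have e2 : ∀ b, μ (Monoid.Coprod.inl b) = bor h b := ev_inl _ _
  have h3 : (Monoid.Coprod.inl : Bor h →* _).range.map μ = MulAction.stabilizer (SU3 h) (none : Pt h) := by
    rw [MonoidHom.map_range, ← range_bor]; exact congrArg _ (MonoidHom.ext e2)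
  have h4 : ∀ a : Pt h, a ≠ none → ∃ g ∈ MulAction.stabilizer (SU3 h) (none : Pt h), g • ww h • none = a :=
    fun a ha => let ⟨x, hx⟩ := exists_nn ha; ⟨_, nn_smul_none x, by rw [ww_smul_none, hx]⟩
  have hr : μ.range = ⊤ := eq_top_of_mem h hq (fun x => ⟨Monoid.Coprod.inl (inl x), by simp [e2, bor]⟩) ⟨n, e1⟩
  have := Rel.prs ((prs_bor h hq).coprod Unit) ((((Rel.eq (μ := μ) (a := n * n) (b := 1) (by
    simp [e1, ww_mul_ww])).and (Rel.eq (a := n⁻¹ * Monoid.Coprod.inl (inr (Units.mk0 γ hγ.1)) * n)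
      (b := Monoid.Coprod.inl (inr (Units.map σ (Units.mk0 γ hγ.1))⁻¹)) (by simp [e1, e2, bor, ww_dd]))).and
    (Rel.all fun i => Rel.all fun j => Rel.cl (n := n) (c := some (t i j)) h3 (e1 ▸ h4) (by simp) (by
      simpa [e1, ww_smul_none] using h1 i j))).mono (l := 8) le_rfl fun Q _ ν π e H hν => ?_)
  · rw [hr] at this
    simpa using this.map topEquiv
  have e3 : π (ν n) = ww h := (e n).trans e1
  have T : Tr2 π ((Monoid.Coprod.inl : Bor h →* _).range.map ν) (ν n) (none : Pt h) := by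
    refine ⟨?_, ?_, by simp [e3, ww_smul_none], e3 ▸ h4, by rw [← map_mul, H.1.1, map_one]; exact one_mem _, ?_, ?_⟩
    · rw [MonoidHom.map_range]; exact injO_range (fun b => (e _).trans (e2 b)) (bor_inj h)
    · rw [Subgroup.map_map, ← h3]; exact congrArg (Subgroup.map · _) (MonoidHom.ext e)
    · rintro _ ⟨_, ⟨⟨x, c⟩, rfl⟩, rfl⟩ hb
      rw [e, e2, e3, ww_smul_none, bor_smul, Option.some_inj] at hb
      obtain ⟨k, hk⟩ := hγ.2 c c.ne_zero
      obtain rfl : Units.mk0 γ hγ.1 ^ k = c := Units.ext (by simpa using hk)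
      rw [show x = 1 from hb, show (⟨1, Units.mk0 γ hγ.1 ^ k⟩ : Bor h) = inr _ ^ k from map_pow inr _ k, map_pow,
        map_pow, ← inv_inv (ν n), inv_inv (ν n)⁻¹, ← conj_pow, inv_inv, ← map_inv, ← map_mul, ← map_mul, H.1.2]
      exact pow_mem (mem_map_of_mem _ (MonoidHom.mem_range.2 ⟨_, rfl⟩)) _
    · rw [← MonoidHom.map_zpowers, ← Subgroup.map_sup, eq_top_iff, ← map_top_of_surjective _ hν, ← closure_coprod]
      exact map_mono ((closure_le _).2 (Set.union_subset (fun _ h => mem_sup_left h) (by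
        rintro _ ⟨⟨⟩, rfl⟩; exact mem_sup_right (mem_zpowers _))))
  refine T.ker (h2 _ ⟨fun g _ _ _ H => ?_, T.swap', T.tet⟩ fun i j => by simpa [e1, ww_smul_none] using H.2 i j)
  obtain ⟨y, rfl⟩ := hr.ge (mem_top g)
  exact e y ▸ H.smul (ν y)

end Cfsg.Lib.Pres.U3
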