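import Cfsg.Agent.Lib.Pres.Rel

/-!
Bounded presentations: small fields as modules for a cyclic torus.
-/

set_option autoImplicit false

namespace Cfsg.Lib.Pres

open Polynomial Subgroup Cfsg.Lib.Linear
open scoped commutatorElement

universe v

variable {F : Type*} [Field F] {Q : Type*} [Group Q] {c : F} {r : ℕ}

/-- `r` relators describe the module `F`. -/
def UP (c : F) (r : ℕ) : Prop :=
  ∃ (L : List (FreeGroup Bool)) (W : F → FreeGroup Bool), L.length ≤ r ∧
    (∀ (Q : Type v) [Group Q] (x : F → Q) (h : Q), Act x h c →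
      (∀ s ∈ L, e2 (x 1) h s = 1) ∧ ∀ t, e2 (x 1) h (W t) = x t) ∧
    ∀ (Q : Type v) [Group Q] (u h : Q), (∀ s ∈ L, e2 u h s = 1) → ∃ x, Act x h c ∧ x 1 = u

theorem UP.mono {r' : ℕ} (h : UP.{v} c r) (h' : r ≤ r') : UP.{v} c r' :=
  let ⟨L, W, h1, h2⟩ := h; ⟨L, W, h1.trans h', h2⟩

theorem UPres.up (h : UPres.{v} c r) : UP.{v} c (r + 1) :=
  let ⟨L, w, W, h1, h2, h3⟩ := h
  ⟨w :: L, W, by simpa, fun Q _ x h A => ⟨List.forall_mem_cons.2 ⟨(h2 Q x h A).2.1, (h2 Q x h A).1⟩,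
    (h2 Q x h A).2.2⟩, fun Q _ u h H => h3 Q u h (List.forall_mem_cons.1 H).2
      ((List.forall_mem_cons.1 H).1 ▸ Commute.one_right _)⟩

/-- The range of an additive family. -/
def addRange {x : F → Q} (h : ∀ t s, x (t + s) = x t * x s) : Subgroup Q where
  carrier := Set.range x
  one_mem' := ⟨0, add_zero' h⟩
  mul_mem' := by rintro _ _ ⟨t, rfl⟩ ⟨s, rfl⟩; exact ⟨_, h t s⟩
  inv_mem' := by rintro _ ⟨t, rfl⟩; exact ⟨_, add_neg' h t⟩

theorem Act.mem_norm {x : F → Q} {g : Q} (A : Act x g c) (hc : c ≠ 0) :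
    g ∈ normalizer (addRange A.add : Set Q) := mem_normalizer_iff.2 fun a => by
  refine ⟨?_, fun ⟨t, e⟩ => ⟨c⁻¹ * t, ?_⟩⟩
  · rintro ⟨t, rfl⟩; exact ⟨_, (A.conj t).symm⟩
  · rw [← (A.inv hc).conj, e]; group

theorem Act.normal {x : F → Q} {g u : Q} (A : Act x g c) (hc : c ≠ 0) (hu : ∀ t, Commute u (x t))
    (h : closure {u, g} = ⊤) : (addRange A.add).Normal :=
  normalizer_eq_top_iff.1 (eq_top_iff.2 (h.ge.trans ((closure_le _).2 (by
    rintro _ (rfl | rfl)
    exacts [Act.mem_norm ⟨A.add, fun t => by rw [(hu t).mul_inv_cancel, one_mul]⟩ one_ne_zero, A.mem_norm hc]))))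

theorem Act.exists_eq {x : F → Q} {g : Q} (A : Act x g c) (hc : c ≠ 0) (h : closure {x 1, g} = ⊤) (a : Q) :
    ∃ t, ∃ i : ℤ, a = x t * g ^ i := by
  have := A.normal hc (fun t => show _ = _ by rw [← A.add, ← A.add, add_comm]) h
  obtain ⟨_, ⟨t, rfl⟩, _, ⟨i, rfl⟩, rfl⟩ := mem_sup_of_normal_left.1 (h.ge.trans ((closure_le (K := addRange A.add ⊔
    zpowers g)).2 (by
      rintro _ (rfl | rfl)
      exacts [mem_sup_left ⟨1, rfl⟩, mem_sup_right (mem_zpowers _)])) (mem_top a))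
  exact ⟨t, i, rfl⟩

theorem pw_mem {K : Subgroup Q} {u g : Q} (hu : u ∈ K) (hg : g ∈ K) (f : ℤ[X]) : pw u g f ∈ K :=
  list_prod_mem (by
    simp only [List.forall_mem_map]
    exact fun i _ => zpow_mem (mul_mem (mul_mem (pow_mem hg _) hu) (inv_mem (pow_mem hg _))) _)

variable [Finite F]

theorem exists_monic (p : ℕ) [Fact p.Prime] [CharP F p] {D : ℕ} (hD : Nat.card F ≤ 2 ^ D) (a : F) : ∃ m : ℤ[X],
    m.Monic ∧ m.natDegree ≤ D ∧ 0 < m.natDegree ∧ aeval a m = 0 ∧
      ∀ f : ℤ[X], aeval a f = 0 → ∃ f₁ f₂, f = f₁ * C (p : ℤ) + f₂ * m := by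
  let _ := ZMod.algebra F p
  have h0 : IsIntegral (ZMod p) a := .of_finite _ _
  have h1 : ∀ f : ℤ[X], aeval a (f.map (Int.castRingHom (ZMod p))) = aeval a f := fun f =>
    aeval_map_algebraMap (ZMod p) a f
  have h2 := map_surjective (Int.castRingHom (ZMod p)) (ZMod.ringHom_surjective _)
  obtain ⟨m, hm, hd, hm'⟩ := lifts_and_natDegree_eq_and_monic (h2 (minpoly (ZMod p) a)) (minpoly.monic h0)
  refine ⟨m, hm', hd ▸ (minpoly.natDegree_le a).trans ?_, hd ▸ minpoly.natDegree_pos h0,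
    by rw [← h1, hm, minpoly.aeval], fun f hf => ?_⟩
  · rw [Module.natCard_eq_pow_finrank (K := ZMod p), Nat.card_zmod] at hD
    exact (Nat.pow_le_pow_iff_right one_lt_two).1 ((Nat.pow_le_pow_left (Fact.out : p.Prime).two_le _).trans hD)
  obtain ⟨g, hg⟩ := minpoly.dvd (ZMod p) a ((h1 f).trans hf)
  obtain ⟨g, rfl⟩ := h2 g
  obtain ⟨k, hk⟩ : C (p : ℤ) ∣ f - m * g := (C_dvd_iff_dvd_coeff _ _).2 fun i => by
    rw [← ZMod.intCast_zmod_eq_zero_iff_dvd, ← eq_intCast (Int.castRingHom (ZMod p)), ← coeff_map,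
      Polynomial.map_sub, Polynomial.map_mul, hg, hm, sub_self, coeff_zero]
  exact ⟨k, g, by linear_combination hk⟩

theorem span_small {D : ℕ} (hD : Nat.card F ≤ 2 ^ D) (ha : ∀ t, ∃ f : ℤ[X], aeval c f = t) {K : AddSubmonoid F}
    (h : ∀ i < D, c ^ i ∈ K) (t : F) : t ∈ K := by
  obtain ⟨p, hp⟩ := CharP.exists F
  have := Fact.mk (CharP.char_is_prime F p)
  obtain ⟨m, h1, h2, h3, h4, -⟩ := exists_monic p hD c
  obtain ⟨f, rfl⟩ := ha t
  rw [← aeval_modByMonic_eq_self_of_root h4, aeval_eq_sum_range' (n := D)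
    ((natDegree_modByMonic_lt f h1 (by rintro rfl; simp at h3)).trans_le h2)]
  refine sum_mem fun i hi => ?_
  obtain ⟨n, e | e⟩ := ((f %ₘ m).coeff i).eq_nat_or_neg <;> rw [e]
  · rw [natCast_zsmul]; exact nsmul_mem (h i (Finset.mem_range.1 hi)) _
  · rw [neg_zsmul, natCast_zsmul]; exact neg_mem_fin (nsmul_mem (h i (Finset.mem_range.1 hi)) _)

theorem up_small {D : ℕ} (hD : Nat.card F ≤ 2 ^ (D + 1)) (ha : ∀ t, ∃ f : ℤ[X], aeval c f = t) :
    UP.{v} c (D + 2) := by
  obtain ⟨p, hp⟩ := CharP.exists F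
  have := Fact.mk (CharP.char_is_prime F p)
  obtain ⟨m, h1, h2, h3, h4, h5⟩ := exists_monic p hD c
  choose s hs using ha
  let U : FreeGroup Bool := .of true
  let H : FreeGroup Bool := .of false
  refine ⟨U ^ p :: pw U H m :: (List.range D).map fun i => ⁅U, H ^ (i + 1) * U * (H ^ (i + 1))⁻¹⁆,
    fun t => pw U H (s t), by simp, fun Q _ x h A => ?_, fun Q _ u h h6 => ?_⟩
  · simp [-mul_inv_rev, U, H, map_pw, A.pw_eq, hs, Act.pow_char A.add (CharP.cast_eq_zero F p), h4,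
      (A.pow _).conj, ← A.add, commutatorElement_eq_one_iff_mul_comm, add_comm, add_zero' A.add]
  simp only [List.forall_mem_cons, List.forall_mem_map, List.mem_range, map_mul, U, H,
    map_pow, map_inv, e2_true, e2_false, map_pw, map_commutatorElement,
    commutatorElement_eq_one_iff_commute] at h6
  let K := closure (Set.range fun i : Fin m.natDegree => h ^ (i : ℕ) * u * (h ^ (i : ℕ))⁻¹)
  have h7 : ∀ i ≤ m.natDegree, h ^ i * u * (h ^ i)⁻¹ ∈ K := fun i hi => by
    rcases hi.lt_or_eq with hi | rfl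
    · exact subset_closure ⟨⟨i, hi⟩, rfl⟩
    have e := h6.2.1
    rw [pw, List.range_succ, List.map_append, List.prod_append, List.map_singleton, List.prod_singleton,
      h1.coeff_natDegree, zpow_one] at e
    rw [eq_inv_of_mul_eq_one_right e]
    refine inv_mem (list_prod_mem ?_)
    simp only [List.forall_mem_map, List.mem_range]
    exact fun i hi => K.zpow_mem (Subgroup.subset_closure ⟨⟨i, hi⟩, rfl⟩) _
  have h8 : ∀ i : ℕ, h ^ i * u * (h ^ i)⁻¹ ∈ K := fun i => by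
    induction i with
    | zero => exact h7 0 (Nat.zero_le _)
    | succ i ih =>
      have := (closure_le (K := K.comap (MulAut.conj h).toMonoidHom)).2 (by
        rintro _ ⟨j, rfl⟩
        exact (K.mem_comap).2 (by convert h7 (j + 1) j.2 using 1; simp [pow_succ', mul_assoc])) ih
      convert K.mem_comap.1 this using 1; simp [pow_succ', mul_assoc]
  have h9 : ∀ i k, i + k < m.natDegree → Commute (h ^ i * u * (h ^ i)⁻¹) (h ^ (i + k) * u * (h ^ (i + k))⁻¹) :=
    fun i k hk => by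
      rcases k with _ | k
      · exact Commute.refl _
      · convert (h6.2.2 k (by omega)).map (MulAut.conj (h ^ i)) using 1
        · rfl
        · rw [MulAut.conj_apply]; group
  have : IsMulCommutative K := isMulCommutative_closure (by
    rintro _ ⟨i, rfl⟩ _ ⟨j, rfl⟩
    rcases le_total (i : ℕ) j with e | e <;> obtain ⟨k, e⟩ := Nat.exists_eq_add_of_le e
    · simp only [e]; exact h9 _ _ (e ▸ j.2)
    · simp only [e]; exact (h9 _ _ (e ▸ i.2)).symm)
  obtain ⟨e, A, rfl⟩ := exists_act_poly (u := u) (g := h) fun i j =>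
    congrArg Subtype.val (mul_comm' (⟨_, h8 i⟩ : K) ⟨_, h8 j⟩)
  simpa using A.descend A (fun t => ⟨_, hs t⟩) h5 h6.1 (A.pw_poly m ▸ h6.2.1)

theorem aeval_surj_of {a : F} (h0 : a ≠ 0)
    (H : ∀ k r : ℕ, 2 ≤ k → 2 ≤ r → k ^ r = Nat.card F → a ^ (k - 1) ≠ 1) (t : F) : ∃ f : ℤ[X], aeval a f = t := by
  let K : Subfield F := (aeval a : ℤ[X] →ₐ[ℤ] F).range.toSubring.toSubfield fun x hx => by
    by_cases h0 : x = 0
    · simp [h0]
    have h1 := Finite.one_lt_card (α := F)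
    rw [inv_eq_of_mul_eq_one_right (a := x) (b := x ^ (2 * (Nat.card F - 1) - 1)) (by
      rw [← pow_succ', Nat.sub_add_cancel (by omega), mul_comm, pow_mul, pow_card_sub_one h0, one_pow])]
    exact pow_mem hx _
  have h3 := Module.natCard_eq_pow_finrank (K := K) (V := F)
  suffices h : K = ⊤ from (h ▸ Subfield.mem_top t : t ∈ K)
  rcases hr : Module.finrank K F with _ | _ | j
  · exact absurd hr Module.finrank_pos.ne'
  · rw [hr, zero_add, pow_one] at h3
    exact SetLike.coe_injective (Set.eq_univ_of_forall fun y =>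
      let ⟨z, hz⟩ := ((Nat.bijective_iff_injective_and_card K.subtype).2
        ⟨Subtype.val_injective, h3.symm⟩).2 y; hz ▸ z.2)
  exact absurd (congrArg Subtype.val (pow_card_sub_one (c := (⟨a, X, by simp⟩ : K)) fun e => h0
    (congrArg Subtype.val e))) (H _ _ Finite.one_lt_card (by omega) h3.symm)

end Cfsg.Lib.Pres
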